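/-
Fixed vectors of an operator of prime order on the space moved by an abelian group on which it acts
without fixed points, and characters of commutative groups of operators.
-/
import Mathlib

set_option autoImplicit false
set_option linter.style.haveILetI false
set_option linter.deprecated false

namespace Cfsg.Agent.TurullOne

open Module Finset

universe v

variable {X : Type*} [Group X] {F : Type*} [Field F] {V : Type v} [AddCommGroup V] [Module F V]

/-- The operators of `ρ` applied to a vector. -/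
theorem apply_mul (ρ : X →* Module.End F V) (x y : X) (v : V) : ρ (x * y) v = ρ x (ρ y v) := by
  rw [map_mul, Module.End.mul_apply]

theorem apply_inv_apply (ρ : X →* Module.End F V) (x : X) (v : V) : ρ x⁻¹ (ρ x v) = v := by
  rw [← apply_mul, inv_mul_cancel, map_one, Module.End.one_apply]

theorem apply_apply_inv (ρ : X →* Module.End F V) (x : X) (v : V) : ρ x (ρ x⁻¹ v) = v := by
  rw [← apply_mul, mul_inv_cancel, map_one, Module.End.one_apply]

/-- The part of `Y` moved by `B`. -/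
def mv (ρ : X →* Module.End F V) (B : Subgroup X) (Y : Submodule F V) : Submodule F V :=
  Submodule.span F {v | ∃ b ∈ B, ∃ y ∈ Y, ρ b y - y = v}

theorem sub_mem_mv {ρ : X →* Module.End F V} {B : Subgroup X} {Y : Submodule F V} {b : X}
    (hb : b ∈ B) {y : V} (hy : y ∈ Y) : ρ b y - y ∈ mv ρ B Y :=
  Submodule.subset_span ⟨b, hb, y, hy, rfl⟩

theorem mv_le {ρ : X →* Module.End F V} {B : Subgroup X} {Y : Submodule F V}
    (hY : ∀ b ∈ B, ∀ y ∈ Y, ρ b y ∈ Y) : mv ρ B Y ≤ Y := by
  rw [mv, Submodule.span_le]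
  rintro _ ⟨b, hb, y, hy, rfl⟩
  exact Y.sub_mem (hY b hb y hy) hy

/-- An element normalising `B` and fixing `Y` leaves the moved part invariant. -/
theorem apply_mem_mv {ρ : X →* Module.End F V} {B : Subgroup X} {Y : Submodule F V} {x : X}
    (hx : ∀ b ∈ B, x * b * x⁻¹ ∈ B) (hY : ∀ y ∈ Y, ρ x y ∈ Y) {v : V} (hv : v ∈ mv ρ B Y) :
    ρ x v ∈ mv ρ B Y := by
  induction hv using Submodule.span_induction with
  | mem v hv =>
    obtain ⟨b, hb, y, hy, rfl⟩ := hv
    have h : ρ x (ρ b y - y) = ρ (x * b * x⁻¹) (ρ x y) - ρ x y := by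
      rw [map_sub, ← apply_mul, ← apply_mul]
      congr 3
      group
    rw [h]
    exact sub_mem_mv (hx b hb) (hY y hy)
  | zero => rw [map_zero]; exact zero_mem _
  | add u w _ _ hu hw => rw [map_add]; exact add_mem hu hw
  | smul c u _ hu => rw [map_smul]; exact Submodule.smul_mem _ c hu

theorem mv_mono_left {ρ : X →* Module.End F V} {B : Subgroup X} {Y Y' : Submodule F V} (h : Y ≤ Y') :
    mv ρ B Y ≤ mv ρ B Y' := by
  rw [mv, Submodule.span_le]
  rintro _ ⟨b, hb, y, hy, rfl⟩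
  exact sub_mem_mv hb (h hy)

/-- `B` is normalised by `a`, leaves `Y` invariant, acts on it as an abelian group, and `a` fixes no
non-trivial element of the image. -/
structure AbFpf (ρ : X →* Module.End F V) (a : X) (B : Subgroup X) (Y : Submodule F V) : Prop where
  norm : ∀ b ∈ B, a * b * a⁻¹ ∈ B
  inv : ∀ b ∈ B, ∀ y ∈ Y, ρ b y ∈ Y
  ainv : ∀ y ∈ Y, ρ a y ∈ Y
  comm : ∀ b ∈ B, ∀ c ∈ B, ∀ y ∈ Y, ρ (b * c) y = ρ (c * b) y
  fpf : ∀ b ∈ B, (∀ y ∈ Y, ρ (a * b * a⁻¹) y = ρ b y) → ∀ y ∈ Y, ρ b y = y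

variable {ρ : X →* Module.End F V} {a : X} {B : Subgroup X} {Y : Submodule F V}

theorem AbFpf.pow_norm (h : AbFpf ρ a B Y) (i : ℕ) {b : X} (hb : b ∈ B) :
    a ^ i * b * (a ^ i)⁻¹ ∈ B := by
  induction i with
  | zero => simpa using hb
  | succ i ih =>
    have := h.norm _ ih
    rwa [show a * (a ^ i * b * (a ^ i)⁻¹) * a⁻¹ = a ^ (i + 1) * b * (a ^ (i + 1))⁻¹ by
      rw [pow_succ']; group] at this

theorem AbFpf.pow_ainv (h : AbFpf ρ a B Y) (i : ℕ) {y : V} (hy : y ∈ Y) : ρ (a ^ i) y ∈ Y := by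
  induction i with
  | zero => simpa using hy
  | succ i ih => rw [pow_succ', apply_mul]; exact h.ainv _ ih

theorem AbFpf.mono (h : AbFpf ρ a B Y) {Y' : Submodule F V} (hle : Y' ≤ Y)
    (hinv : ∀ b ∈ B, ∀ y ∈ Y', ρ b y ∈ Y') (hainv : ∀ y ∈ Y', ρ a y ∈ Y')
    (hfpf : ∀ b ∈ B, (∀ y ∈ Y', ρ (a * b * a⁻¹) y = ρ b y) → ∀ y ∈ Y', ρ b y = y) :
    AbFpf ρ a B Y' :=
  ⟨h.norm, hinv, hainv, fun b hb c hc y hy => h.comm b hb c hc y (hle hy), hfpf⟩

/-- The trace of `v` over the powers of `a`. -/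
def tr (ρ : X →* Module.End F V) (a : X) (r : ℕ) (v : V) : V := ∑ i ∈ range r, ρ (a ^ i) v

theorem apply_tr {r : ℕ} (ha : a ^ r = 1) (v : V) : ρ a (tr ρ a r v) = tr ρ a r v := by
  rw [tr, map_sum]
  rcases Nat.eq_zero_or_pos r with rfl | hr
  · simp
  · simp_rw [← apply_mul, ← pow_succ']
    have e := Finset.sum_range_succ (fun i => ρ (a ^ i) v) r
    rw [Finset.sum_range_succ', ha, pow_zero] at e
    exact add_right_cancel e

theorem pow_apply_eq {v : V} (hv : ρ a v = v) (i : ℕ) : ρ (a ^ i) v = v := by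
  induction i with
  | zero => simp
  | succ i ih => rw [pow_succ', apply_mul, ih, hv]

theorem exists_mul_mod_eq_one {r i : ℕ} (hr : r.Prime) (hi : ¬ r ∣ i) : ∃ k, i * k % r = 1 := by
  obtain ⟨k, hk⟩ := Nat.exists_mul_mod_eq_one_of_coprime
    ((hr.coprime_iff_not_dvd.mpr hi).symm) hr.one_lt
  exact ⟨k, hk.2⟩

theorem mem_powers_of_not_dvd {r i : ℕ} (hr : r.Prime) (ha : a ^ r = 1) (hi : ¬ r ∣ i) :
    ∃ k, (a ^ i) ^ k = a := by
  obtain ⟨k, hk⟩ := exists_mul_mod_eq_one hr hi
  refine ⟨k, ?_⟩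
  rw [← pow_mul, ← Nat.div_add_mod (i * k) r, hk, pow_add, pow_mul, ha, one_pow, one_mul, pow_one]

/-- If a power of `a` fixes the image of `b`, then so does `a`. -/
theorem AbFpf.fixed_of_pow (h : AbFpf ρ a B Y) {r i : ℕ} (hr : r.Prime) (ha : a ^ r = 1)
    (hi : ¬ r ∣ i) {b : X} (hb : b ∈ B)
    (hfix : ∀ y ∈ Y, ρ (a ^ i * b * (a ^ i)⁻¹) y = ρ b y) :
    ∀ y ∈ Y, ρ (a * b * a⁻¹) y = ρ b y := by
  obtain ⟨k, hk⟩ := mem_powers_of_not_dvd hr ha hi
  have : ∀ m : ℕ, ∀ y ∈ Y, ρ ((a ^ i) ^ m * b * ((a ^ i) ^ m)⁻¹) y = ρ b y := by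
    intro m
    induction m with
    | zero => intro y _; simp
    | succ m ih =>
      intro y hy
      have e : (a ^ i) ^ (m + 1) * b * ((a ^ i) ^ (m + 1))⁻¹
          = a ^ i * ((a ^ i) ^ m * b * ((a ^ i) ^ m)⁻¹) * (a ^ i)⁻¹ := by
        rw [pow_succ']; group
      have hy' : ρ (a ^ i)⁻¹ y ∈ Y := by
        have : (a ^ i)⁻¹ = a ^ (i * (r - 1)) := by
          refine inv_eq_of_mul_eq_one_right ?_
          rw [← pow_add, show i + i * (r - 1) = r * i by
            conv_lhs => rw [show i + i * (r - 1) = i * (1 + (r - 1)) by ring]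
            rw [show 1 + (r - 1) = r by have := hr.one_lt; omega]
            ring, pow_mul, ha, one_pow]
        rw [this]
        exact h.pow_ainv _ hy
      rw [e, apply_mul, apply_mul, ih _ hy', ← apply_mul, ← apply_mul, ← hfix y hy]
  intro y hy
  have := this k y hy
  rwa [hk] at this

/-- The action of `B` on `Y`. -/
def AbFpf.res (h : AbFpf ρ a B Y) : B →* Module.End F Y where
  toFun b := (ρ (b : X)).restrict (fun y hy => h.inv _ b.2 y hy)
  map_one' := LinearMap.ext fun y => Subtype.ext (by simp)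
  map_mul' b c := LinearMap.ext fun y => Subtype.ext (by simp)

theorem AbFpf.res_comm (h : AbFpf ρ a B Y) (b c : B) : h.res b * h.res c = h.res c * h.res b := by
  rw [← map_mul, ← map_mul]
  exact LinearMap.ext fun y => Subtype.ext (h.comm _ b.2 _ c.2 y y.2)

theorem AbFpf.res_apply (h : AbFpf ρ a B Y) (b : B) {y : V} (hy : y ∈ Y) :
    ((h.res b ⟨y, hy⟩ : Y) : V) = ρ (b : X) y := rfl

theorem AbFpf.res_eq (h : AbFpf ρ a B Y) {b c : B} (e : ∀ y ∈ Y, ρ (b : X) y = ρ (c : X) y) :
    h.res b = h.res c := LinearMap.ext fun y => Subtype.ext (e y y.2)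

/-- Every element of `B` is, on `Y`, a commutator with a non-trivial power of `a`. -/
theorem AbFpf.exists_comm (h : AbFpf ρ a B Y) [Finite X] {r i : ℕ} (hr : r.Prime) (ha : a ^ r = 1)
    (hi : ¬ r ∣ i) {c : X} (hc : c ∈ B) :
    ∃ d ∈ B, ∀ y ∈ Y, ρ (d⁻¹ * (a ^ i * d * (a ^ i)⁻¹)) y = ρ c y := by
  classical
  let f := h.res
  have feq : ∀ {b c : B}, (∀ y ∈ Y, ρ (b : X) y = ρ (c : X) y) → f b = f c := h.res_eq
  let cj : B → B := fun b => ⟨a ^ i * b * (a ^ i)⁻¹, h.pow_norm i b.2⟩
  have hcj : ∀ b b' : B, cj (b * b') = cj b * cj b' := fun b b' => Subtype.ext (by simp [cj])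
  have hfc : ∀ b b' : B, f b * f b' = f b' * f b := h.res_comm
  let g : B →* Module.End F Y :=
    { toFun := fun b => f (b⁻¹ * cj b)
      map_one' := by rw [show cj 1 = 1 from Subtype.ext (by simp [cj])]; simp
      map_mul' := fun b b' => by
        simp only [hcj, mul_inv_rev, map_mul, mul_assoc]
        rw [← map_mul f (cj b) (cj b'), ← map_mul f b⁻¹, hfc, map_mul, map_mul, mul_assoc, mul_assoc,
          hfc (cj b') (b'⁻¹)] }
  have hker : g.toHomUnits.ker = f.toHomUnits.ker := by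
    ext b
    simp only [MonoidHom.mem_ker, Units.ext_iff, MonoidHom.coe_toHomUnits, Units.val_one]
    show f (b⁻¹ * cj b) = 1 ↔ f b = 1
    constructor
    · intro hb
      have hfix : f (cj b) = f b := by
        have : f (b * (b⁻¹ * cj b)) = f b := by rw [map_mul, hb, mul_one]
        rwa [mul_inv_cancel_left] at this
      have := h.fixed_of_pow hr ha hi b.2 fun y hy => congrArg Subtype.val (LinearMap.congr_fun hfix ⟨y, hy⟩)
      exact LinearMap.ext fun y => Subtype.ext (h.fpf _ b.2 this y y.2)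
    · intro hb
      have hby : ∀ y ∈ Y, ρ (b : X) y = y := fun y hy => congrArg Subtype.val (LinearMap.congr_fun hb ⟨y, hy⟩)
      have hcb : f (cj b) = 1 := by
        refine LinearMap.ext fun y => Subtype.ext ?_
        have hy' : ρ (a ^ i)⁻¹ y ∈ Y := by
          obtain ⟨m, hm⟩ : ∃ m : ℕ, a ^ m = (a ^ i)⁻¹ :=
            mem_powers_iff_mem_zpowers.mpr (inv_mem (Subgroup.pow_mem _ (Subgroup.mem_zpowers a) i))
          rw [← hm]; exact h.pow_ainv _ y.2
        show ρ (a ^ i * b * (a ^ i)⁻¹) y = y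
        rw [apply_mul, apply_mul, hby _ hy', apply_apply_inv]
      rw [map_mul, hcb, mul_one]
      have h1 : f b⁻¹ * f b = 1 := by rw [← map_mul, inv_mul_cancel, map_one]
      rwa [hb, mul_one] at h1
  have hle : g.toHomUnits.range ≤ f.toHomUnits.range := by
    rintro _ ⟨b, rfl⟩
    exact ⟨b⁻¹ * cj b, Units.ext rfl⟩
  have hcard : Nat.card f.toHomUnits.range ≤ Nat.card g.toHomUnits.range := by
    rw [← Nat.card_congr (QuotientGroup.quotientKerEquivRange g.toHomUnits).toEquiv,
      ← Nat.card_congr (QuotientGroup.quotientKerEquivRange f.toHomUnits).toEquiv, hker]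
  haveI : Finite f.toHomUnits.range := Finite.of_surjective _ f.toHomUnits.rangeRestrict_surjective
  obtain ⟨d, hd⟩ := (Subgroup.eq_of_le_of_card_ge hle hcard).ge ⟨⟨c, hc⟩, rfl⟩
  exact ⟨d, d.2, fun y hy =>
    congrArg Subtype.val (LinearMap.congr_fun (congrArg Units.val hd) ⟨y, hy⟩)⟩

variable [Finite X]

/-- The sum over `B` kills the part moved by `B`. -/
theorem sum_apply_mv [Fintype B] {v : V} (hv : v ∈ mv ρ B Y) : ∑ b : B, ρ (b : X) v = 0 := by
  induction hv using Submodule.span_induction with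
  | mem v hv =>
    obtain ⟨c, hc, y, _, rfl⟩ := hv
    simp only [map_sub, Finset.sum_sub_distrib, ← apply_mul]
    rw [sub_eq_zero]
    exact Fintype.sum_equiv (Equiv.mulRight (⟨c, hc⟩ : B)) _ _ fun b => rfl
  | zero => simp
  | add u w _ _ hu hw => simp [Finset.sum_add_distrib, hu, hw]
  | smul k u _ hu => simp [← Finset.smul_sum, hu]

/-- The fixed vectors of `a` in the part moved by `B` generate it as a `B`-module. -/
theorem AbFpf.mv_le_span (h : AbFpf ρ a B Y) {r : ℕ} (hr : r.Prime) (ha : a ^ r = 1)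
    (hBF : (Nat.card B : F) ≠ 0) :
    mv ρ B Y ≤ Submodule.span F {v | ∃ b ∈ B, ∃ w ∈ mv ρ B Y, ρ a w = w ∧ ρ b w = v} := by
  classical
  let : Fintype B := Fintype.ofFinite B
  intro v hv
  set Mv := mv ρ B Y
  have hMY : Mv ≤ Y := mv_le h.inv
  have hain : ∀ i : ℕ, ∀ u ∈ Mv, ρ (a ^ i) u ∈ Mv := fun i u hu =>
    apply_mem_mv (fun b hb => h.pow_norm i hb) (fun y hy => h.pow_ainv i hy) hu
  have hbin : ∀ b ∈ B, ∀ u ∈ Mv, ρ b u ∈ Mv := fun b hb u hu =>
    apply_mem_mv (fun c hc => B.mul_mem (B.mul_mem hb hc) (inv_mem hb)) (fun y hy => h.inv b hb y hy) hu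
  have hkey : ∑ b : B, ρ (b : X) (tr ρ a r (ρ (b : X)⁻¹ v)) = (Nat.card B : F) • v := by
    simp only [tr, map_sum]
    rw [Finset.sum_comm, Finset.sum_eq_single 0]
    · rw [Nat.card_eq_fintype_card]
      simp [apply_apply_inv, Nat.cast_smul_eq_nsmul]
    · intro i hi hi0
      have hri : ¬ r ∣ i := fun hd => by
        have := Nat.le_of_dvd (Nat.pos_of_ne_zero hi0) hd
        have := mem_range.mp hi
        omega
      set u := ρ (a ^ i) v with hu
      have huM : u ∈ Mv := hain i v hv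
      have hterm : ∀ b : B, ρ (b : X) (ρ (a ^ i) (ρ (b : X)⁻¹ v))
          = ρ ((b : X) * (a ^ i * b * (a ^ i)⁻¹)⁻¹) u := fun b => by
        rw [hu, ← apply_mul, ← apply_mul, ← apply_mul]
        congr 2
        group
      rw [Finset.sum_congr rfl fun b _ => hterm b]
      set S : Module.End F V := ∑ b : B, ρ ((b : X) * (a ^ i * b * (a ^ i)⁻¹)⁻¹) with hS
      have hSap : ∀ w, S w = ∑ b : B, ρ ((b : X) * (a ^ i * b * (a ^ i)⁻¹)⁻¹) w := fun w => by simp [hS]
      rw [← hSap]
      -- translating by a commutator does not change the sum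
      suffices hkill : ∀ w ∈ Mv, S w = 0 from hkill u huM
      intro w hw
      induction hw using Submodule.span_induction with
      | mem w hw =>
        obtain ⟨c, hc, y, hy, rfl⟩ := hw
        obtain ⟨d, hd, hdy⟩ := h.exists_comm hr ha hri (inv_mem hc)
        rw [map_sub, sub_eq_zero, hSap, hSap]
        refine Fintype.sum_equiv (Equiv.mulRight (⟨d, hd⟩ : B)) _ _ fun b => ?_
        let b' : B := b
        let d' : B := ⟨d, hd⟩
        let A' : B := ⟨a ^ i * b * (a ^ i)⁻¹, h.pow_norm i b.2⟩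
        let D' : B := ⟨a ^ i * d * (a ^ i)⁻¹, h.pow_norm i hd⟩
        let c' : B := ⟨c, hc⟩
        have hc' : h.res c'⁻¹ = h.res (d'⁻¹ * D') := h.res_eq fun z hz => (hdy z hz).symm
        have hcc : h.res c' = h.res (D'⁻¹ * d') := by
          have := congrArg (fun t => h.res c' * (t * h.res (D'⁻¹ * d'))) hc'
          simp only [← map_mul] at this
          rw [show c' * (c'⁻¹ * (D'⁻¹ * d')) = D'⁻¹ * d' by group,
            show c' * (d'⁻¹ * D' * (D'⁻¹ * d')) = c' by group] at this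
          exact this.symm
        have key : h.res (b' * A'⁻¹) * h.res c' = h.res ((b' * d') * (A' * D')⁻¹) := by
          rw [hcc, mul_inv_rev, map_mul h.res b', mul_assoc, h.res_comm A'⁻¹, map_mul h.res D'⁻¹,
            h.res_comm D'⁻¹ d']
          simp only [map_mul, mul_assoc]
        have k2 := congrArg Subtype.val (LinearMap.congr_fun key ⟨y, hy⟩)
        have e : a ^ i * ((b : X) * d) * (a ^ i)⁻¹ = (A' : X) * (D' : X) := by simp [A', D']
        simp only [Equiv.coe_mulRight, Subgroup.coe_mul]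
        rw [e]
        exact k2
      | zero => exact map_zero _
      | add u w _ _ hu hw => rw [map_add, hu, hw, add_zero]
      | smul k u _ hu => rw [map_smul, hu, smul_zero]
    · intro h0
      exact absurd (mem_range.mpr hr.pos) h0
  have hmem : (Nat.card B : F) • v ∈ Submodule.span F {v | ∃ b ∈ B, ∃ w ∈ Mv, ρ a w = w ∧ ρ b w = v} := by
    rw [← hkey]
    refine Submodule.sum_mem _ fun b _ => Submodule.subset_span ⟨b, b.2, _, ?_, apply_tr ha _, rfl⟩
    exact Submodule.sum_mem _ fun i _ => hain i _ (hbin _ (inv_mem b.2) v hv)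
  have := Submodule.smul_mem _ (Nat.card B : F)⁻¹ hmem
  rwa [smul_smul, inv_mul_cancel₀ hBF, one_smul] at this

/-- An operator commuting with `B` that kills the fixed moved vectors kills all moved vectors. -/
theorem AbFpf.kill_of_fixed (h : AbFpf ρ a B Y) {r : ℕ} (hr : r.Prime) (ha : a ^ r = 1)
    (hBF : (Nat.card B : F) ≠ 0) {W : Type*} [AddCommGroup W] [Module F W] (f : V →ₗ[F] W)
    (hf : ∀ b ∈ B, ∀ w ∈ mv ρ B Y, ρ a w = w → f w = 0 → f (ρ b w) = 0)
    (hfix : ∀ w ∈ mv ρ B Y, ρ a w = w → f w = 0) : ∀ v ∈ mv ρ B Y, f v = 0 := by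
  intro v hv
  refine (Submodule.span_le (p := LinearMap.ker f)).mpr ?_ (h.mv_le_span hr ha hBF hv)
  rintro _ ⟨b, hb, w, hw, haw, rfl⟩
  exact LinearMap.mem_ker.mpr (hf b hb w hw haw (hfix w hw haw))

/-- In an Artinian commutative ring, an element of finite invertible order congruent to one modulo
every maximal ideal is one. -/
theorem eq_one_of_forall_mem {A : Type*} [CommRing A] [IsArtinianRing A] (x : A) {N : ℕ}
    (hNu : IsUnit (N : A)) (hxN : x ^ N = 1) (hxm : ∀ m : Ideal A, m.IsMaximal → x - 1 ∈ m) : x = 1 := by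
  have hjac : x - 1 ∈ Ideal.jacobson (⊥ : Ideal A) := by
    rw [Ideal.jacobson, Ideal.mem_sInf]
    intro m hm
    exact hxm m hm.2
  have hnil : IsNilpotent (x - 1) := by
    obtain ⟨k, hk⟩ := IsArtinianRing.isNilpotent_jacobson_bot (R := A)
    refine ⟨k, ?_⟩
    have := Ideal.pow_mem_pow hjac k
    rwa [hk, Ideal.zero_eq_bot, Submodule.mem_bot] at this
  set d := x - 1 with hd
  have hgeo : d * ∑ i ∈ range N, x ^ i = 0 := by rw [mul_geom_sum, hxN, sub_self]
  have hunit : IsUnit (∑ i ∈ range N, x ^ i) := by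
    have hdiff : IsNilpotent ((∑ i ∈ range N, x ^ i) - (N : A)) := by
      have : (∑ i ∈ range N, x ^ i) - (N : A) = d * ∑ i ∈ range N, ∑ k ∈ range i, x ^ k := by
        rw [Finset.mul_sum]
        simp only [hd, mul_geom_sum, Finset.sum_sub_distrib, Finset.sum_const, Finset.card_range, nsmul_one]
      rw [this]
      exact (Commute.all _ _).isNilpotent_mul_right hnil
    have := hdiff.isUnit_add_left_of_commute hNu (Commute.all _ _)
    rwa [add_sub_cancel] at this
  exact sub_eq_zero.mp (hunit.mul_left_eq_zero.mp hgeo)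

/-- A commutative set of operators has a character separating a non-trivial element of finite
order prime to the characteristic. -/
theorem exists_char_ne [FiniteDimensional F V] (S : Set (Module.End F V))
    (hS : ∀ x ∈ S, ∀ y ∈ S, x * y = y * x) {g : Module.End F V} (hg : g ∈ Algebra.adjoin F S)
    {N : ℕ} (hN : (N : F) ≠ 0) (hgN : g ^ N = 1) (hg1 : g ≠ 1) :
    ∃ (L : Type v) (_ : Field L) (φ : Algebra.adjoin F S →+* L), φ ⟨g, hg⟩ ≠ 1 := by
  let : CommRing (Algebra.adjoin F S) := Algebra.adjoinCommRingOfComm F hS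
  have : Module.Finite F (Algebra.adjoin F S) := FiniteDimensional.finiteDimensional_subalgebra _
  have : IsArtinianRing (Algebra.adjoin F S) := IsArtinianRing.of_finite F (Algebra.adjoin F S)
  by_contra hcon
  push Not at hcon
  apply hg1
  have hNu : IsUnit (N : Algebra.adjoin F S) := by
    have := (IsUnit.mk0 (N : F) hN).map (algebraMap F (Algebra.adjoin F S))
    rwa [map_natCast] at this
  exact congrArg Subtype.val (eq_one_of_forall_mem (⟨g, hg⟩ : Algebra.adjoin F S) hNu
    (Subtype.ext (by simpa using hgN)) fun m hm => Ideal.Quotient.eq.mp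
      ((hcon (Algebra.adjoin F S ⧸ m) (Ideal.Quotient.field m) (Ideal.Quotient.mk m)).trans
        (map_one _).symm))

end Cfsg.Agent.TurullOne
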