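/-
A group of class two acting with scalar centre, and an operator permuting it semiregularly:
irreducibility of the restriction and the multiplicity of the eigenvalue one.
-/
import Mathlib
import Cfsg.Agent.FPFPower.Diag
import Cfsg.Agent.TurullOne.Reps

set_option autoImplicit false
set_option linter.style.haveILetI false

namespace Cfsg.Agent.TurullOne

open Module Finset
open Cfsg.Agent.FPFPower (centEnd mem_centEnd)

/-- An invariant subspace has an invariant complement, in coprime characteristic. -/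
theorem exists_invariant_compl {X : Type*} [Group X] {F : Type*} [Field F] {V : Type*} [AddCommGroup V]
    [Module F V] (ρ : X →* Module.End F V) (G : Subgroup X) [Finite G] (hG : (Nat.card G : F) ≠ 0)
    (Y : Submodule F V) (hY : ∀ g ∈ G, ∀ y ∈ Y, ρ g y ∈ Y) :
    ∃ Y' : Submodule F V, (∀ g ∈ G, ∀ y ∈ Y', ρ g y ∈ Y') ∧ IsCompl Y Y' := by
  classical
  letI := Fintype.ofFinite G
  obtain ⟨Z, hZ⟩ := Submodule.exists_isCompl Y
  let p : V →ₗ[F] V := Y.subtype ∘ₗ Submodule.projectionOnto Y Z hZ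
  have hp : ∀ y ∈ Y, p y = y := fun y hy => by
    show ((Submodule.projectionOnto Y Z hZ ((⟨y, hy⟩ : Y) : V) : Y) : V) = y
    rw [Submodule.projectionOnto_apply_left]
  have hpY : ∀ v, p v ∈ Y := fun v => Submodule.coe_mem _
  let P : Module.End F V := (Nat.card G : F)⁻¹ • ∑ g : G, ρ g * p * ρ (g : X)⁻¹
  have hPap : ∀ v, P v = (Nat.card G : F)⁻¹ • ∑ g : G, ρ g (p (ρ (g : X)⁻¹ v)) := fun v => by simp [P]
  have hPY : ∀ v, P v ∈ Y := fun v => by
    rw [hPap]
    exact Y.smul_mem _ (Submodule.sum_mem _ fun g _ => hY g g.2 _ (hpY _))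
  have hPid : ∀ y ∈ Y, P y = y := fun y hy => by
    rw [hPap, Finset.sum_congr rfl fun (g : G) _ => show ρ g (p (ρ (g : X)⁻¹ y)) = y by
      rw [hp _ (hY _ (inv_mem g.2) _ hy), apply_apply_inv]]
    rw [Finset.sum_const, Finset.card_univ, ← Nat.card_eq_fintype_card, ← Nat.cast_smul_eq_nsmul F, smul_smul,
      inv_mul_cancel₀ hG, one_smul]
  have hcomm : ∀ h ∈ G, ∀ v, P (ρ h v) = ρ h (P v) := fun h hh v => by
    rw [hPap, hPap, map_smul, map_sum]
    congr 1
    refine Fintype.sum_equiv (Equiv.mulLeft (⟨h, hh⟩ : G)⁻¹) _ _ fun g => ?_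
    simp only [Equiv.coe_mulLeft, Subgroup.coe_mul, Subgroup.coe_inv, ← apply_mul]
    rw [show h * (h⁻¹ * (g : X)) = g by group, show (h⁻¹ * (g : X))⁻¹ = (g : X)⁻¹ * h by group]
  refine ⟨LinearMap.ker P, fun g hg y hy => ?_, ?_⟩
  · rw [LinearMap.mem_ker] at hy ⊢
    rw [hcomm g hg, hy, map_zero]
  · refine IsCompl.of_eq ((Submodule.eq_bot_iff _).mpr fun v hv => ?_) (eq_top_iff.mpr fun v _ => ?_)
    · rw [← hPid v hv.1]; exact hv.2
    · rw [Submodule.mem_sup]
      exact ⟨P v, hPY v, v - P v, by rw [LinearMap.mem_ker, map_sub, hPid _ (hPY v), sub_self],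
        add_sub_cancel _ _⟩

/-- A linear map not vanishing on an invariant subspace does not vanish on an irreducible one. -/
theorem exists_irreducible_not_kill {X : Type*} [Group X] {F : Type*} [Field F] {V : Type*} [AddCommGroup V]
    [Module F V] [FiniteDimensional F V] {W : Type*} [AddCommGroup W] [Module F W]
    (ρ : X →* Module.End F V) (G : Subgroup X) [Finite G] (hG : (Nat.card G : F) ≠ 0) (f : V →ₗ[F] W)
    (Y : Submodule F V) (hY : ∀ g ∈ G, ∀ y ∈ Y, ρ g y ∈ Y) {v : V} (hv : v ∈ Y) (hfv : f v ≠ 0) :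
    ∃ W0 : Submodule F V, W0 ≤ Y ∧ (∀ g ∈ G, ∀ y ∈ W0, ρ g y ∈ W0) ∧
      (∀ Z ≤ W0, (∀ g ∈ G, ∀ y ∈ Z, ρ g y ∈ Z) → Z = ⊥ ∨ Z = W0) ∧ ∃ w ∈ W0, f w ≠ 0 := by
  classical
  induction hd : finrank F Y using Nat.strong_induction_on generalizing Y v with
  | _ d ih =>
    by_cases hirr : ∀ Z ≤ Y, (∀ g ∈ G, ∀ y ∈ Z, ρ g y ∈ Z) → Z = ⊥ ∨ Z = Y
    · exact ⟨Y, le_rfl, hY, hirr, v, hv, hfv⟩
    push Not at hirr
    obtain ⟨Z, hZY, hZinv, hZbot, hZne⟩ := hirr
    obtain ⟨Z', hZ'inv, hc⟩ := exists_invariant_compl ρ G hG Z hZinv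
    have hlt : Z < Y := lt_of_le_of_ne hZY hZne
    have hlt' : Z' ⊓ Y < Y := by
      refine lt_of_le_of_ne inf_le_right fun e => hZbot (eq_bot_iff.mpr ?_)
      intro z hz
      have h1 : z ∈ Z' ⊓ Y := e.symm ▸ hZY hz
      exact hc.disjoint.le_bot ⟨hz, h1.1⟩
    have hmem : v ∈ Z ⊔ Z' := by rw [hc.sup_eq_top]; trivial
    obtain ⟨z, hz, z', hz', rfl⟩ := Submodule.mem_sup.mp hmem
    have hz'Y : z' ∈ Y := by simpa using Y.sub_mem hv (hZY hz)
    by_cases hfz : f z = 0
    · have hfz' : f z' ≠ 0 := by simpa [hfz] using hfv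
      obtain ⟨W0, h1, h2⟩ := ih _ (hd ▸ Submodule.finrank_lt_finrank_of_lt hlt') (Z' ⊓ Y)
        (fun g hg y hy => ⟨hZ'inv g hg y hy.1, hY g hg y hy.2⟩) ⟨hz', hz'Y⟩ hfz' rfl
      exact ⟨W0, h1.trans inf_le_right, h2⟩
    · obtain ⟨W0, h1, h2⟩ := ih _ (hd ▸ Submodule.finrank_lt_finrank_of_lt hlt) Z hZinv hz hfz rfl
      exact ⟨W0, h1.trans hZY, h2⟩

variable {k : Type*} [Field k] [IsAlgClosed k] {W : Type*} [AddCommGroup W] [Module k W] [FiniteDimensional k W]
variable {X : Type*} [Group X] [Finite X]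

/-- `E` acts as a group of class two with `R` acting by scalars and non-degenerate modulo `R`. -/
structure HeisRep (ρ : X →* Module.End k W) (E R : Subgroup X) : Prop where
  R_le : R ≤ E
  scal : ∀ z ∈ R, ∃ c : k, ρ z = c • 1
  comm_mem : ∀ x ∈ E, ∀ y ∈ E, x * y * x⁻¹ * y⁻¹ ∈ R
  sep : ∀ w ∈ E, w ∉ R → ∃ s ∈ E, ρ (s * w * s⁻¹ * w⁻¹) ≠ 1

omit [IsAlgClosed k] [FiniteDimensional k W] [Finite X] in
theorem HeisRep.mem_of_scalar {ρ : X →* Module.End k W} {E R : Subgroup X} (H : HeisRep ρ E R) {w : X}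
    (hw : w ∈ E) (h : ∀ s ∈ E, ρ s * ρ w = ρ w * ρ s) : w ∈ R := by
  by_contra hwR
  obtain ⟨s, hs, hne⟩ := H.sep w hw hwR
  apply hne
  rw [map_mul, map_mul, map_mul, h s hs, mul_assoc (ρ w), ← map_mul ρ s, mul_inv_cancel, map_one, mul_one,
    ← map_mul, mul_inv_cancel, map_one]

omit [IsAlgClosed k] [FiniteDimensional k W] in
/-- Every operator is a combination of group elements with coefficients in the commutant. -/
theorem HeisRep.commute_of_commutant {ρ : X →* Module.End k W} {E R : Subgroup X} (H : HeisRep ρ E R)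
    (hEk : (Nat.card E : k) ≠ 0) (c : Module.End k W) (hcE : ∀ x ∈ E, Commute c (ρ x))
    (hc : ∀ d : Module.End k W, (∀ x ∈ E, Commute d (ρ x)) → Commute c d) (f : Module.End k W) :
    Commute c f := by
  classical
  letI := Fintype.ofFinite E
  let K : E → Module.End k W := fun x =>
    ∑ y : E, ρ (y : X) * (f * ρ (x : X)⁻¹) * ρ (y : X)⁻¹
  have hK : ∀ x : E, ∀ z ∈ E, Commute (K x) (ρ z) := by
    intro x z hz
    show K x * ρ z = ρ z * K x
    simp only [K, Finset.sum_mul, Finset.mul_sum]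
    refine (Fintype.sum_equiv (Equiv.mulLeft (⟨z, hz⟩ : E)) _ _ fun y => ?_).symm
    simp only [Equiv.coe_mulLeft, Subgroup.coe_mul]
    rw [map_mul ρ z (y : X), mul_inv_rev, map_mul ρ (y : X)⁻¹ z⁻¹]
    simp only [mul_assoc]
    rw [← map_mul ρ z⁻¹ z, inv_mul_cancel, map_one, mul_one]
  have hsum : ∑ x : E, K x * ρ (x : X) = ((Nat.card E : k) * (Nat.card R : k)) • f := by
    simp only [K, Finset.sum_mul]
    rw [Finset.sum_comm]
    have hin : ∀ y : E, ∑ x : E, ρ (y : X) * (f * ρ (x : X)⁻¹) * ρ (y : X)⁻¹ * ρ (x : X)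
        = if (y : X) ∈ R then (Nat.card E : k) • f else 0 := by
      intro y
      have e : ∀ x : E, ρ (y : X) * (f * ρ (x : X)⁻¹) * ρ (y : X)⁻¹ * ρ (x : X)
          = ρ (y : X) * f * (ρ ((x : X)⁻¹ * (y : X)⁻¹ * x * (y : X)) * ρ (y : X)⁻¹) := by
        intro x
        simp only [mul_assoc, ← map_mul]
        congr 3
        group
      simp only [e, ← Finset.mul_sum, ← Finset.sum_mul]
      split_ifs with hy
      · obtain ⟨cy, hcy⟩ := H.scal _ hy
        have h1 : ∀ x : E, ρ ((x : X)⁻¹ * (y : X)⁻¹ * x * (y : X)) = 1 := fun x => by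
          obtain ⟨cy', hcy'⟩ := H.scal _ (inv_mem hy)
          rw [map_mul, map_mul, map_mul, hcy', mul_smul_comm, mul_one, smul_mul_assoc, ← map_mul ρ, inv_mul_cancel,
            map_one, ← hcy', ← map_mul, inv_mul_cancel, map_one]
        rw [Finset.sum_congr rfl fun x _ => h1 x, Finset.sum_const, Finset.card_univ,
          ← Nat.card_eq_fintype_card, ← Nat.cast_smul_eq_nsmul k, smul_mul_assoc, one_mul, mul_smul_comm]
        congr 1
        rw [hcy, smul_mul_assoc, one_mul, smul_mul_assoc, ← mul_smul_comm, ← smul_one_mul cy (ρ (y : X)⁻¹), ← hcy,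
          ← map_mul, mul_inv_cancel, map_one, mul_one]
      · obtain ⟨s, hs, hne⟩ := H.sep (y : X)⁻¹ (inv_mem y.2) (fun h => hy (by simpa using inv_mem h))
        obtain ⟨cs, hcs⟩ := H.scal _ (H.comm_mem s hs _ (inv_mem y.2))
        have hcs1 : cs ≠ 1 := fun h => hne (by rw [hcs, h, one_smul])
        set S := ∑ x : E, ρ ((x : X)⁻¹ * (y : X)⁻¹ * x * (y : X)) with hS
        have key : cs • S = S := by
          rw [hS, Finset.smul_sum]
          refine Fintype.sum_equiv (Equiv.mulRight (⟨s, hs⟩ : E)⁻¹) _ _ fun x => ?_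
          simp only [Equiv.coe_mulRight, Subgroup.coe_mul, Subgroup.coe_inv]
          obtain ⟨cx, hcx⟩ := H.scal _ (H.comm_mem _ (inv_mem x.2) _ (inv_mem y.2))
          rw [inv_inv, inv_inv] at hcx
          have e2 : ((x : X) * s⁻¹)⁻¹ * (y : X)⁻¹ * ((x : X) * s⁻¹) * (y : X)
              = s * ((x : X)⁻¹ * (y : X)⁻¹ * x * (y : X)) * s⁻¹ * (s * (y : X)⁻¹ * s⁻¹ * (y : X)) := by group
          have hcs' : ρ (s * (y : X)⁻¹ * s⁻¹ * (y : X)) = cs • 1 := by
            rw [← hcs, inv_inv]
          rw [e2, map_mul ρ (s * ((x : X)⁻¹ * (y : X)⁻¹ * x * (y : X)) * s⁻¹), hcs', mul_smul_comm, mul_one,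
            map_mul ρ (s * ((x : X)⁻¹ * (y : X)⁻¹ * x * (y : X))) s⁻¹,
            map_mul ρ s ((x : X)⁻¹ * (y : X)⁻¹ * x * (y : X)), hcx,
            mul_smul_comm, mul_one, smul_mul_assoc, ← map_mul, mul_inv_cancel, map_one]
        have h0 : S = 0 := by
          have : (cs - 1) • S = 0 := by rw [sub_smul, one_smul, key, sub_self]
          exact (smul_eq_zero.mp this).resolve_left (sub_ne_zero.mpr hcs1)
        rw [h0, zero_mul, mul_zero]
    rw [Finset.sum_congr rfl fun y _ => hin y, ← Finset.sum_filter, Finset.sum_const, ← Nat.cast_smul_eq_nsmul k,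
      smul_smul, mul_comm]
    congr 3
    rw [← Nat.card_congr (Subgroup.subgroupOfEquivOfLe H.R_le).toEquiv, Nat.card_eq_fintype_card,
      ← Fintype.card_subtype]
    exact Fintype.card_congr (Equiv.refl _)
  have hne : (Nat.card E : k) * (Nat.card R : k) ≠ 0 := by
    refine mul_ne_zero hEk fun h => hEk ?_
    obtain ⟨m, hm⟩ := Subgroup.card_dvd_of_le H.R_le
    rw [hm, Nat.cast_mul, h, zero_mul]
  have hcs : Commute c (((Nat.card E : k) * (Nat.card R : k)) • f) := by
    rw [← hsum]
    exact Commute.sum_right _ _ _ fun x _ => (hc _ (hK x)).mul_right (hcE x x.2)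
  have := hcs.smul_right ((Nat.card E : k) * (Nat.card R : k))⁻¹
  rwa [smul_smul, inv_mul_cancel₀ hne, one_smul] at this

omit [Finite X] in
/-- A cyclic extension of the commutant: only scalars commute with `E`. -/
theorem HeisRep.eq_smul_one [Finite X] [Nontrivial W] {ρ : X →* Module.End k W} {E R : Subgroup X}
    (H : HeisRep ρ E R) (hEk : (Nat.card E : k) ≠ 0) (T : Module.End k W) {N : ℕ} (hNk : (N : k) ≠ 0)
    (hT : T ^ N = 1) (hTE : ∀ x ∈ E, ∃ x' ∈ E, T * ρ x = ρ x' * T)
    (hirr : ∀ Y : Submodule k W, (∀ x ∈ E, ∀ y ∈ Y, ρ x y ∈ Y) → (∀ y ∈ Y, T y ∈ Y) → Y = ⊥ ∨ Y = ⊤)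
    {c : Module.End k W} (hc : ∀ x ∈ E, Commute c (ρ x)) : ∃ μ : k, c = μ • 1 := by
  classical
  have hN0 : 0 < N := Nat.pos_of_ne_zero fun h => hNk (by simp [h])
  set T' := T ^ (N - 1) with hT'
  have hTT' : T * T' = 1 := by rw [hT', ← pow_succ', Nat.sub_add_cancel hN0, hT]
  have hT'T : T' * T = 1 := by rw [hT', ← pow_succ, Nat.sub_add_cancel hN0, hT]
  let C : Submodule k (Module.End k W) :=
    { carrier := {d | ∀ x ∈ E, Commute d (ρ x)}
      add_mem' := fun {d d'} hd hd' x hx => (hd x hx).add_left (hd' x hx)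
      zero_mem' := fun x _ => Commute.zero_left _
      smul_mem' := fun m d hd x hx => (hd x hx).smul_left m }
  have hTE' : ∀ x ∈ E, ∃ x' ∈ E, ρ x * T = T * ρ x' := by
    have hpow : ∀ m : ℕ, ∀ x ∈ E, ∃ x' ∈ E, T ^ m * ρ x = ρ x' * T ^ m := by
      intro m
      induction m with
      | zero => intro x hx; exact ⟨x, hx, by simp⟩
      | succ m ih =>
        intro x hx
        obtain ⟨x1, hx1, e1⟩ := hTE x hx
        obtain ⟨x2, hx2, e2⟩ := ih x1 hx1
        exact ⟨x2, hx2, by rw [pow_succ, mul_assoc, e1, ← mul_assoc, e2, mul_assoc]⟩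
    intro x hx
    obtain ⟨x', hx', e⟩ := hpow (N - 1) x hx
    refine ⟨x', hx', ?_⟩
    have := congrArg (fun z => T * z * T) e
    rw [← hT'] at this
    simp only [mul_assoc, hT'T, mul_one] at this
    rw [← mul_assoc T T', hTT', one_mul] at this
    exact this
  have hconj : ∀ d ∈ C, T * d * T' ∈ C := by
    intro d hd x hx
    obtain ⟨x', hx', e⟩ := hTE' x hx
    have e' : T' * ρ x = ρ x' * T' := by
      have := congrArg (fun z => T' * z * T') e
      simp only [mul_assoc, hTT', mul_one] at this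
      rw [← mul_assoc T' T, hT'T, one_mul] at this
      exact this
    show T * d * T' * ρ x = ρ x * (T * d * T')
    rw [mul_assoc (T * d) T', e', mul_assoc T d, ← mul_assoc d, (hd x' hx').eq]
    simp only [← mul_assoc, ← e]
  let Φ : Module.End k C := LinearMap.restrict
    (LinearMap.mulLeft k T ∘ₗ LinearMap.mulRight k T') (p := C) (q := C) fun d hd => by
      simpa [mul_assoc] using hconj d hd
  have hΦ : ∀ d : C, (Φ d : Module.End k W) = T * (d * T') := fun d => rfl
  have hΦN : Φ ^ N = 1 := by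
    have : ∀ m : ℕ, ∀ d : C, ((Φ ^ m) d : Module.End k W) = T ^ m * d * T' ^ m := by
      intro m
      induction m with
      | zero => intro d; simp
      | succ m ih =>
        intro d
        rw [pow_succ', Module.End.mul_apply, hΦ, ih, pow_succ' T, pow_succ T']
        simp only [mul_assoc]
    refine LinearMap.ext fun d => Subtype.ext ?_
    rw [this, hT, hT', ← pow_mul, mul_comm (N - 1) N, pow_mul, hT, one_pow, one_mul, mul_one]
    rfl
  -- scalars are the fixed points, and eigenvectors are invertible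
  have hunit : ∀ d : Module.End k W, (∀ x ∈ E, Commute d (ρ x)) → (∃ ζ : k, T * d = ζ • (d * T)) →
      d ≠ 0 → LinearMap.ker d = ⊥ := by
    rintro d hd ⟨ζ, hζ⟩ hd0
    refine (hirr (LinearMap.ker d) (fun x hx y hy => ?_) (fun y hy => ?_)).resolve_right fun h => hd0 ?_
    · rw [LinearMap.mem_ker] at hy ⊢
      rw [← Module.End.mul_apply, (hd x hx).eq, Module.End.mul_apply, hy, map_zero]
    · rw [LinearMap.mem_ker] at hy ⊢
      rcases eq_or_ne ζ 0 with rfl | hζ0
      · rw [zero_smul] at hζ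
        have h2 : T' * (T * d) = 0 := by rw [hζ, mul_zero]
        rw [← mul_assoc, hT'T, one_mul] at h2
        exact absurd h2 hd0
      · have h2 := LinearMap.congr_fun hζ y
        rw [Module.End.mul_apply, hy, map_zero, LinearMap.smul_apply, Module.End.mul_apply] at h2
        exact (smul_eq_zero.mp h2.symm).resolve_left hζ0
    · exact LinearMap.ker_eq_top.mp h
  have hfix : ∀ d : Module.End k W, (∀ x ∈ E, Commute d (ρ x)) → T * d = d * T → ∃ μ : k, d = μ • 1 := by
    intro d hd hdT
    obtain ⟨μ, hμ⟩ := Module.End.exists_eigenvalue d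
    refine ⟨μ, ?_⟩
    have hd' : ∀ x ∈ E, Commute (d - μ • 1) (ρ x) := fun x hx =>
      (hd x hx).sub_left ((Commute.one_left _).smul_left μ)
    by_contra hne
    have hk := hunit (d - μ • 1) hd' ⟨1, by rw [one_smul, mul_sub, sub_mul, hdT, mul_smul_comm, mul_one,
      smul_mul_assoc, one_mul]⟩ (sub_ne_zero.mpr hne)
    obtain ⟨v, hv⟩ := hμ.exists_hasEigenvector
    have : v ∈ LinearMap.ker (d - μ • 1) := by simp [hv.apply_eq_smul]
    rw [hk, Submodule.mem_bot] at this
    exact hv.2 this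
  obtain ⟨b, ν, hb⟩ := Cfsg.Agent.FPFPower.exists_eigenbasis hNk hΦN
  let S0 : Subgroup kˣ :=
    { carrier := {ζ | ∃ d ∈ C, d ≠ 0 ∧ T * d = (ζ : k) • (d * T)}
      one_mem' := ⟨1, fun x _ => Commute.one_left _, one_ne_zero, by simp⟩
      mul_mem' := by
        rintro ζ η ⟨d, hd, hd0, h1⟩ ⟨e, he, he0, h2⟩
        refine ⟨d * e, fun x hx => (hd x hx).mul_left (he x hx), fun h => he0 ?_, ?_⟩
        · refine LinearMap.ext fun v => ?_
          have h3 : e v ∈ LinearMap.ker d := LinearMap.mem_ker.mpr (LinearMap.congr_fun h v)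
          rwa [hunit d hd ⟨_, h1⟩ hd0, Submodule.mem_bot] at h3
        · rw [← mul_assoc, h1, smul_mul_assoc, mul_assoc d T e, h2, mul_smul_comm, smul_smul, Units.val_mul,
            mul_assoc]
      inv_mem' := by
        rintro ζ ⟨d, hd, hd0, h1⟩
        have hp : ∀ m : ℕ, T * d ^ m = ((ζ : k) ^ m) • (d ^ m * T) := by
          intro m
          induction m with
          | zero => simp
          | succ m ih => rw [pow_succ, ← mul_assoc, ih, smul_mul_assoc, mul_assoc, h1, mul_smul_comm, smul_smul,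
              pow_succ, mul_assoc]
        have hinj : Function.Injective d := LinearMap.ker_eq_bot.mp (hunit d hd ⟨_, h1⟩ hd0)
        refine ⟨d ^ (N - 1), fun x hx => (hd x hx).pow_left _, fun h => ?_, ?_⟩
        · obtain ⟨w, hw⟩ := exists_ne (0 : W)
          refine hw ((hinj.iterate (N - 1)) ?_)
          rw [← Module.End.coe_pow, h]; simp
        · rw [hp]
          congr 1
          have hζN : (ζ : k) ^ N = 1 := by
            have hq : ∀ m : ℕ, T ^ m * d = ((ζ : k) ^ m) • (d * T ^ m) := by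
              intro m
              induction m with
              | zero => simp
              | succ m ih => rw [pow_succ', mul_assoc, ih, mul_smul_comm, ← mul_assoc T d, h1, smul_mul_assoc,
                  smul_smul, ← pow_succ, mul_assoc, ← pow_succ']
            have := hq N
            rw [hT, one_mul, mul_one] at this
            exact (smul_left_injective k hd0 (this.symm.trans (one_smul k d).symm))
          rw [Units.val_inv_eq_inv_val]
          refine eq_inv_of_mul_eq_one_left ?_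
          rw [← pow_succ, Nat.sub_add_cancel hN0, hζN] }
  haveI : Finite S0 := by
    have hsub : (S0 : Set kˣ) ⊆ (rootsOfUnity N k : Set kˣ) := by
      rintro ζ ⟨d, hd, hd0, h1⟩
      have hq : ∀ m : ℕ, T ^ m * d = ((ζ : k) ^ m) • (d * T ^ m) := by
        intro m
        induction m with
        | zero => simp
        | succ m ih => rw [pow_succ', mul_assoc, ih, mul_smul_comm, ← mul_assoc T d, h1, smul_mul_assoc,
            smul_smul, ← pow_succ, mul_assoc, ← pow_succ']
      have h3 := hq N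
      rw [hT, one_mul, mul_one] at h3
      exact (mem_rootsOfUnity' N ζ).mpr (smul_left_injective k hd0 (h3.symm.trans (one_smul k d).symm))
    haveI : NeZero N := ⟨hN0.ne'⟩
    haveI : Finite (rootsOfUnity N k) := inferInstance
    exact Finite.of_injective (fun z : S0 => (⟨z.1, hsub z.2⟩ : rootsOfUnity N k))
      fun z w e => Subtype.ext (congrArg (fun u : rootsOfUnity N k => (u : kˣ)) e)
  obtain ⟨⟨ζ0, d0, hd0C, hd00, hd0T⟩, hgen⟩ := IsCyclic.exists_generator (α := S0)
  have hd0inj : Function.Injective d0 := LinearMap.ker_eq_bot.mp (hunit d0 hd0C ⟨_, hd0T⟩ hd00)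
  have hp0 : ∀ m : ℕ, T * d0 ^ m = ((ζ0 : k) ^ m) • (d0 ^ m * T) := by
    intro m
    induction m with
    | zero => simp
    | succ m ih => rw [pow_succ, ← mul_assoc, ih, smul_mul_assoc, mul_assoc, hd0T, mul_smul_comm, smul_smul,
        pow_succ, mul_assoc]
  -- every eigenvector of conjugation is a multiple of a power of `d0`
  have hbC : ∀ i, Commute d0 (b i : Module.End k W) := by
    intro i
    set d := (b i : Module.End k W) with hd
    have hdC : d ∈ C := (b i).2
    have h1 : T * d = ν i • (d * T) := by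
      have h2 : T * (d * T') = ν i • d := congrArg Subtype.val (hb i)
      have h3 := congrArg (fun z => z * T) h2
      simp only [mul_assoc, hT'T, mul_one, smul_mul_assoc] at h3
      exact h3
    have hd0' : d ≠ 0 := fun h => b.ne_zero i (Subtype.ext h)
    have hν0 : ν i ≠ 0 := fun h => by
      rw [h, zero_smul] at h1
      have h2 : T' * (T * d) = 0 := by rw [h1, mul_zero]
      rw [← mul_assoc, hT'T, one_mul] at h2
      exact hd0' h2
    obtain ⟨m, hm⟩ : ∃ m : ℕ, (ζ0 : k) ^ m = ν i := by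
      obtain ⟨m, hm⟩ := mem_powers_iff_mem_zpowers.mpr (hgen ⟨Units.mk0 (ν i) hν0, d, hdC, hd0', h1⟩)
      exact ⟨m, by simpa using congrArg (fun z : S0 => ((z : kˣ) : k)) hm⟩
    have hpinj : Function.Injective (d0 ^ m) := by rw [Module.End.coe_pow]; exact hd0inj.iterate m
    set e := LinearEquiv.ofBijective (d0 ^ m) ⟨hpinj, LinearMap.surjective_of_injective hpinj⟩ with he
    have he1 : ∀ v, e v = (d0 ^ m) v := fun v => rfl
    let q : Module.End k W := e.symm.toLinearMap * d
    have hdq : d = d0 ^ m * q := LinearMap.ext fun v => by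
      simp only [q, Module.End.mul_apply, LinearEquiv.coe_coe, ← he1, e.apply_symm_apply]
    have hqE : ∀ x ∈ E, Commute q (ρ x) := fun x hx => LinearMap.ext fun v => hpinj (by
      show (d0 ^ m) (q (ρ x v)) = (d0 ^ m) (ρ x (q v))
      rw [← Module.End.mul_apply, ← hdq, ← Module.End.mul_apply (d0 ^ m) (ρ x), ((hd0C x hx).pow_left m).eq,
        Module.End.mul_apply, ← Module.End.mul_apply (d0 ^ m) q, ← hdq, ← Module.End.mul_apply,
        (hdC x hx).eq, Module.End.mul_apply])
    have hqT : T * q = q * T := by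
      have h4 : d0 ^ m * (T * q) = d0 ^ m * (q * T) := by
        have h5 : T * (d0 ^ m * q) = ν i • (d0 ^ m * q * T) := by rw [← hdq]; exact h1
        rw [← mul_assoc, hp0, hm, smul_mul_assoc] at h5
        simpa [mul_assoc] using (smul_right_injective _ hν0) h5
      exact LinearMap.ext fun v => hpinj (LinearMap.congr_fun h4 v)
    obtain ⟨μ, hμ⟩ := hfix q hqE hqT
    rw [hdq, hμ, mul_smul_comm, mul_one]
    exact ((Commute.refl d0).pow_right m).smul_right μ
  have hd0comm : ∀ d : Module.End k W, (∀ x ∈ E, Commute d (ρ x)) → Commute d0 d := by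
    intro d hd
    have h1 : (⟨d, hd⟩ : C) ∈ Submodule.span k (Set.range b) := b.mem_span _
    have : ∀ z : C, z ∈ Submodule.span k (Set.range b) → Commute d0 (z : Module.End k W) := by
      intro z hz
      induction hz using Submodule.span_induction with
      | mem z hz => obtain ⟨i, rfl⟩ := hz; exact hbC i
      | zero => exact Commute.zero_right _
      | add u v _ _ hu hv => exact hu.add_right hv
      | smul m u _ hu => exact hu.smul_right m
    exact this _ h1
  have hall := H.commute_of_commutant hEk d0 hd0C hd0comm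
  have hd0T' : T * d0 = d0 * T := (hall T).eq.symm
  have hζ1 : (ζ0 : k) = 1 := by
    have hne : d0 * T ≠ 0 := fun h => hd00 (by
      have h2 : d0 * T * T' = 0 := by rw [h, zero_mul]
      rwa [mul_assoc, hTT', mul_one] at h2)
    exact (smul_left_injective k hne (hd0T.symm.trans (hd0T'.trans (one_smul k _).symm)))
  -- hence conjugation by `T` fixes the commutant
  have hcT : ∀ z : C, T * (z : Module.End k W) = (z : Module.End k W) * T := by
    intro z
    have hb1 : ∀ i, ν i = 1 := fun i => by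
      have hdC : (b i : Module.End k W) ∈ C := (b i).2
      have h1 : T * (b i : Module.End k W) = ν i • ((b i : Module.End k W) * T) := by
        have h2 : T * ((b i : Module.End k W) * T') = ν i • (b i : Module.End k W) := congrArg Subtype.val (hb i)
        have h3 := congrArg (fun z => z * T) h2
        simp only [mul_assoc, hT'T, mul_one, smul_mul_assoc] at h3
        exact h3
      have hd0' : (b i : Module.End k W) ≠ 0 := fun h => b.ne_zero i (Subtype.ext h)
      have hν0 : ν i ≠ 0 := fun h => by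
        rw [h, zero_smul] at h1
        have h2 : T' * (T * (b i : Module.End k W)) = 0 := by rw [h1, mul_zero]
        rw [← mul_assoc, hT'T, one_mul] at h2
        exact hd0' h2
      obtain ⟨m, hm⟩ := mem_powers_iff_mem_zpowers.mpr (hgen ⟨Units.mk0 (ν i) hν0, _, hdC, hd0', h1⟩)
      have := congrArg (fun z : S0 => ((z : kˣ) : k)) hm
      simpa [hζ1] using this.symm
    have hΦ1 : Φ = 1 := b.ext fun i => by rw [hb, hb1, one_smul, Module.End.one_apply]
    have h2 : T * ((z : Module.End k W) * T') = (z : Module.End k W) := by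
      rw [← hΦ, hΦ1, Module.End.one_apply]
    have h3 := congrArg (fun w => w * T) h2
    simpa [mul_assoc, hT'T] using h3
  exact hfix c hc (hcT ⟨c, hc⟩)

end Cfsg.Agent.TurullOne
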