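/-
Multiplicity of the eigenvalue one for an operator permuting a class-two group semiregularly.
-/
import Mathlib
import Cfsg.Agent.TurullOne.Count

set_option autoImplicit false
set_option linter.style.haveILetI false

namespace Cfsg.Agent.TurullOne

open Module Finset
open Cfsg.Agent.FPFPower (centEnd mem_centEnd centralizer_le_semiregular)

variable {k : Type*} [Field k] [IsAlgClosed k] {W : Type*} [AddCommGroup W] [Module k W] [FiniteDimensional k W]

/-- Pairs of equal eigenvalues give independent elements of the centralizer. -/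
theorem card_pairs_le {T : Module.End k W} (b : Basis (Fin (finrank k W)) k W)
    (μ : Fin (finrank k W) → k) (hb : ∀ i, T (b i) = μ i • b i) :
    Nat.card {p : Fin (finrank k W) × Fin (finrank k W) // μ p.1 = μ p.2} ≤ finrank k (centEnd T) := by
  classical
  let f : {p : Fin (finrank k W) × Fin (finrank k W) // μ p.1 = μ p.2} → centEnd T := fun p =>
    ⟨b.constr k fun l => if l = p.1.1 then b p.1.2 else 0, mem_centEnd.mpr (b.ext fun l => by
      by_cases hl : l = p.1.1
      · subst hl; simp [hb, p.2]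
      · simp [hb, hl])⟩
  have hli : LinearIndependent k f := by
    rw [Fintype.linearIndependent_iff]
    intro g hg p
    have h1 := congrArg (fun z : centEnd T => b.repr ((z : Module.End k W) (b p.1.1)) p.1.2) hg
    simp only [AddSubmonoidClass.coe_finsetSum, SetLike.val_smul, LinearMap.sum_apply, LinearMap.smul_apply,
      f, Basis.constr_basis, map_sum, map_smul, Finsupp.coe_finsetSum, Finset.sum_apply, Finsupp.smul_apply,
      ZeroMemClass.coe_zero, LinearMap.zero_apply, map_zero, Finsupp.coe_zero, Pi.zero_apply] at h1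
    rw [Finset.sum_eq_single p] at h1
    · simpa using h1
    · intro q _ hq
      by_cases hl : p.1.1 = q.1.1
      · rw [if_pos hl, Basis.repr_self, Finsupp.single_eq_of_ne, smul_zero]
        exact fun e => hq (Subtype.ext (Prod.ext hl.symm e.symm))
      · rw [if_neg hl, map_zero, Finsupp.zero_apply, smul_zero]
    · simp
  rw [Nat.card_eq_fintype_card]
  exact hli.fintype_card_le_finrank

/-- The multiplicity of one of the `N` possible eigenvalues is close to `n / N`. -/
theorem mult_bounds {T : Module.End k W} {N : ℕ} (hNk : (N : k) ≠ 0) (hT : T ^ N = 1) (hN : 1 < N)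
    (hc : finrank k (centEnd T) * N ≤ (N - 1) + finrank k W ^ 2) :
    N * finrank k (LinearMap.ker (T - 1)) ≤ finrank k W + (N - 1) ∧
      finrank k W ≤ N * finrank k (LinearMap.ker (T - 1)) + (N - 1) := by
  classical
  obtain ⟨b, μ, hb⟩ := Cfsg.Agent.FPFPower.exists_eigenbasis hNk hT
  have hpow : ∀ (m : ℕ) i, (T ^ m) (b i) = μ i ^ m • b i := by
    intro m i
    induction m with
    | zero => simp
    | succ m ih => rw [pow_succ', Module.End.mul_apply, ih, map_smul, hb, smul_smul, pow_succ]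
  have hμN : ∀ i, μ i ^ N = 1 := fun i => by
    have := hpow N i
    rw [hT, Module.End.one_apply] at this
    exact (smul_left_injective k (b.ne_zero i) ((one_smul k (b i)).trans this)).symm
  -- the eigenvalue one occurs as often as its multiplicity
  set I := Finset.univ.filter (fun i => μ i = 1) with hI
  have hker : LinearMap.ker (T - 1) = Submodule.span k (Set.range (⇑b ∘ (Subtype.val : I → Fin (finrank k W)))) := by
    refine le_antisymm (fun v hv => ?_) (Submodule.span_le.mpr ?_)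
    · rw [LinearMap.mem_ker, LinearMap.sub_apply, Module.End.one_apply, sub_eq_zero] at hv
      rw [← b.sum_repr v]
      refine Submodule.sum_mem _ fun i _ => ?_
      by_cases hi : μ i = 1
      · exact Submodule.smul_mem _ _ (Submodule.subset_span ⟨⟨i, by simp [hI, hi]⟩, rfl⟩)
      · have h1 : b.repr (T v) i = μ i * b.repr v i := by
          conv_lhs => rw [← b.sum_repr v]
          simp only [map_sum, map_smul, hb, Finsupp.coe_finsetSum, Finset.sum_apply, Finsupp.smul_apply,
            Basis.repr_self, smul_eq_mul]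
          rw [Finset.sum_eq_single i]
          · simp [mul_comm]
          · intro j _ hj; simp [Finsupp.single_eq_of_ne (Ne.symm hj)]
          · simp
        rw [hv] at h1
        have : b.repr v i = 0 := by
          by_contra h0
          exact hi ((mul_eq_right₀ h0).mp h1.symm)
        rw [this, zero_smul]
        exact zero_mem _
    · rintro _ ⟨⟨i, hi⟩, rfl⟩
      have : μ i = 1 := (Finset.mem_filter.mp hi).2
      simp [hb, this]
  have hm0 : finrank k (LinearMap.ker (T - 1)) = I.card := by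
    rw [hker, finrank_span_eq_card (b.linearIndependent.comp _ Subtype.val_injective), Fintype.card_coe]
  -- counting pairs of equal eigenvalues
  set P := Finset.univ.filter (fun p : Fin (finrank k W) × Fin (finrank k W) => μ p.1 = μ p.2) with hP
  have hPle : P.card ≤ finrank k (centEnd T) := by
    have h := card_pairs_le b μ hb
    rwa [Nat.card_eq_fintype_card, Fintype.card_subtype] at h
  set cnt : k → ℕ := fun c => (Finset.univ.filter (fun i => μ i = c)).card with hcnt
  set S := Finset.univ.image μ with hS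
  have hPsum : P.card = ∑ c ∈ S, cnt c ^ 2 := by
    rw [Finset.card_eq_sum_card_fiberwise (f := fun p : Fin (finrank k W) × Fin (finrank k W) => μ p.1) (t := S)
      (fun p _ => Finset.mem_image_of_mem _ (Finset.mem_univ _))]
    refine Finset.sum_congr rfl fun c _ => ?_
    rw [sq, hcnt, ← Finset.card_product]
    congr 1
    ext p
    simp only [hP, Finset.mem_filter, Finset.mem_univ, true_and, Finset.mem_product]
    constructor
    · rintro ⟨h1, h2⟩; exact ⟨h2, h1 ▸ h2⟩
    · rintro ⟨h1, h2⟩; exact ⟨h1.trans h2.symm, h1⟩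
  have hnsum : finrank k W = ∑ c ∈ S, cnt c := by
    have := Finset.card_eq_sum_card_fiberwise (s := (Finset.univ : Finset (Fin (finrank k W)))) (f := μ) (t := S)
      (fun p _ => Finset.mem_image_of_mem _ (Finset.mem_univ _))
    simpa [hcnt] using this
  obtain ⟨w, hw⟩ : ∃ w : k, IsPrimitiveRoot w N := by
    haveI : NeZero (N : k) := ⟨hNk⟩
    exact HasEnoughRootsOfUnity.exists_primitiveRoot k N
  set R := (Polynomial.nthRootsFinset N (1 : k)).erase 1 with hR
  have hRcard : R.card = N - 1 := by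
    rw [hR, Finset.card_erase_of_mem ((Polynomial.mem_nthRootsFinset (by omega) 1).mpr (one_pow N)),
      hw.card_nthRootsFinset]
  have hzero : ∀ c, c ∉ S → cnt c = 0 := fun c hc => by
    rw [hcnt, Finset.card_eq_zero, Finset.filter_eq_empty_iff]
    exact fun i _ e => hc (Finset.mem_image.mpr ⟨i, Finset.mem_univ _, e⟩)
  have hsub : S ⊆ insert 1 R := by
    intro c hc
    obtain ⟨i, -, rfl⟩ := Finset.mem_image.mp hc
    by_cases h : μ i = 1
    · simp [h]
    · refine Finset.mem_insert_of_mem (Finset.mem_erase.mpr ⟨h, ?_⟩)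
      exact (Polynomial.mem_nthRootsFinset (by omega) 1).mpr (hμN i)
  have h1R : (1 : k) ∉ R := Finset.notMem_erase _ _
  rw [Finset.sum_subset hsub (fun c _ hc => hzero c hc), Finset.sum_insert h1R] at hnsum
  rw [Finset.sum_subset hsub (fun c _ hc => by rw [hzero c hc]; rfl), Finset.sum_insert h1R] at hPsum
  have hcs := sq_sum_le_card_mul_sum_sq (s := R) (f := cnt)
  rw [hRcard] at hcs
  have h11 : cnt 1 = I.card := rfl
  rw [h11] at hnsum hPsum
  rw [hm0]
  set m := I.card
  set Q := ∑ c ∈ R, cnt c with hQ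
  set Q2 := ∑ c ∈ R, cnt c ^ 2 with hQ2
  set n := finrank k W
  set c0 := finrank k (centEnd T)
  -- arithmetic
  obtain ⟨N', rfl⟩ : ∃ N', N = N' + 1 := ⟨N - 1, by omega⟩
  simp only [add_tsub_cancel_right] at hcs hc ⊢
  have hkey : ((N' + 1 : ℤ) * m - n) ^ 2 ≤ (N' : ℤ) ^ 2 := by
    have e1 : (n : ℤ) = m + Q := by exact_mod_cast hnsum
    have e2 : ((m : ℤ) ^ 2 + Q2) ≤ c0 := by exact_mod_cast (hPsum ▸ hPle)
    have e3 : (Q : ℤ) ^ 2 ≤ N' * Q2 := by exact_mod_cast hcs
    have e4 : (c0 : ℤ) * (N' + 1) ≤ N' + (n : ℤ) ^ 2 := by exact_mod_cast hc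
    have hN'0 : (0 : ℤ) ≤ N' := by positivity
    rw [e1] at e4 ⊢
    nlinarith [mul_le_mul_of_nonneg_left e2 (mul_nonneg hN'0 (by positivity : (0 : ℤ) ≤ N' + 1)),
      mul_le_mul_of_nonneg_left e4 hN'0, mul_le_mul_of_nonneg_left e3 (by positivity : (0 : ℤ) ≤ N' + 1)]
  have habs := abs_le_of_sq_le_sq hkey (by positivity)
  rw [abs_le] at habs
  constructor
  · have : ((N' + 1 : ℕ) : ℤ) * m ≤ (n : ℤ) + N' := by push_cast; linarith [habs.2]
    exact_mod_cast this
  · have : (n : ℤ) ≤ ((N' + 1 : ℕ) : ℤ) * m + N' := by push_cast; linarith [habs.1]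
    exact_mod_cast this

variable {X : Type*} [Group X] [Finite X]

/-- The conclusions of the count. -/
structure CountResult (ρ : X →* Module.End k W) (E R : Subgroup X) (T : Module.End k W) (N : ℕ) : Prop where
  sq_dim : finrank k W ^ 2 = R.relIndex E
  irred : ∀ Y : Submodule k W, (∀ x ∈ E, ∀ y ∈ Y, ρ x y ∈ Y) → Y = ⊥ ∨ Y = ⊤
  dim_mul_le : finrank k W * N ≤ (N - 1) + finrank k W ^ 2
  upper : N * finrank k (LinearMap.ker (T - 1)) ≤ finrank k W + (N - 1)
  lower : finrank k W ≤ N * finrank k (LinearMap.ker (T - 1)) + (N - 1)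

theorem HeisRep.count [Nontrivial W] {ρ : X →* Module.End k W} {E R : Subgroup X} (H : HeisRep ρ E R)
    (hEk : (Nat.card E : k) ≠ 0) (g : X) (hgE : ∀ e, e ∈ E → g * e * g⁻¹ ∈ E)
    (hgR : ∀ e, e ∈ R → g * e * g⁻¹ ∈ R) {N : ℕ} (hN : 1 < N) (hNk : (N : k) ≠ 0)
    (T : Module.End k W) (hT : T ^ N = 1) (hTg : ∀ x ∈ E, T * ρ x = ρ (g * x * g⁻¹) * T)
    (hsemi : ∀ i, 0 < i → i < N → ∀ x ∈ E, x⁻¹ * (g ^ i * x * (g ^ i)⁻¹) ∈ R → x ∈ R)
    (hirr : ∀ Y : Submodule k W, (∀ x ∈ E, ∀ y ∈ Y, ρ x y ∈ Y) → (∀ y ∈ Y, T y ∈ Y) → Y = ⊥ ∨ Y = ⊤)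
    (hne : ¬ E ≤ R) : CountResult ρ E R T N := by
  classical
  have hsc : ∀ b : Module.End k W, (∀ x ∈ E, Commute b (ρ x)) → ∃ c : k, b = c • 1 := fun b hb =>
    H.eq_smul_one hEk T hNk hT (fun x hx => ⟨_, hgE x hx, hTg x hx⟩) hirr hb
  let u : X →* (Module.End k W)ˣ := ρ.toHomUnits
  have hu : ∀ x, (u x : Module.End k W) = ρ x := fun x => rfl
  let f : E →* (Module.End k W)ˣ := u.comp E.subtype
  let P := f.range
  let π : E →* P := f.rangeRestrict
  haveI : Finite P := Finite.of_surjective π f.rangeRestrict_surjective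
  let ρP : P →* Module.End k W := (Units.coeHom _).comp P.subtype
  have hπ : ∀ e : E, ρP (π e) = ρ e := fun e => rfl
  let R' : Subgroup P := (R.subgroupOf E).map π
  have hkerR : π.ker ≤ R.subgroupOf E := fun e he => by
    rw [Subgroup.mem_subgroupOf]
    refine H.mem_of_scalar e.2 fun s _ => ?_
    have : ρ (e : X) = 1 := by
      rw [← hπ, MonoidHom.mem_ker.mp he, map_one]
    rw [this, mul_one, one_mul]
  haveI : (R.subgroupOf E).Normal := ⟨fun z hz e => by
    rw [Subgroup.mem_subgroupOf] at hz ⊢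
    rw [Subgroup.coe_mul, Subgroup.coe_mul, Subgroup.coe_inv,
      show (e : X) * z * (e : X)⁻¹ = ((e : X) * z * (e : X)⁻¹ * (z : X)⁻¹) * z by group]
    exact mul_mem (H.comm_mem _ e.2 _ z.2) hz⟩
  haveI : R'.Normal := Subgroup.Normal.map inferInstance π f.rangeRestrict_surjective
  have hmem' : ∀ e : E, π e ∈ R' → (e : X) ∈ R := fun e he => by
    obtain ⟨z, hz, hze⟩ := Subgroup.mem_map.mp he
    have := mul_mem hz (hkerR (show z⁻¹ * e ∈ π.ker by rw [MonoidHom.mem_ker, map_mul, map_inv, hze, inv_mul_cancel]))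
    rw [mul_inv_cancel_left] at this
    exact Subgroup.mem_subgroupOf.mp this
  have hTu : IsUnit T := IsUnit.of_mul_eq_one_right (T ^ (N - 1))
    (by rw [← pow_succ, Nat.sub_add_cancel (show 1 ≤ N by omega), hT])
  let Tu := hTu.unit
  have hconj : ∀ e : E, Tu * f e * Tu⁻¹ = f ⟨g * e * g⁻¹, hgE _ e.2⟩ := fun e => by
    rw [mul_inv_eq_iff_eq_mul]
    exact Units.ext (hTg e e.2)
  have hP : P.map (MulAut.conj Tu).toMonoidHom = P := by
    refine Subgroup.eq_of_le_of_card_ge ?_ (le_of_eq ?_)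
    · rintro _ ⟨_, ⟨e, rfl⟩, rfl⟩
      exact ⟨⟨g * e * g⁻¹, hgE _ e.2⟩, (hconj e).symm⟩
    · exact Nat.card_congr (P.equivMapOfInjective _ (MulEquiv.injective _)).toEquiv
  let σ : MulAut P := (MulEquiv.subgroupMap (MulAut.conj Tu) P).trans (MulEquiv.subgroupCongr hP)
  have hσ : ∀ e : E, σ (π e) = π ⟨g * e * g⁻¹, hgE _ e.2⟩ := fun e => Subtype.ext (hconj e)
  have hσi : ∀ (i : ℕ) (e : E), ∃ e' : E, (σ ^ i) (π e) = π e' ∧ (e' : X) = g ^ i * e * (g ^ i)⁻¹ := by
    intro i e
    induction i with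
    | zero => exact ⟨e, rfl, by simp⟩
    | succ i ih =>
      obtain ⟨e', h1, h2⟩ := ih
      refine ⟨⟨g * e' * g⁻¹, hgE _ e'.2⟩, by rw [pow_succ', MulAut.mul_apply, h1, hσ], ?_⟩
      show g * (e' : X) * g⁻¹ = _
      rw [h2, pow_succ']; group
  have hgN : ∀ p : P, (σ ^ N) p = p := fun p => by
    obtain ⟨e, rfl⟩ := f.rangeRestrict_surjective p
    have hpw : ∀ i : ℕ, ∀ x : E, T ^ i * ρP (π x) = ρP ((σ ^ i) (π x)) * T ^ i := by
      intro i
      induction i with
      | zero => intro x; simp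
      | succ i ih =>
        intro x
        obtain ⟨x', hx', -⟩ := hσi i x
        rw [pow_succ', mul_assoc, ih, hx', ← mul_assoc, show T * ρP (π x') = ρP (σ (π x')) * T by
          rw [hσ]; exact hTg x' x'.2, mul_assoc]
        simp only [pow_succ', MulAut.mul_apply, hx']
    have := hpw N e
    rw [hT, one_mul, mul_one] at this
    exact Subtype.ext (Units.ext this.symm)
  have hPk : (Nat.card P : k) ≠ 0 := by
    intro h
    obtain ⟨m, hm⟩ := Subgroup.card_range_dvd f
    exact hEk (by rw [hm, Nat.cast_mul, h, zero_mul])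
  have hRmap : R'.map σ.toMonoidHom = R' := by
    refine Subgroup.eq_of_le_of_card_ge ?_ (le_of_eq ?_)
    · rintro _ ⟨_, ⟨z, hz, rfl⟩, rfl⟩
      exact ⟨⟨g * z * g⁻¹, hgE _ z.2⟩, Subgroup.mem_subgroupOf.mpr (hgR _ (Subgroup.mem_subgroupOf.mp hz)), (hσ z).symm⟩
    · exact Nat.card_congr (R'.equivMapOfInjective _ (MulEquiv.injective _)).toEquiv
  have hres := centralizer_le_semiregular ρP R' σ T (r := N) hN hPk hT
    (fun p => by
      obtain ⟨e, rfl⟩ := f.rangeRestrict_surjective p
      rw [hσ]; exact hTg e e.2)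
    (MulEquiv.ext hgN) hRmap
    (fun p hp => by
      obtain ⟨z, hz, rfl⟩ := hp
      exact H.scal _ (Subgroup.mem_subgroupOf.mp hz))
    (fun p p' => by
      obtain ⟨e, rfl⟩ := f.rangeRestrict_surjective p
      obtain ⟨e', rfl⟩ := f.rangeRestrict_surjective p'
      exact ⟨⟨_, H.R_le (H.comm_mem _ e.2 _ e'.2)⟩, Subgroup.mem_subgroupOf.mpr (H.comm_mem _ e.2 _ e'.2), by
        simp only [← map_mul, ← map_inv]; rfl⟩)
    (fun p p' q => by
      obtain ⟨e, rfl⟩ := f.rangeRestrict_surjective p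
      obtain ⟨e', rfl⟩ := f.rangeRestrict_surjective p'
      obtain ⟨c, hc⟩ := H.scal _ (H.comm_mem _ e.2 _ e'.2)
      refine Subtype.ext (Units.ext ?_)
      have h1 : ρP (π e * π e' * (π e)⁻¹ * (π e')⁻¹) = c • 1 := by
        rw [← hc]; simp only [← map_inv, ← map_mul]; rfl
      show ρP (q * (π e * π e' * (π e)⁻¹ * (π e')⁻¹)) = ρP (π e * π e' * (π e)⁻¹ * (π e')⁻¹ * q)
      rw [map_mul ρP q, map_mul ρP _ q, h1, mul_smul_comm, mul_one, smul_mul_assoc, one_mul])
    (fun p hp => by
      obtain ⟨e, rfl⟩ := f.rangeRestrict_surjective p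
      obtain ⟨s, hs, hsne⟩ := H.sep _ e.2 (fun h => hp ⟨e, Subgroup.mem_subgroupOf.mpr h, rfl⟩)
      refine ⟨π ⟨s, hs⟩, fun h => hsne ?_⟩
      have h' : ρP (π (⟨s, hs⟩ * e * (⟨s, hs⟩ : E)⁻¹ * e⁻¹)) = 1 := by
        rw [map_mul π, map_mul π, map_mul π, map_inv π, map_inv π]; exact h
      exact h')
    (fun i hi hiN p hp => by
      obtain ⟨e, rfl⟩ := f.rangeRestrict_surjective p
      obtain ⟨e', h1, h2⟩ := hσi i e
      rw [h1, ← map_inv, ← map_mul] at hp
      have := hmem' _ hp
      rw [Subgroup.coe_mul, Subgroup.coe_inv, h2] at this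
      exact ⟨e, Subgroup.mem_subgroupOf.mpr (hsemi i hi hiN _ e.2 this), rfl⟩)
    (fun b hb => hsc b fun x hx => hb (π ⟨x, hx⟩))
    (fun h => hne fun x hx => hmem' ⟨x, hx⟩ (by rw [h]; trivial))
  obtain ⟨hsq, hcent⟩ := hres
  have hidx : R'.index = R.relIndex E := by
    rw [Subgroup.index_map_eq _ f.rangeRestrict_surjective hkerR]; rfl
  obtain ⟨hup, hlow⟩ := mult_bounds hNk hT hN hcent
  refine ⟨hsq.trans hidx, ?_, ?_, hup, hlow⟩
  · intro Y hY
    obtain ⟨Y', hY', hc⟩ := exists_invariant_compl ρ E hEk Y hY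
    let p : Module.End k W := Y.subtype ∘ₗ Submodule.projectionOnto Y Y' hc
    have hpl : ∀ y ∈ Y, p y = y := fun y hy => by
      show ((Submodule.projectionOnto Y Y' hc ((⟨y, hy⟩ : Y) : W) : Y) : W) = y
      rw [Submodule.projectionOnto_apply_left]
    have hpr : ∀ y ∈ Y', p y = 0 := fun y hy => by
      simp [p, Submodule.projectionOnto_apply_right hc ⟨y, hy⟩]
    obtain ⟨c, hcp⟩ := hsc p fun x hx => by
      refine LinearMap.ext fun v => ?_
      have hmem : v ∈ Y ⊔ Y' := by rw [hc.sup_eq_top]; trivial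
      obtain ⟨y, hy, y', hy', rfl⟩ := Submodule.mem_sup.mp hmem
      simp only [Module.End.mul_apply, map_add, hpl y hy, hpl _ (hY x hx y hy), hpr y' hy',
        hpr _ (hY' x hx y' hy'), map_zero]
    by_cases hY0 : Y = ⊥
    · exact Or.inl hY0
    refine Or.inr (eq_top_iff.mpr fun v _ => ?_)
    obtain ⟨y, hy, hy0⟩ := Submodule.exists_mem_ne_zero_of_ne_bot hY0
    have h1 := hpl y hy
    rw [hcp, LinearMap.smul_apply, Module.End.one_apply] at h1
    have hc1 : c = 1 := smul_left_injective k hy0 (h1.trans (one_smul k y).symm)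
    have h2 : v = p v := by rw [hcp, hc1, one_smul, Module.End.one_apply]
    rw [h2]
    exact Submodule.coe_mem _
  · exact (Nat.mul_le_mul_right N (Cfsg.Agent.FPFPower.finrank_le_centEnd hNk hT)).trans hcent

end Cfsg.Agent.TurullOne
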