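/-
Twisting an irreducible module of a class-two group, and the fixed operators of a semiregular
automorphism of it.
-/
import Mathlib
import Cfsg.Agent.TurullOne.Mult

set_option autoImplicit false
set_option linter.style.haveILetI false

namespace Cfsg.Agent.TurullOne

open Module Finset

variable {k : Type*} [Field k] [IsAlgClosed k] {W : Type*} [AddCommGroup W] [Module k W] [FiniteDimensional k W]
variable {X : Type*} [Group X] [Finite X]

omit [IsAlgClosed k] [FiniteDimensional k W] in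
/-- Conjugates of an element sum to zero off the scalar part. -/
theorem HeisRep.sum_conj {ρ : X →* Module.End k W} {E R : Subgroup X} (H : HeisRep ρ E R) [Fintype E]
    {y : X} (hy : y ∈ E) [Decidable (y ∈ R)] :
    ∑ x : E, ρ ((x : X) * y * (x : X)⁻¹) = if y ∈ R then (Nat.card E : k) • ρ y else 0 := by
  split_ifs with hyR
  · obtain ⟨c, hc⟩ := H.scal y hyR
    have : ∀ x : E, ρ ((x : X) * y * (x : X)⁻¹) = ρ y := fun x => by
      rw [map_mul, map_mul, hc, mul_smul_comm, mul_one, smul_mul_assoc, ← map_mul, mul_inv_cancel, map_one]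
    rw [Finset.sum_congr rfl fun x _ => this x, Finset.sum_const, Finset.card_univ, ← Nat.card_eq_fintype_card,
      Nat.cast_smul_eq_nsmul]
  · obtain ⟨s, hs, hne⟩ := H.sep y hy hyR
    set S := ∑ x : E, ρ ((x : X) * y * (x : X)⁻¹) with hS
    obtain ⟨cs, hcs⟩ := H.scal _ (H.comm_mem s hs y hy)
    have h1 : ρ s * ρ y * ρ s⁻¹ = cs • ρ y := by
      rw [← map_mul, ← map_mul, show s * y * s⁻¹ = s * y * s⁻¹ * y⁻¹ * y by group, map_mul, hcs, smul_mul_assoc, one_mul]
    have key : cs • S = S := by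
      rw [hS, Finset.smul_sum]
      refine Fintype.sum_equiv (Equiv.mulRight (⟨s, hs⟩ : E)) _ _ fun x => ?_
      simp only [Equiv.coe_mulRight, Subgroup.coe_mul]
      rw [show (x : X) * s * y * ((x : X) * s)⁻¹ = (x : X) * (s * y * s⁻¹) * (x : X)⁻¹ by group,
        map_mul ρ _ (x : X)⁻¹, map_mul ρ _ (x : X)⁻¹, map_mul ρ (x : X), map_mul ρ (x : X),
        show ρ (s * y * s⁻¹) = cs • ρ y by rw [map_mul, map_mul]; exact h1, mul_smul_comm, smul_mul_assoc]
    refine (smul_eq_zero.mp (show (cs - 1) • S = 0 by rw [sub_smul, one_smul, key, sub_self])).resolve_left ?_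
    refine sub_ne_zero.mpr fun h => hne ?_
    rw [hcs, h, one_smul]

omit [IsAlgClosed k] in
theorem conj_pow_mem {g : X} {S : Subgroup X} (h : ∀ e ∈ S, g * e * g⁻¹ ∈ S) (i : ℕ) {e : X} (he : e ∈ S) :
    g ^ i * e * (g ^ i)⁻¹ ∈ S := by
  induction i with
  | zero => simpa using he
  | succ i ih =>
    rw [show g ^ (i + 1) * e * (g ^ (i + 1))⁻¹ = g * (g ^ i * e * (g ^ i)⁻¹) * g⁻¹ by rw [pow_succ']; group]
    exact h _ ih

theorem conj_inv_mem {g : X} {S : Subgroup X} (h : ∀ e ∈ S, g * e * g⁻¹ ∈ S) {e : X} (he : e ∈ S) :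
    g⁻¹ * e * g ∈ S := by
  obtain ⟨i, hi⟩ : ∃ i : ℕ, g ^ i = g⁻¹ :=
    mem_powers_iff_mem_zpowers.mpr (inv_mem (Subgroup.mem_zpowers g))
  have := conj_pow_mem h i he
  rwa [hi, inv_inv] at this

/-- Irreducibility passes to the class-two group. -/
theorem HeisRep.irreducible_restrict [Nontrivial W] {ρ : X →* Module.End k W} {E R : Subgroup X}
    (H : HeisRep ρ E R) (hEk : (Nat.card E : k) ≠ 0) (g : X) (hgE : ∀ e ∈ E, g * e * g⁻¹ ∈ E)
    (hgR : ∀ e ∈ R, g * e * g⁻¹ ∈ R) (hgs : ∀ z ∈ R, ρ (g * z * g⁻¹) = ρ z)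
    (hirr : ∀ Y : Submodule k W, (∀ x ∈ E, ∀ y ∈ Y, ρ x y ∈ Y) → (∀ y ∈ Y, ρ g y ∈ Y) → Y = ⊥ ∨ Y = ⊤) :
    ∀ Y : Submodule k W, (∀ x ∈ E, ∀ y ∈ Y, ρ x y ∈ Y) → Y = ⊥ ∨ Y = ⊤ := by
  classical
  letI := Fintype.ofFinite E
  -- a minimal invariant subspace
  obtain ⟨W1, hW1⟩ : ∃ W1 : Submodule k W, Minimal (fun Z : Submodule k W => Z ≠ ⊥ ∧ ∀ x ∈ E, ∀ y ∈ Z, ρ x y ∈ Z) W1 :=
    exists_minimal_of_wellFoundedLT _ ⟨⊤, by simp, fun _ _ _ _ => trivial⟩
  obtain ⟨⟨hW1ne, hW1inv⟩, hmin⟩ := hW1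
  suffices htop : W1 = ⊤ by
    intro Y hY
    by_cases h : Y = ⊥
    · exact Or.inl h
    · have := hmin ⟨h, hY⟩ (htop ▸ le_top)
      exact Or.inr (top_le_iff.mp (htop ▸ this))
  obtain ⟨v, hv, hv0⟩ := Submodule.exists_mem_ne_zero_of_ne_bot hW1ne
  obtain ⟨lam, hlam⟩ : ∃ l : Module.Dual k W, l v ≠ 0 := by
    by_contra! h
    exact hv0 ((Module.forall_dual_apply_eq_zero_iff k v).mp h)
  let J : W → Module.End k W := fun w =>
    ∑ y : E, (ρ (g * y * g⁻¹) * (lam.smulRight w)) * ρ (y : X)⁻¹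
  have hJap : ∀ w u, J w u = ∑ y : E, lam (ρ (y : X)⁻¹ u) • ρ (g * y * g⁻¹) w := fun w u => by
    simp [J]
  have hJmem : ∀ w ∈ W1, ∀ u, J w u ∈ W1 := fun w hw u => by
    rw [hJap]
    exact Submodule.sum_mem _ fun y _ => W1.smul_mem _ (hW1inv _ (hgE _ y.2) w hw)
  have hJb : ∀ w, ∀ b ∈ E, J w * ρ b = ρ (g * b * g⁻¹) * J w := by
    intro w b hb
    simp only [J, Finset.mul_sum, Finset.sum_mul]
    refine Fintype.sum_equiv (Equiv.mulLeft (⟨b, hb⟩ : E)⁻¹) _ _ fun y => ?_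
    simp only [Equiv.coe_mulLeft, Subgroup.coe_mul, Subgroup.coe_inv]
    rw [mul_assoc (ρ (g * (y : X) * g⁻¹) * lam.smulRight w), ← map_mul ρ (y : X)⁻¹ b,
      show g * (y : X) * g⁻¹ = g * b * g⁻¹ * (g * (b⁻¹ * (y : X)) * g⁻¹) by group, map_mul ρ (g * b * g⁻¹),
      show (y : X)⁻¹ * b = (b⁻¹ * (y : X))⁻¹ by group]
    simp only [mul_assoc]
  obtain ⟨w, hw, hwv⟩ : ∃ w ∈ W1, J w v ≠ 0 := by
    by_contra! hcon
    let c : E → k := fun y => lam (ρ (y : X)⁻¹ v)
    have hsum : ∑ x : E, ρ (x : X) * (∑ y : E, c y • ρ (g * (y : X) * g⁻¹)) * ρ (x : X)⁻¹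
        = ∑ y : E, c y • (if (g * (y : X) * g⁻¹) ∈ R then (Nat.card E : k) • ρ (g * (y : X) * g⁻¹) else 0) := by
      simp only [Finset.mul_sum, Finset.sum_mul, mul_smul_comm, smul_mul_assoc, ← map_mul]
      rw [Finset.sum_comm]
      refine Finset.sum_congr rfl fun y _ => ?_
      rw [← Finset.smul_sum, H.sum_conj (hgE _ y.2)]
    have h0 := LinearMap.congr_fun hsum v
    rw [LinearMap.sum_apply, Finset.sum_eq_zero (fun (x : E) _ => by
      simp only [Module.End.mul_apply, LinearMap.sum_apply, LinearMap.smul_apply, c]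
      rw [← hJap, hcon _ (hW1inv _ (inv_mem x.2) v hv), map_zero])] at h0
    have hterm : ∀ y : E, (c y • (if (g * (y : X) * g⁻¹) ∈ R then (Nat.card E : k) • ρ (g * (y : X) * g⁻¹) else 0)) v
        = if (y : X) ∈ R then (Nat.card E : k) • lam v • v else 0 := by
      intro y
      by_cases hyR : (y : X) ∈ R
      · rw [if_pos (hgR _ hyR), if_pos hyR]
        obtain ⟨d, hd⟩ := H.scal _ hyR
        obtain ⟨d', hd'⟩ := H.scal _ (inv_mem hyR)
        have hdd : d * d' = 1 := by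
          have h2 := LinearMap.congr_fun (map_mul ρ (y : X) (y : X)⁻¹) v
          rw [mul_inv_cancel, map_one, hd, hd'] at h2
          simp only [Module.End.one_apply, Module.End.mul_apply, LinearMap.smul_apply, smul_smul] at h2
          exact (smul_left_injective k hv0 ((one_smul k v).trans h2)).symm
        simp only [LinearMap.smul_apply, c, hgs _ hyR, hd, hd', Module.End.one_apply, map_smul, smul_smul, smul_eq_mul]
        congr 1
        linear_combination ((Nat.card E : k) * lam v) * hdd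
      · rw [if_neg hyR, if_neg (fun h => hyR (by
          have := conj_inv_mem hgR h
          rwa [show g⁻¹ * (g * (y : X) * g⁻¹) * g = y by group] at this))]
        simp
    rw [LinearMap.sum_apply, Finset.sum_congr rfl fun y _ => hterm y, ← Finset.sum_filter, Finset.sum_const,
      ← Nat.cast_smul_eq_nsmul k, smul_smul, smul_smul] at h0
    have hRk : ((Finset.univ.filter fun y : E => (y : X) ∈ R).card : k) ≠ 0 := by
      intro h
      apply hEk
      obtain ⟨m, hm⟩ := Subgroup.card_dvd_of_le H.R_le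
      have e : (Finset.univ.filter fun y : E => (y : X) ∈ R).card = Nat.card R := by
        rw [← Nat.card_congr (Subgroup.subgroupOfEquivOfLe H.R_le).toEquiv, Nat.card_eq_fintype_card,
          ← Fintype.card_subtype]
        exact Fintype.card_congr (Equiv.refl _)
      rw [hm, Nat.cast_mul, ← e, h, zero_mul]
    rcases smul_eq_zero.mp h0.symm with h | h
    · exact mul_ne_zero (mul_ne_zero hRk hEk) hlam h
    · exact hv0 h
  let J1 : W1 →ₗ[k] W1 := (J w).restrict fun u _ => hJmem w hw u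
  have hJ1i : Function.Injective J1 := by
    rw [← LinearMap.ker_eq_bot]
    set K := LinearMap.ker (J w) ⊓ W1
    have hKinv : ∀ x ∈ E, ∀ y ∈ K, ρ x y ∈ K := fun x hx y hy => ⟨by
      show J w (ρ x y) = 0
      rw [← Module.End.mul_apply, hJb w x hx, Module.End.mul_apply, LinearMap.mem_ker.mp hy.1, map_zero],
      hW1inv x hx y hy.2⟩
    by_cases hK : K = ⊥
    · refine (Submodule.eq_bot_iff _).mpr fun u hu => Subtype.ext ?_
      exact (Submodule.eq_bot_iff _).mp hK (u : W) ⟨congrArg Subtype.val (LinearMap.mem_ker.mp hu), u.2⟩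
    · exact absurd (LinearMap.mem_ker.mp (hmin ⟨hK, hKinv⟩ inf_le_right hv).1) hwv
  let Je : W1 ≃ₗ[k] W1 := LinearEquiv.ofBijective J1 ⟨hJ1i, LinearMap.surjective_of_injective hJ1i⟩
  have hJe : ∀ u : W1, ((Je u : W1) : W) = J w u := fun u => rfl
  -- the intertwining operators
  let Hs : Submodule k (W1 →ₗ[k] W) :=
    { carrier := {h | ∀ b (hb : b ∈ E) (u : W1), ρ b (h u) = h ⟨ρ b u, hW1inv b hb _ u.2⟩}
      add_mem' := fun {h h'} hh hh' b hb u => by simp [hh b hb u, hh' b hb u]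
      zero_mem' := fun b hb u => by simp
      smul_mem' := fun c h hh b hb u => by simp [hh b hb u] }
  haveI : Nontrivial Hs := ⟨⟨⟨W1.subtype, fun b hb u => rfl⟩, 0, fun h => by
    have := LinearMap.congr_fun (congrArg Subtype.val h) ⟨v, hv⟩
    exact hv0 this⟩⟩
  have hΦ : ∀ h ∈ Hs, (ρ g ∘ₗ h ∘ₗ Je.symm.toLinearMap) ∈ Hs := by
    intro h hh b hb u
    have hb' : g⁻¹ * b * g ∈ E := conj_inv_mem hgE hb
    show ρ b (ρ g (h (Je.symm u))) = ρ g (h (Je.symm ⟨ρ b u, hW1inv b hb _ u.2⟩))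
    rw [← apply_mul, show b * g = g * (g⁻¹ * b * g) by group, apply_mul, hh _ hb']
    congr 2
    refine Je.injective (Subtype.ext ?_)
    rw [hJe, LinearEquiv.apply_symm_apply, ← Module.End.mul_apply, hJb w _ hb', Module.End.mul_apply, ← hJe,
      LinearEquiv.apply_symm_apply, show g * (g⁻¹ * b * g) * g⁻¹ = b by group]
  let Φ : Module.End k Hs :=
    { toFun := fun h => ⟨_, hΦ h h.2⟩
      map_add' := fun h h' => Subtype.ext (by simp [LinearMap.add_comp, LinearMap.comp_add])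
      map_smul' := fun c h => Subtype.ext (by simp [LinearMap.smul_comp, LinearMap.comp_smul]) }
  obtain ⟨μ, hμ⟩ := Module.End.exists_eigenvalue Φ
  obtain ⟨h, hh⟩ := hμ.exists_hasEigenvector
  have hh0 : (h : W1 →ₗ[k] W) ≠ 0 := fun e => hh.2 (Subtype.ext e)
  set Z := LinearMap.range (h : W1 →ₗ[k] W) with hZ
  have hZE : ∀ x ∈ E, ∀ y ∈ Z, ρ x y ∈ Z := by
    rintro x hx _ ⟨u, rfl⟩
    exact ⟨_, (h.2 x hx u).symm⟩
  have hZg : ∀ y ∈ Z, ρ g y ∈ Z := by
    rintro _ ⟨u, rfl⟩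
    have e := LinearMap.congr_fun (congrArg Subtype.val hh.apply_eq_smul) (Je u)
    change ρ g ((h : W1 →ₗ[k] W) (Je.symm (Je u))) = μ • (h : W1 →ₗ[k] W) (Je u) at e
    rw [LinearEquiv.symm_apply_apply] at e
    exact ⟨μ • Je u, by rw [map_smul]; exact e.symm⟩
  rcases hirr Z hZE hZg with hb | ht
  · exact absurd (LinearMap.range_eq_bot.mp hb) hh0
  · refine Submodule.eq_top_of_finrank_eq (le_antisymm (Submodule.finrank_le _) ?_)
    have := LinearMap.finrank_range_le (h : W1 →ₗ[k] W)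
    rwa [← hZ, ht, finrank_top] at this

/-- The fixed operators of a semiregular automorphism are scalars plus traces. -/
theorem HeisRep.fixed_decomp_aux [Nontrivial W] {ρ : X →* Module.End k W} {E R : Subgroup X}
    (H : HeisRep ρ E R) (hEk : (Nat.card E : k) ≠ 0)
    (hirrE : ∀ Y : Submodule k W, (∀ x ∈ E, ∀ y ∈ Y, ρ x y ∈ Y) → Y = ⊥ ∨ Y = ⊤)
    (g : X) (hgE : ∀ e ∈ E, g * e * g⁻¹ ∈ E) (hgR : ∀ e ∈ R, g * e * g⁻¹ ∈ R) {N : ℕ} (hN0' : 0 < N)
    (hgN : g ^ N = 1)
    (hsemi : ∀ i, 0 < i → i < N → ∀ x ∈ E, x⁻¹ * (g ^ i * x * (g ^ i)⁻¹) ∈ R → x ∈ R)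
    {f : Module.End k W} (hf : ρ g * f = f * ρ g) :
    ∃ (μ : k) (Z : Module.End k W), f = μ • 1 + ∑ i ∈ range N, ρ (g ^ i) * Z * ρ (g ^ i)⁻¹ := by
  classical
  letI := Fintype.ofFinite E
  let G : E → Module.End k W := fun x => (∑ y : E, ρ (y : X) * (f * ρ (x : X)⁻¹) * ρ (y : X)⁻¹)
  have hGscal : ∀ x, ∃ c : k, G x = c • 1 := fun x =>
    H.eq_smul_one hEk (1 : Module.End k W) (N := 1) (by simp) (one_pow _)
      (fun e he => ⟨e, he, by simp⟩) (fun Y hY _ => hirrE Y hY) (c := G x) fun z hz => by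
      show G x * ρ z = ρ z * G x
      simp only [G, Finset.sum_mul, Finset.mul_sum]
      refine (Fintype.sum_equiv (Equiv.mulLeft (⟨z, hz⟩ : E)) _ _ fun y => ?_).symm
      simp only [Equiv.coe_mulLeft, Subgroup.coe_mul]
      rw [map_mul ρ z (y : X), mul_inv_rev, map_mul ρ (y : X)⁻¹ z⁻¹]
      simp only [mul_assoc]
      rw [← map_mul ρ z⁻¹ z, inv_mul_cancel, map_one, mul_one]
  let F : E → Module.End k W := fun x => G x * ρ (x : X)
  have hsum : ∑ x : E, F x = ((Nat.card E : k) * (Finset.univ.filter fun y : E => (y : X) ∈ R).card) • f := by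
    simp only [F, G, Finset.sum_mul]
    rw [Finset.sum_comm]
    have hin : ∀ y : E, ∑ x : E, ρ (y : X) * (f * ρ (x : X)⁻¹) * ρ (y : X)⁻¹ * ρ (x : X)
        = if (y : X) ∈ R then (Nat.card E : k) • f else 0 := by
      intro y
      have e : ∑ x : E, ρ (x : X)⁻¹ * ρ (y : X)⁻¹ * ρ (x : X) = ∑ x : E, ρ ((x : X) * (y : X)⁻¹ * (x : X)⁻¹) :=
        Fintype.sum_equiv (Equiv.inv E) _ _ fun x => by simp
      calc _ = ρ (y : X) * f * ∑ x : E, ρ (x : X)⁻¹ * ρ (y : X)⁻¹ * ρ (x : X) := by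
            rw [Finset.mul_sum]; simp only [mul_assoc]
        _ = _ := by
            rw [e, H.sum_conj (inv_mem y.2)]
            by_cases hy : (y : X) ∈ R
            · rw [if_pos (inv_mem hy), if_pos hy, mul_smul_comm]
              obtain ⟨c, hc⟩ := H.scal _ hy
              congr 1
              have h1 : ρ (y : X) * f = f * ρ (y : X) := by rw [hc]; simp
              rw [h1, mul_assoc, ← map_mul, mul_inv_cancel, map_one, mul_one]
            · rw [if_neg (fun h => hy (by simpa using inv_mem h)), if_neg hy, mul_zero]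
    rw [Finset.sum_congr rfl fun y _ => hin y, ← Finset.sum_filter, Finset.sum_const, ← Nat.cast_smul_eq_nsmul k,
      smul_smul, mul_comm]
  let cjE : E → E := fun x => ⟨g * x * g⁻¹, hgE _ x.2⟩
  have hcoe : ∀ (i : ℕ) (x : E), ((cjE^[i] x : E) : X) = g ^ i * x * (g ^ i)⁻¹ := by
    intro i x
    induction i with
    | zero => simp
    | succ i ih =>
      rw [Function.iterate_succ_apply', pow_succ']
      show g * ((cjE^[i] x : E) : X) * g⁻¹ = _
      rw [ih]; group
  have hcinj : Function.Injective cjE := fun x y h => Subtype.ext (by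
    have := congrArg Subtype.val h
    simpa [cjE] using this)
  have hFg : ∀ x, F (cjE x) = ρ g * F x * ρ g⁻¹ := by
    intro x
    let e : E ≃ E := Equiv.ofBijective cjE ⟨hcinj, Finite.injective_iff_surjective.mp hcinj⟩
    have hgg : ρ g⁻¹ * ρ g = 1 := by rw [← map_mul, inv_mul_cancel, map_one]
    have hgg' : ρ g * ρ g⁻¹ = 1 := by rw [← map_mul, mul_inv_cancel, map_one]
    have hfg : ρ g * f * ρ g⁻¹ = f := by rw [hf, mul_assoc, hgg', mul_one]
    have hG : G (cjE x) = ρ g * G x * ρ g⁻¹ := by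
      simp only [G, Finset.mul_sum, Finset.sum_mul]
      refine (Fintype.sum_equiv e _ _ fun y => ?_).symm
      show _ = ρ ((cjE y : E) : X) * (f * ρ ((cjE x : E) : X)⁻¹) * ρ ((cjE y : E) : X)⁻¹
      conv_rhs => rw [← hfg]
      simp only [cjE, mul_inv_rev, inv_inv, map_mul, mul_assoc]
      simp only [← mul_assoc (ρ g⁻¹) (ρ g), hgg, one_mul]
    show G (cjE x) * ρ ((cjE x : E) : X) = ρ g * (G x * ρ (x : X)) * ρ g⁻¹
    rw [hG]
    simp only [cjE, map_mul, mul_assoc]
    simp only [← mul_assoc (ρ g⁻¹) (ρ g), hgg, one_mul]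
  have hFiter : ∀ (i : ℕ) x, F (cjE^[i] x) = ρ (g ^ i) * F x * ρ (g ^ i)⁻¹ := by
    intro i x
    induction i with
    | zero => simp
    | succ i ih =>
      rw [Function.iterate_succ_apply', hFg, ih, pow_succ', mul_inv_rev, map_mul ρ g (g ^ i), map_mul ρ _ g⁻¹]
      simp only [mul_assoc]
  -- an invariant set off `R` is a sum of traces
  have horb : ∀ S : Finset E, (∀ x ∈ S, (x : X) ∉ R) → (∀ x ∈ S, cjE x ∈ S) →
      ∃ Z : Module.End k W, ∑ x ∈ S, F x = ∑ i ∈ range N, ρ (g ^ i) * Z * ρ (g ^ i)⁻¹ := by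
    intro S
    induction S using Finset.strongInduction with
    | _ S ih =>
      intro hSR hSc
      rcases S.eq_empty_or_nonempty with rfl | ⟨x, hx⟩
      · exact ⟨0, by simp⟩
      have hinj : Set.InjOn (fun i => cjE^[i] x) (range N : Set ℕ) := by
        intro i hi l hl hil
        wlog hle : i ≤ l generalizing i l
        · exact (this hl hi hil.symm (le_of_lt (not_le.mp hle))).symm
        by_contra hne
        simp only [Finset.coe_range, Set.mem_Iio] at hi hl
        have h2 : cjE^[l - i] x = x := by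
          refine (hcinj.iterate i) ?_
          rw [← Function.iterate_add_apply, Nat.add_sub_cancel' hle]
          exact hil.symm
        refine hSR x hx (hsemi (l - i) (by omega) (by omega) x x.2 ?_)
        rw [← hcoe, h2, inv_mul_cancel]
        exact one_mem _
      set O := (range N).image (fun i => cjE^[i] x) with hO
      have hOS : O ⊆ S := by
        intro y hy
        obtain ⟨i, -, rfl⟩ := Finset.mem_image.mp hy
        clear hy hinj
        induction i with
        | zero => exact hx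
        | succ i ihi => rw [Function.iterate_succ_apply']; exact hSc _ ihi
      have hOc : ∀ y ∈ O, cjE y ∈ O := by
        intro y hy
        obtain ⟨i, hi, rfl⟩ := Finset.mem_image.mp hy
        rw [← Function.iterate_succ_apply' cjE i x]
        by_cases hlt : i + 1 < N
        · exact Finset.mem_image_of_mem _ (Finset.mem_range.mpr hlt)
        · have hiN : i + 1 = N := by have := Finset.mem_range.mp hi; omega
          refine Finset.mem_image.mpr ⟨0, Finset.mem_range.mpr (by omega), Subtype.ext ?_⟩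
          rw [hcoe, hcoe, show i.succ = N from hiN, hgN, pow_zero]
      have hcomp : ∀ y ∈ S \ O, cjE y ∈ S \ O := by
        intro y hy
        obtain ⟨hyS, hyO⟩ := Finset.mem_sdiff.mp hy
        refine Finset.mem_sdiff.mpr ⟨hSc y hyS, fun hyO' => hyO ?_⟩
        have hb : O.image cjE = O :=
          Finset.eq_of_subset_of_card_le (Finset.image_subset_iff.mpr hOc)
            (by rw [Finset.card_image_of_injective _ hcinj])
        rw [← hb] at hyO'
        obtain ⟨z, hz, hzy⟩ := Finset.mem_image.mp hyO'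
        rwa [hcinj hzy] at hz
      have hN0 : 0 < N := hN0'
      have hxO : x ∈ O := Finset.mem_image.mpr ⟨0, Finset.mem_range.mpr hN0, rfl⟩
      have hlt : S \ O ⊂ S := Finset.sdiff_ssubset hOS ⟨x, hxO⟩
      obtain ⟨Z, hZ⟩ := ih _ hlt (fun y hy => hSR y (Finset.mem_sdiff.mp hy).1) hcomp
      refine ⟨Z + F x, ?_⟩
      rw [← Finset.sum_sdiff hOS, hZ, hO, Finset.sum_image hinj, ← Finset.sum_add_distrib]
      exact Finset.sum_congr rfl fun i _ => by rw [hFiter, mul_add, add_mul]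
  have hRset : ∀ x : E, (x : X) ∉ R → ((cjE x : E) : X) ∉ R := fun x hx h => hx (by
    have := conj_inv_mem hgR h
    rwa [show g⁻¹ * (g * (x : X) * g⁻¹) * g = x by group] at this)
  obtain ⟨Z, hZ⟩ := horb (Finset.univ.filter fun x : E => (x : X) ∉ R)
    (fun x hx => (Finset.mem_filter.mp hx).2)
    (fun x hx => Finset.mem_filter.mpr ⟨Finset.mem_univ _, hRset x (Finset.mem_filter.mp hx).2⟩)
  have hin : ∀ x : E, (x : X) ∈ R → ∃ c : k, F x = c • 1 := fun x hx => by
    obtain ⟨c, hc⟩ := hGscal x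
    obtain ⟨d, hd⟩ := H.scal _ hx
    exact ⟨c * d, by show G x * ρ (x : X) = _; rw [hc, hd, smul_mul_smul_comm, one_mul]⟩
  choose! cR hcR using hin
  set C : k := (Nat.card E : k) * (Finset.univ.filter fun y : E => (y : X) ∈ R).card with hC
  have hC0 : C ≠ 0 := by
    refine mul_ne_zero hEk fun h => hEk ?_
    obtain ⟨m, hm⟩ := Subgroup.card_dvd_of_le H.R_le
    have e : (Finset.univ.filter fun y : E => (y : X) ∈ R).card = Nat.card R := by
      rw [← Nat.card_congr (Subgroup.subgroupOfEquivOfLe H.R_le).toEquiv, Nat.card_eq_fintype_card,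
        ← Fintype.card_subtype]
      exact Fintype.card_congr (Equiv.refl _)
    rw [hm, Nat.cast_mul, ← e, h, zero_mul]
  rw [← Finset.sum_filter_add_sum_filter_not Finset.univ (fun x : E => (x : X) ∈ R), hZ,
    Finset.sum_congr rfl (fun x hx => hcR x (Finset.mem_filter.mp hx).2), ← Finset.sum_smul] at hsum
  refine ⟨C⁻¹ * ∑ x ∈ Finset.univ.filter (fun y : E => (y : X) ∈ R), cR x, C⁻¹ • Z, ?_⟩
  simp only [mul_smul_comm, smul_mul_assoc, ← Finset.smul_sum]
  rw [← smul_smul, ← smul_add, hsum, smul_smul, inv_mul_cancel₀ hC0, one_smul]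

/-- The fixed operators of a semiregular automorphism are scalars plus traces. -/
theorem HeisRep.fixed_decomp [Nontrivial W] {ρ : X →* Module.End k W} {E R : Subgroup X}
    (H : HeisRep ρ E R) (hEk : (Nat.card E : k) ≠ 0)
    (hirrE : ∀ Y : Submodule k W, (∀ x ∈ E, ∀ y ∈ Y, ρ x y ∈ Y) → Y = ⊥ ∨ Y = ⊤)
    (g : X) (hgE : ∀ e ∈ E, g * e * g⁻¹ ∈ E) (hgR : ∀ e ∈ R, g * e * g⁻¹ ∈ R) {N : ℕ} (hN : 0 < N)
    (hgN : ρ g ^ N = 1)
    (hsemi : ∀ i, 0 < i → i < N → ∀ x ∈ E, x⁻¹ * (g ^ i * x * (g ^ i)⁻¹) ∈ R → x ∈ R)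
    {f : Module.End k W} (hf : ρ g * f = f * ρ g) :
    ∃ (μ : k) (Z : Module.End k W), f = μ • 1 + ∑ i ∈ range N, ρ (g ^ i) * Z * ρ (g ^ i)⁻¹ := by
  classical
  let π := ρ.toHomUnits.rangeRestrict
  let ρ' : ρ.toHomUnits.range →* Module.End k W := (Units.coeHom _).comp ρ.toHomUnits.range.subtype
  have hπ : ∀ x, ρ' (π x) = ρ x := fun x => rfl
  haveI : Finite ρ.toHomUnits.range := Finite.of_surjective π ρ.toHomUnits.rangeRestrict_surjective
  have hker : ∀ w ∈ E, ρ w = 1 → w ∈ R := fun w hw h => H.mem_of_scalar hw fun s _ => by rw [h, mul_one, one_mul]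
  have hpre : ∀ w ∈ E, π w ∈ R.map π → w ∈ R := fun w hw hm => by
    obtain ⟨z, hz, hzw⟩ := Subgroup.mem_map.mp hm
    have h1 : z⁻¹ * w ∈ R := hker _ (E.mul_mem (inv_mem (H.R_le hz)) hw) (by
      rw [← hπ, map_mul π, map_inv π, hzw, inv_mul_cancel, map_one])
    simpa using R.mul_mem hz h1
  have H' : HeisRep ρ' (E.map π) (R.map π) := by
    refine ⟨Subgroup.map_mono H.R_le, ?_, ?_, ?_⟩
    · rintro _ ⟨z, hz, rfl⟩; exact H.scal z hz
    · rintro _ ⟨x, hx, rfl⟩ _ ⟨y, hy, rfl⟩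
      exact ⟨_, H.comm_mem x hx y hy, by simp only [map_mul, map_inv]⟩
    · rintro _ ⟨w, hw, rfl⟩ hwR
      obtain ⟨s, hs, hne⟩ := H.sep w hw (fun h => hwR ⟨w, h, rfl⟩)
      exact ⟨π s, ⟨s, hs, rfl⟩, by rw [← map_inv, ← map_inv, ← map_mul, ← map_mul, ← map_mul, hπ]; exact hne⟩
  have hEk' : (Nat.card (E.map π) : k) ≠ 0 := fun h => by
    obtain ⟨m, hm⟩ := Subgroup.card_map_dvd (H := E) π
    exact hEk (by rw [hm, Nat.cast_mul, h, zero_mul])
  obtain ⟨μ, Z, hZ⟩ := HeisRep.fixed_decomp_aux H' hEk' (fun Y hY => hirrE Y fun x hx => hY _ ⟨x, hx, rfl⟩) (π g)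
    (by rintro _ ⟨e, he, rfl⟩; exact ⟨_, hgE e he, by simp only [map_mul, map_inv]⟩)
    (by rintro _ ⟨e, he, rfl⟩; exact ⟨_, hgR e he, by simp only [map_mul, map_inv]⟩)
    hN (Subtype.ext (Units.ext (by rw [← map_pow π]; show ρ (g ^ N) = 1; rw [map_pow, hgN])))
    (by
      rintro i hi hiN _ ⟨x, hx, rfl⟩ hm
      rw [← map_pow, ← map_inv, ← map_inv, ← map_mul, ← map_mul, ← map_mul] at hm
      exact ⟨x, hsemi i hi hiN x hx (hpre _ (E.mul_mem (inv_mem hx) (conj_pow_mem hgE i hx)) hm), rfl⟩)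
    (f := f) hf
  refine ⟨μ, Z, hZ.trans ?_⟩
  simp only [← map_pow π, ← map_inv π, hπ]

end Cfsg.Agent.TurullOne
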