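/-
An operator of prime order `r` and a commuting one of prime order `o` on an irreducible module of a
class-two group: lower bounds for the dimension, and where the second operator must act.
-/
import Mathlib
import Cfsg.Agent.TurullOne.Inter

set_option autoImplicit false
set_option linter.style.haveILetI false

namespace Cfsg.Agent.TurullOne

open Module Finset
open Cfsg.Agent.PrimeFPF (proj T_proj proj_comm sum_proj proj_eigen)

variable {k : Type*} [Field k] [IsAlgClosed k] {W : Type*} [AddCommGroup W] [Module k W] [FiniteDimensional k W]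
  [Nontrivial W]
variable {X : Type*} [Group X] [Finite X]

/-- Two commuting elements acting semiregularly on an irreducible class-two group. -/
structure Duo (ρ : X →* Module.End k W) (E R : Subgroup X) (a s : X) (r o : ℕ) : Prop where
  heis : HeisRep ρ E R
  hEk : (Nat.card E : k) ≠ 0
  hirr : ∀ Y : Submodule k W, (∀ x ∈ E, ∀ y ∈ Y, ρ x y ∈ Y) → Y = ⊥ ∨ Y = ⊤
  proper : ¬ E ≤ R
  hr : r.Prime
  ho : o.Prime
  hne : r ≠ o
  hrk : (r : k) ≠ 0
  ha : a ^ r = 1
  hcomm : a * s = s * a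
  aE : ∀ e ∈ E, a * e * a⁻¹ ∈ E
  aR : ∀ e ∈ R, a * e * a⁻¹ ∈ R
  sE : ∀ e ∈ E, s * e * s⁻¹ ∈ E
  sR : ∀ e ∈ R, s * e * s⁻¹ ∈ R
  hso : ∀ x ∈ E, ρ (s ^ o * x * (s ^ o)⁻¹) = ρ x
  ord : ∃ m : ℕ, s ^ o ^ m = 1
  semi_a : ∀ x ∈ E, x⁻¹ * (a * x * a⁻¹) ∈ R → x ∈ R
  semi_s : ∀ x ∈ E, x⁻¹ * (s * x * s⁻¹) ∈ R → x ∈ R

namespace Duo

variable {ρ : X →* Module.End k W} {E R : Subgroup X} {a s : X} {r o : ℕ}

omit [IsAlgClosed k] [FiniteDimensional k W] [Nontrivial W] in
theorem pow_semi {g : X} {ρ' : X →* Module.End k W} (H : HeisRep ρ' E R) (hgE : ∀ e ∈ E, g * e * g⁻¹ ∈ E)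
    (hgR : ∀ e ∈ R, g * e * g⁻¹ ∈ R) {x : X} (hx : x ∈ E) {i : ℕ}
    (h : x⁻¹ * (g ^ i * x * (g ^ i)⁻¹) ∈ R) (m : ℕ) : x⁻¹ * (g ^ (i * m) * x * (g ^ (i * m))⁻¹) ∈ R := by
  induction m with
  | zero => simp
  | succ m ih =>
    rw [show i * (m + 1) = i + i * m by ring, pow_add]
    have h1 := mul_mem h (conj_pow_mem hgR i ih)
    rwa [show x⁻¹ * (g ^ i * x * (g ^ i)⁻¹) * (g ^ i * (x⁻¹ * (g ^ (i * m) * x * (g ^ (i * m))⁻¹)) * (g ^ i)⁻¹)
      = x⁻¹ * (g ^ i * g ^ (i * m) * x * (g ^ i * g ^ (i * m))⁻¹) by group] at h1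

theorem a_semi (h : Duo ρ E R a s r o) :
    ∀ i, 0 < i → i < r → ∀ x ∈ E, x⁻¹ * (a ^ i * x * (a ^ i)⁻¹) ∈ R → x ∈ R := by
  intro i hi hir x hx hm
  have hnd : ¬ r ∣ i := fun hd => by have := Nat.le_of_dvd hi hd; omega
  obtain ⟨m, hm'⟩ := mem_powers_of_not_dvd h.hr h.ha hnd
  have h1 := pow_semi h.heis h.aE h.aR hx hm m
  rw [pow_mul, hm'] at h1
  exact h.semi_a x hx h1

theorem s_fix (h : Duo ρ E R a s r o) {x : X} (hx : x ∈ E) : x⁻¹ * (s ^ o * x * (s ^ o)⁻¹) ∈ R := by
  refine h.heis.mem_of_scalar (E.mul_mem (inv_mem hx) (conj_pow_mem h.sE o hx)) fun z _ => ?_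
  rw [map_mul ρ x⁻¹, h.hso x hx, ← map_mul ρ x⁻¹, inv_mul_cancel, map_one, mul_one, one_mul]

theorem s_semi (h : Duo ρ E R a s r o) :
    ∀ i, ¬ o ∣ i → ∀ x ∈ E, x⁻¹ * (s ^ i * x * (s ^ i)⁻¹) ∈ R → x ∈ R := by
  intro i hi x hx hm
  obtain ⟨m, hm1⟩ := exists_mul_mod_eq_one h.ho hi
  have h1 := pow_semi h.heis h.sE h.sR hx hm m
  have h2 := pow_semi h.heis h.sE h.sR hx (h.s_fix hx) (i * m / o)
  rw [← Nat.div_add_mod (i * m) o, hm1, pow_add, pow_one] at h1
  refine h.semi_s x hx ?_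
  have h4 := conj_inv_mem (g := s ^ (o * (i * m / o))) (fun e he => conj_pow_mem h.sR _ he)
    (mul_mem (inv_mem h2) h1)
  rwa [show (s ^ (o * (i * m / o)))⁻¹ * ((x⁻¹ * (s ^ (o * (i * m / o)) * x * (s ^ (o * (i * m / o)))⁻¹))⁻¹ *
      (x⁻¹ * (s ^ (o * (i * m / o)) * s * x * (s ^ (o * (i * m / o)) * s)⁻¹))) * s ^ (o * (i * m / o))
    = x⁻¹ * (s * x * s⁻¹) by group] at h4

theorem g_semi (h : Duo ρ E R a s r o) :
    ∀ i, 0 < i → i < r * o → ∀ x ∈ E, x⁻¹ * ((a * s) ^ i * x * ((a * s) ^ i)⁻¹) ∈ R → x ∈ R := by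
  intro i hi hiN x hx hm
  have hgE : ∀ e ∈ E, a * s * e * (a * s)⁻¹ ∈ E := fun e he => by
    rw [show a * s * e * (a * s)⁻¹ = a * (s * e * s⁻¹) * a⁻¹ by group]; exact h.aE _ (h.sE e he)
  have hgR : ∀ e ∈ R, a * s * e * (a * s)⁻¹ ∈ R := fun e he => by
    rw [show a * s * e * (a * s)⁻¹ = a * (s * e * s⁻¹) * a⁻¹ by group]; exact h.aR _ (h.sR e he)
  by_cases hro : r ∣ i
  · have hoi : ¬ o ∣ i := fun hd => by
      have := Nat.le_of_dvd hi (Nat.Coprime.mul_dvd_of_dvd_of_dvd ((Nat.coprime_primes h.hr h.ho).mpr h.hne) hro hd)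
      omega
    refine h.s_semi i hoi x hx ?_
    rwa [(Commute.mul_pow h.hcomm i), show a ^ i = 1 by
      obtain ⟨q, rfl⟩ := hro; rw [pow_mul, h.ha, one_pow], one_mul] at hm
  · have h1 := pow_semi h.heis hgE hgR hx hm o
    rw [Commute.mul_pow h.hcomm] at h1
    -- remove the part of `s`
    have h2 := pow_semi h.heis h.sE h.sR hx (h.s_fix hx) i
    rw [mul_comm o i] at h2
    have h3 := conj_inv_mem (g := s ^ (i * o)) (fun e he => conj_pow_mem h.sR _ he)
      (mul_mem (inv_mem h2) h1)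
    have h4 : x⁻¹ * (a ^ (i * o) * x * (a ^ (i * o))⁻¹) ∈ R := by
      have e : a ^ (i * o) * s ^ (i * o) = s ^ (i * o) * a ^ (i * o) :=
        (Commute.pow_pow (h.hcomm : Commute a s) _ _).eq
      rw [e] at h3
      rwa [show (s ^ (i * o))⁻¹ * ((x⁻¹ * (s ^ (i * o) * x * (s ^ (i * o))⁻¹))⁻¹ *
          (x⁻¹ * (s ^ (i * o) * a ^ (i * o) * x * (s ^ (i * o) * a ^ (i * o))⁻¹))) * s ^ (i * o)
        = x⁻¹ * (a ^ (i * o) * x * (a ^ (i * o))⁻¹) by group] at h3
    have hnd : ¬ r ∣ i * o := fun hd => by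
      rcases (Nat.Prime.dvd_mul h.hr).mp hd with hd | hd
      · exact hro hd
      · exact h.hne ((Nat.prime_dvd_prime_iff_eq h.hr h.ho).mp hd)
    obtain ⟨m, hm'⟩ := mem_powers_of_not_dvd h.hr h.ha hnd
    have h5 := pow_semi h.heis h.aE h.aR hx h4 m
    rw [pow_mul a (i * o) m, hm'] at h5
    exact h.semi_a x hx h5

theorem gE (h : Duo ρ E R a s r o) : ∀ e ∈ E, a * s * e * (a * s)⁻¹ ∈ E := fun e he => by
  rw [show a * s * e * (a * s)⁻¹ = a * (s * e * s⁻¹) * a⁻¹ by group]; exact h.aE _ (h.sE e he)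

theorem gR (h : Duo ρ E R a s r o) : ∀ e ∈ R, a * s * e * (a * s)⁻¹ ∈ R := fun e he => by
  rw [show a * s * e * (a * s)⁻¹ = a * (s * e * s⁻¹) * a⁻¹ by group]; exact h.aR _ (h.sR e he)

theorem sq_dim (h : Duo ρ E R a s r o) : CountResult ρ E R (ρ a) r :=
  h.heis.count h.hEk a h.aE h.aR h.hr.one_lt h.hrk (ρ a) (by rw [← map_pow, h.ha, map_one])
    (fun x _ => by rw [← map_mul, ← map_mul]; congr 1; group) h.a_semi
    (fun Y hY _ => h.hirr Y hY) h.proper

theorem one_lt_dim (h : Duo ρ E R a s r o) : 1 < finrank k W := by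
  by_contra hle
  have h1 : finrank k W = 1 := by have := finrank_pos (R := k) (M := W); omega
  have h2 := h.sq_dim.sq_dim
  rw [h1, one_pow, eq_comm, Subgroup.relIndex_eq_one] at h2
  exact h.proper h2

theorem s_scalar (h : Duo ρ E R a s r o) : ∃ c : k, ρ (s ^ o) = c • 1 :=
  h.heis.eq_smul_one h.hEk (1 : Module.End k W) (N := 1) (by simp) (one_pow _)
    (fun x hx => ⟨x, hx, by simp⟩) (fun Y hY _ => h.hirr Y hY) (fun x hx => by
      show ρ (s ^ o) * ρ x = ρ x * ρ (s ^ o)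
      conv_rhs => rw [← h.hso x hx, ← map_mul, inv_mul_cancel_right, map_mul])

theorem scalar_ne_zero (h : Duo ρ E R a s r o) {c : k} (hc : ρ (s ^ o) = c • 1) : c ≠ 0 := fun h0 => by
  obtain ⟨v, hv⟩ := exists_ne (0 : W)
  apply hv
  have := apply_inv_apply ρ (s ^ o) v
  rw [hc, h0, zero_smul, LinearMap.zero_apply, map_zero] at this
  exact this.symm

/-- In coprime characteristic the pair bounds the dimension from below. -/
theorem mul_le_dim (h : Duo ρ E R a s r o) (hok : (o : k) ≠ 0) : r * o ≤ finrank k W + 1 := by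
  obtain ⟨c, hc⟩ := h.s_scalar
  have hc0 := h.scalar_ne_zero hc
  obtain ⟨d, hd⟩ := IsAlgClosed.exists_pow_nat_eq (c ^ r)⁻¹ (Nat.mul_pos h.hr.pos h.ho.pos)
  have hgN : ρ (a * s) ^ (r * o) = (c ^ r) • 1 := by
    rw [← map_pow, Commute.mul_pow h.hcomm, pow_mul a, h.ha, one_pow, one_mul, mul_comm r o, pow_mul, map_pow, hc,
      smul_pow, one_pow]
  have hT : (d • ρ (a * s)) ^ (r * o) = 1 := by
    rw [smul_pow, hgN, smul_smul, hd, inv_mul_cancel₀ (pow_ne_zero _ hc0), one_smul]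
  have hres := h.heis.count h.hEk (a * s) h.gE h.gR (N := r * o)
    (by have := h.hr.two_le; have := h.ho.two_le; nlinarith) (by rw [Nat.cast_mul]; exact mul_ne_zero h.hrk hok)
    (d • ρ (a * s)) hT (fun x _ => by
      rw [smul_mul_assoc, ← map_mul, mul_smul_comm, ← map_mul]; congr 2; group) h.g_semi
    (fun Y hY _ => h.hirr Y hY) h.proper
  have h1 := hres.dim_mul_le
  have hn := h.one_lt_dim
  set n := finrank k W
  obtain ⟨N, hN⟩ : ∃ N, r * o = N + 1 := ⟨r * o - 1, by have := Nat.mul_pos h.hr.pos h.ho.pos; omega⟩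
  rw [hN] at h1 ⊢
  simp only [add_tsub_cancel_right] at h1
  by_contra hlt
  push Not at hlt
  obtain ⟨n', hn'⟩ : ∃ n', n = n' + 2 := ⟨n - 2, by omega⟩
  rw [hn'] at h1 hlt
  nlinarith

/-- If `s` fixes the fixed vectors of `a`, in coprime characteristic. -/
theorem trivial_fixed_coprime (h : Duo ρ E R a s r o) (hok : (o : k) ≠ 0) (hro : r = 2 → o ≠ 2)
    (htriv : ∀ v, ρ a v = v → ρ s v = v) : o = 2 ∧ finrank k W ≤ 3 * r - 1 := by
  have hres := h.sq_dim
  have h1 := h.mul_le_dim hok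
  set n := finrank k W with hn
  have hr2 := h.hr.two_le
  have ho2 := h.ho.two_le
  set m0 := finrank k (LinearMap.ker (ρ a - 1)) with hm0
  have hm0pos : 0 < m0 := by
    by_contra hz
    have : n ≤ r * m0 + (r - 1) := hres.lower
    rw [Nat.eq_zero_of_not_pos hz, mul_zero, zero_add] at this
    have : r * 2 ≤ r * o := Nat.mul_le_mul_left r ho2
    omega
  obtain ⟨v, hv, hv0⟩ : ∃ v ∈ LinearMap.ker (ρ a - 1), v ≠ 0 :=
    Submodule.exists_mem_ne_zero_of_ne_bot (fun e => by rw [hm0, e, finrank_bot] at hm0pos; omega)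
  obtain ⟨c, hc⟩ := h.s_scalar
  have hav : ρ a v = v := sub_eq_zero.mp hv
  have hc1 : c = 1 := by
    have e : ρ (s ^ o) v = v := pow_apply_eq (htriv v hav) o
    rw [hc] at e
    exact smul_left_injective k hv0 (e.trans (one_smul k v).symm)
  have hT : ρ (a * s) ^ (r * o) = 1 := by
    rw [← map_pow, Commute.mul_pow h.hcomm, pow_mul a, h.ha, one_pow, one_mul, mul_comm r o, pow_mul, map_pow, hc,
      hc1, one_smul, one_pow]
  have hres' := h.heis.count h.hEk (a * s) h.gE h.gR (N := r * o) (by nlinarith)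
    (by rw [Nat.cast_mul]; exact mul_ne_zero h.hrk hok)
    (ρ (a * s)) hT (fun x _ => by rw [← map_mul, ← map_mul]; congr 1; group) h.g_semi
    (fun Y hY _ => h.hirr Y hY) h.proper
  have hle : m0 ≤ finrank k (LinearMap.ker (ρ (a * s) - 1)) := by
    refine Submodule.finrank_mono fun u hu => ?_
    have hau : ρ a u = u := sub_eq_zero.mp hu
    show ρ (a * s) u - u = 0
    rw [apply_mul, htriv u hau, hau, sub_self]
  have hu' := hres'.upper
  have hl := hres.lower
  rw [← hm0] at hl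
  have hu : r * o * m0 ≤ n + (r * o - 1) := (Nat.mul_le_mul_left _ hle).trans hu'
  obtain ⟨r', rfl⟩ : ∃ r', r = r' + 1 := ⟨r - 1, by omega⟩
  obtain ⟨o', rfl⟩ : ∃ o', o = o' + 1 := ⟨o - 1, by omega⟩
  simp only [add_tsub_cancel_right] at hl
  have hro1 : (r' + 1) * (o' + 1) - 1 = r' * o' + r' + o' := by
    have : (r' + 1) * (o' + 1) = r' * o' + r' + o' + 1 := by ring
    omega
  rw [hro1] at hu
  by_cases ho' : o' = 1
  · subst ho'
    refine ⟨rfl, ?_⟩
    have hm2 : m0 ≤ 2 := by nlinarith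
    have : (r' + 1) * m0 ≤ (r' + 1) * 2 := Nat.mul_le_mul_left _ hm2
    omega
  · exfalso
    have ho3 : 2 ≤ o' := by omega
    have hm1 : m0 ≤ 1 := by
      by_contra hm
      push Not at hm
      nlinarith [Nat.mul_le_mul (Nat.mul_le_mul (le_refl (r' + 1)) ho3) hm]
    have hm01 : m0 = 1 := by omega
    rw [hm01] at hl
    have : (r' + 1) * 3 ≤ (r' + 1) * (o' + 1) := Nat.mul_le_mul_left _ (by omega)
    omega

/-- The multiplicity of an eigenvalue of `a`. -/
theorem mult (h : Duo ρ E R a s r o) {η : k} (hη : η ^ r = 1) :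
    r * finrank k (LinearMap.ker (ρ a - η • 1)) ≤ finrank k W + (r - 1) ∧
      finrank k W ≤ r * finrank k (LinearMap.ker (ρ a - η • 1)) + (r - 1) := by
  have hη0 : η ≠ 0 := by rintro rfl; simp [zero_pow h.hr.ne_zero] at hη
  have hres := h.heis.count h.hEk a h.aE h.aR h.hr.one_lt h.hrk (η⁻¹ • ρ a)
    (by rw [smul_pow, inv_pow, hη, inv_one, one_smul, ← map_pow, h.ha, map_one])
    (fun x _ => by rw [smul_mul_assoc, ← map_mul, mul_smul_comm, ← map_mul]; congr 2; group) h.a_semi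
    (fun Y hY _ => h.hirr Y hY) h.proper
  have e : LinearMap.ker (η⁻¹ • ρ a - 1) = LinearMap.ker (ρ a - η • 1) := by
    ext v
    simp only [LinearMap.mem_ker, LinearMap.sub_apply, LinearMap.smul_apply, Module.End.one_apply, sub_eq_zero]
    exact inv_smul_eq_iff₀ hη0
  exact ⟨e ▸ hres.upper, e ▸ hres.lower⟩

theorem sum_mult (h : Duo ρ E R a s r o) {w : k} (hw : IsPrimitiveRoot w r) :
    ∑ j : Fin r, finrank k (LinearMap.ker (ρ a - w ^ (j : ℕ) • 1)) = finrank k W := by
  classical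
  have hT : ρ a ^ r = 1 := by rw [← map_pow, h.ha, map_one]
  let F : Fin r → Submodule k W := fun j => LinearMap.ker (ρ a - w ^ (j : ℕ) • 1)
  have hF : ∀ j, F j = Module.End.eigenspace (ρ a) (w ^ (j : ℕ)) := fun j => by
    ext v; simp [F, Module.End.mem_eigenspace_iff, sub_eq_zero]
  have hind : iSupIndep F := by
    rw [show F = Module.End.eigenspace (ρ a) ∘ fun j : Fin r => w ^ (j : ℕ) from funext hF]
    exact (Module.End.eigenspaces_iSupIndep (ρ a)).comp fun i j e => Fin.ext (hw.pow_inj i.2 j.2 e)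
  have htop : iSup F = ⊤ := eq_top_iff.mpr fun v _ => by
    rw [← sum_proj (T := ρ a) hw h.hrk v]
    refine Submodule.sum_mem _ fun j hj => ?_
    refine Submodule.mem_iSup_of_mem ⟨j, Finset.mem_range.mp hj⟩ ?_
    show proj (ρ a) r (w ^ j) v ∈ LinearMap.ker (ρ a - w ^ j • 1)
    rw [LinearMap.mem_ker, LinearMap.sub_apply, sub_eq_zero]
    exact LinearMap.congr_fun (T_proj hT (by rw [pow_right_comm, hw.pow_eq_one, one_pow]) h.hr.ne_zero) v
  have hint := DirectSum.isInternal_submodule_of_iSupIndep_of_iSup_eq_top hind htop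
  have e := (LinearEquiv.ofBijective (DirectSum.coeLinearMap F) hint).finrank_eq
  rw [Module.finrank_directSum] at e
  exact e

theorem proj_mem (h : Duo ρ E R a s r o) {η : k} (hη : η ^ r = 1) (v : W) :
    ρ a (proj (ρ a) r η v) = η • proj (ρ a) r η v :=
  LinearMap.congr_fun (T_proj (by rw [← map_pow, h.ha, map_one]) hη h.hr.ne_zero) v

theorem proj_g (h : Duo ρ E R a s r o) (η : k) (i : ℕ) :
    proj (ρ a) r η * ρ ((a * s) ^ i) = ρ ((a * s) ^ i) * proj (ρ a) r η := by
  have hc : Commute (ρ a) (ρ ((a * s) ^ i)) :=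
    (((Commute.refl a).mul_right (h.hcomm : Commute a s)).pow_right i).map ρ
  exact ((Commute.sum_left _ _ _ fun j _ => (hc.smul_left η⁻¹).pow_left j).smul_left _ :
    Commute (proj (ρ a) r η) _).eq

theorem proj_self (h : Duo ρ E R a s r o) {η : k} (hη : η ^ r = 1) {v : W} (hv : ρ a v = η • v) :
    proj (ρ a) r η v = v := (proj_eigen hη hη h.hrk hv).1 rfl

theorem isProj (h : Duo ρ E R a s r o) {η : k} (hη : η ^ r = 1) :
    LinearMap.IsProj (LinearMap.ker (ρ a - η • 1)) (proj (ρ a) r η) :=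
  ⟨fun v => by simp [LinearMap.mem_ker, sub_eq_zero, h.proj_mem hη v],
    fun v hv => h.proj_self hη (by simpa [LinearMap.mem_ker, sub_eq_zero] using hv)⟩

theorem g_pow (h : Duo ρ E R a s r o) (hok : (o : k) = 0) : ρ (a * s) ^ (r * o) = 1 := by
  obtain ⟨c, hc⟩ := h.s_scalar
  haveI : Fact o.Prime := ⟨h.ho⟩
  haveI : CharP k o := (CharP.charP_iff_prime_eq_zero h.ho).mpr hok
  have hc1 : c = 1 := by
    obtain ⟨m, hm⟩ := h.ord
    have e : ρ ((s ^ o) ^ o ^ m) = 1 := by rw [← pow_mul, mul_comm, pow_mul, hm, one_pow, map_one]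
    rw [map_pow, hc, smul_pow, one_pow] at e
    obtain ⟨v, hv⟩ := exists_ne (0 : W)
    have e1 := LinearMap.congr_fun e v
    simp only [LinearMap.smul_apply, Module.End.one_apply] at e1
    have e2 : c ^ o ^ m = 1 := smul_left_injective k hv (e1.trans (one_smul k v).symm)
    refine sub_eq_zero.mp (eq_zero_of_pow_eq_zero (n := o ^ m) ?_)
    rw [sub_pow_char_pow, e2, one_pow, sub_self]
  rw [← map_pow, Commute.mul_pow h.hcomm, pow_mul a, h.ha, one_pow, one_mul, mul_comm r o, pow_mul, map_pow, hc,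
    hc1, one_smul, one_pow]

/-- In characteristic `o` an operator commuting with `a * s` is a scalar plus traces. -/
theorem decomp (h : Duo ρ E R a s r o) (hok : (o : k) = 0) {f : Module.End k W}
    (hf : ρ (a * s) * f = f * ρ (a * s)) :
    ∃ (μ : k) (Z : Module.End k W), f = μ • 1 + ∑ i ∈ range (r * o), ρ ((a * s) ^ i) * Z * ρ ((a * s) ^ i)⁻¹ :=
  h.heis.fixed_decomp h.hEk h.hirr (a * s) h.gE h.gR (Nat.mul_pos h.hr.pos h.ho.pos) (h.g_pow hok) h.g_semi hf

/-- In characteristic `o` only one eigenspace of `a` has dimension non-zero in the field. -/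
theorem one_block (h : Duo ρ E R a s r o) (hok : (o : k) = 0) {η η' : k} (hη : η ^ r = 1) (hη' : η' ^ r = 1)
    (hne : η ≠ η') (h1 : (finrank k (LinearMap.ker (ρ a - η • 1)) : k) ≠ 0)
    (h2 : (finrank k (LinearMap.ker (ρ a - η' • 1)) : k) ≠ 0) : False := by
  set e := proj (ρ a) r η with he
  set e' := proj (ρ a) r η' with he'
  obtain ⟨μ, Z, hZ⟩ := h.decomp hok (f := e) (by simpa using (h.proj_g η 1).symm)
  have htr : ∀ η₀ : k, η₀ ^ r = 1 → LinearMap.trace k W (proj (ρ a) r η₀ * e)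
      = μ * (finrank k (LinearMap.ker (ρ a - η₀ • 1)) : k) := by
    intro η₀ hη₀
    have hterm : ∀ i ∈ range (r * o), LinearMap.trace k W
        (proj (ρ a) r η₀ * (ρ ((a * s) ^ i) * Z * ρ ((a * s) ^ i)⁻¹))
        = LinearMap.trace k W (proj (ρ a) r η₀ * Z) := fun i _ => by
      rw [← mul_assoc, ← mul_assoc, h.proj_g η₀ i, mul_assoc (ρ _) (proj (ρ a) r η₀) Z,
        LinearMap.trace_mul_comm, ← mul_assoc, ← map_mul, inv_mul_cancel, map_one, one_mul]
    conv_lhs => rw [hZ, mul_add, mul_smul_comm, mul_one, Finset.mul_sum, map_add, map_smul, map_sum,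
      Finset.sum_congr rfl hterm, Finset.sum_const, Finset.card_range, ← Nat.cast_smul_eq_nsmul k, Nat.cast_mul,
      hok, mul_zero, zero_smul, add_zero, (h.isProj hη₀).trace, smul_eq_mul]
  have hee' : e' * e = 0 := LinearMap.ext fun v =>
    (proj_eigen hη' hη h.hrk (h.proj_mem hη v)).2 hne.symm
  have hee : e * e = e := LinearMap.ext fun v => h.proj_self hη (h.proj_mem hη v)
  have e1 := htr η' hη'
  rw [← he', hee', map_zero] at e1
  have e2 := htr η hη
  rw [← he, hee, (h.isProj hη).trace, (mul_eq_zero.mp e1.symm).resolve_right h2, zero_mul] at e2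
  exact h1 e2

theorem not_one_block (h : Duo ρ E R a s r o) {w : k} (hw : IsPrimitiveRoot w r) (j₀ : Fin r)
    (hz : ∀ j : Fin r, j ≠ j₀ → finrank k (LinearMap.ker (ρ a - w ^ (j : ℕ) • 1)) = 0) : False := by
  have hn : finrank k (LinearMap.ker (ρ a - w ^ (j₀ : ℕ) • 1)) = finrank k W := by
    rw [← h.sum_mult hw, Finset.sum_eq_single j₀ (fun j _ hj => hz j hj) (by simp)]
  have htop := Submodule.eq_top_of_finrank_eq hn
  rw [LinearMap.ker_eq_top, sub_eq_zero] at htop
  refine h.proper fun x hx => h.semi_a x hx (h.heis.mem_of_scalar (E.mul_mem (inv_mem hx) (h.aE x hx)) fun z _ => ?_)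
  have e : w ^ (j₀ : ℕ) • ρ a⁻¹ = 1 := by
    have := map_mul ρ a a⁻¹
    rw [mul_inv_cancel, map_one, htop, smul_mul_assoc, one_mul] at this
    exact this.symm
  have : ρ (x⁻¹ * (a * x * a⁻¹)) = 1 := by
    rw [map_mul, map_mul, map_mul, htop, smul_mul_assoc, one_mul, smul_mul_assoc, ← mul_smul_comm _ (ρ x), e, mul_one,
      ← map_mul, inv_mul_cancel, map_one]
  rw [this, mul_one, one_mul]

theorem exists_root (h : Duo ρ E R a s r o) : ∃ w : k, IsPrimitiveRoot w r := by
  haveI : NeZero (r : k) := ⟨h.hrk⟩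
  exact HasEnoughRootsOfUnity.exists_primitiveRoot k r

theorem natCast_ne_zero_of_lt (h : Duo ρ E R a s r o) (hok : (o : k) = 0) {m : ℕ} (h0 : 0 < m) (hm : m < o) :
    (m : k) ≠ 0 := fun he => by
  haveI : CharP k o := (CharP.charP_iff_prime_eq_zero h.ho).mpr hok
  have := Nat.le_of_dvd h0 ((CharP.cast_eq_zero_iff k o m).mp he)
  omega

/-- The module has dimension at least `r + 2`. -/
theorem dim_ge (h : Duo ρ E R a s r o) : r + 2 ≤ finrank k W := by
  have hr2 := h.hr.two_le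
  have ho2 := h.ho.two_le
  set n := finrank k W with hn
  by_cases hok : (o : k) = 0
  · by_contra hlt
    obtain ⟨w, hw⟩ := h.exists_root
    have hwj : ∀ j : Fin r, (w ^ (j : ℕ)) ^ r = 1 := fun j => by rw [pow_right_comm, hw.pow_eq_one, one_pow]
    set μ : Fin r → ℕ := fun j => finrank k (LinearMap.ker (ρ a - w ^ (j : ℕ) • 1)) with hμ
    have hμ2 : ∀ j, μ j ≤ 2 := fun j => by
      have h1 : r * μ j ≤ n + (r - 1) := (h.mult (hwj j)).1
      by_contra hm
      have : r * 3 ≤ r * μ j := Nat.mul_le_mul_left r (by omega)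
      omega
    have hone : ∀ i j, (μ i : k) ≠ 0 → (μ j : k) ≠ 0 → i = j := fun i j hi hj => by
      by_contra hne
      exact h.one_block hok (hwj i) (hwj j) (fun e => hne (Fin.ext (hw.pow_inj i.2 j.2 e))) hi hj
    have hex : ∃ j, μ j ≠ 0 := by
      by_contra! hall
      have := h.sum_mult hw
      rw [Finset.sum_eq_zero fun j _ => hall j] at this
      exact (Nat.ne_of_lt (finrank_pos (R := k) (M := W))) this
    rcases h.ho.eq_two_or_odd with ho' | ho'
    · subst ho'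
      have hone' : ∀ i j, μ i = 1 → μ j = 1 → i = j := fun i j hi hj =>
        hone i j (by simp [hi]) (by simp [hj])
      by_cases hz : ∃ j, μ j = 0
      · obtain ⟨j, hj⟩ := hz
        have h2 : n ≤ r * μ j + (r - 1) := (h.mult (hwj j)).2
        rw [hj, mul_zero, zero_add] at h2
        have hμ1 : ∀ i, μ i ≤ 1 := fun i => by
          have h1 : r * μ i ≤ n + (r - 1) := (h.mult (hwj i)).1
          by_contra hm
          have : r * 2 ≤ r * μ i := Nat.mul_le_mul_left r (by omega)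
          omega
        obtain ⟨j₀, hj₀⟩ := hex
        refine h.not_one_block hw j₀ fun i hi => ?_
        by_contra hi0
        change μ i ≠ 0 at hi0
        exact hi (hone' i j₀ (by have := hμ1 i; omega) (by have := hμ1 j₀; omega))
      · push Not at hz
        have hsum : n = ∑ j, μ j := (h.sum_mult hw).symm
        have hle : ∀ j, 2 ≤ μ j + if μ j = 1 then 1 else 0 := fun j => by
          have := hz j
          split_ifs <;> omega
        have h1 := Finset.sum_le_sum (s := Finset.univ) fun j _ => hle j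
        rw [Finset.sum_const, Finset.card_univ, Fintype.card_fin, smul_eq_mul, Finset.sum_add_distrib, ← hsum,
          ← Finset.card_filter] at h1
        have h2 : (Finset.univ.filter fun j => μ j = 1).card ≤ 1 := Finset.card_le_one.mpr fun i hi j hj =>
          hone' i j (Finset.mem_filter.mp hi).2 (Finset.mem_filter.mp hj).2
        have := h.hne
        omega
    · obtain ⟨j₀, hj₀⟩ := hex
      refine h.not_one_block hw j₀ fun i hi => ?_
      by_contra hi0
      exact hi (hone i j₀ (h.natCast_ne_zero_of_lt hok (Nat.pos_of_ne_zero hi0) (by have := hμ2 i; omega))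
        (h.natCast_ne_zero_of_lt hok (Nat.pos_of_ne_zero hj₀) (by have := hμ2 j₀; omega)))
  · have h1 := h.mul_le_dim hok
    have hne := h.hne
    by_cases hr' : r = 2
    · subst hr'; omega
    · have : r * 2 ≤ r * o := Nat.mul_le_mul_left r ho2
      omega

theorem exists_fixed (h : Duo ρ E R a s r o) : ∃ v : W, v ≠ 0 ∧ ρ a v = v := by
  have h1 := (h.mult (one_pow r)).2
  have h2 := h.dim_ge
  have hne : LinearMap.ker (ρ a - (1 : k) • 1) ≠ ⊥ := fun e => by
    rw [e, finrank_bot, mul_zero] at h1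
    omega
  obtain ⟨v, hv, hv0⟩ := Submodule.exists_mem_ne_zero_of_ne_bot hne
  exact ⟨v, hv0, by simpa [LinearMap.mem_ker, sub_eq_zero] using hv⟩

/-- An eigenspace of `a` fixed by `s` is a line in characteristic `o`. -/
theorem block_le_one (h : Duo ρ E R a s r o) (hok : (o : k) = 0) {η : k} (hη : η ^ r = 1)
    (hs : ∀ v, ρ a v = η • v → ρ s v = v) : finrank k (LinearMap.ker (ρ a - η • 1)) ≤ 1 := by
  set K := LinearMap.ker (ρ a - η • 1) with hK
  have hKmem : ∀ v, v ∈ K ↔ ρ a v = η • v := fun v => by simp [K, LinearMap.mem_ker, sub_eq_zero]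
  by_contra hlt
  obtain ⟨v, hv, hv0⟩ := Submodule.exists_mem_ne_zero_of_ne_bot (p := K) (fun e => hlt (by rw [e]; simp))
  obtain ⟨l, hl⟩ : ∃ l : Module.Dual k W, l v = 1 := by
    obtain ⟨l, hl⟩ : ∃ l : Module.Dual k W, l v ≠ 0 := by
      by_contra! hall
      exact hv0 ((Module.forall_dual_apply_eq_zero_iff k v).mp hall)
    exact ⟨(l v)⁻¹ • l, by simp [hl]⟩
  obtain ⟨u, hu, hu0, hlu⟩ : ∃ u ∈ K, u ≠ 0 ∧ l u = 0 := by
    have hker : LinearMap.ker (l.comp K.subtype) ≠ ⊥ := fun e => hlt (by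
      have := LinearMap.finrank_le_finrank_of_injective (LinearMap.ker_eq_bot.mp e)
      rwa [finrank_self] at this)
    obtain ⟨u, hu, hu0⟩ := Submodule.exists_mem_ne_zero_of_ne_bot hker
    exact ⟨u, u.2, fun e => hu0 (Subtype.ext e), hu⟩
  have hg : ∀ x, ρ a x = η • x → ρ (a * s) x = η • x := fun x hx => by rw [apply_mul, hs x hx, hx]
  have hgi : ∀ (i : ℕ), ∀ x, ρ a x = η • x → ρ ((a * s) ^ i) x = η ^ i • x := by
    intro i x hx
    induction i with
    | zero => simp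
    | succ i ih => rw [pow_succ', apply_mul, ih, map_smul, hg x hx, smul_smul, pow_succ]
  obtain ⟨μ, Z, hZ⟩ := h.decomp hok (f := (l.smulRight v) * proj (ρ a) r η) (by
    refine LinearMap.ext fun x => ?_
    simp only [Module.End.mul_apply, LinearMap.smulRight_apply, map_smul]
    rw [hg v ((hKmem v).mp hv), show proj (ρ a) r η (ρ (a * s) x) = η • proj (ρ a) r η x by
      have := LinearMap.congr_fun (h.proj_g η 1) x
      simp only [pow_one, Module.End.mul_apply] at this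
      rw [this, hg _ (h.proj_mem hη x)], map_smul, smul_smul, smul_eq_mul, mul_comm η])
  have hη0 : η ≠ 0 := by rintro rfl; simp [zero_pow h.hr.ne_zero] at hη
  have key : ∀ x, ρ a x = η • x → l x • v = μ • x := by
    intro x hx
    have h0 := congrArg (fun f : Module.End k W => proj (ρ a) r η (f x)) hZ
    simp only [Module.End.mul_apply, LinearMap.smulRight_apply, LinearMap.add_apply, LinearMap.smul_apply,
      Module.End.one_apply, LinearMap.sum_apply, map_add, map_sum, map_smul] at h0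
    rw [h.proj_self hη hx, h.proj_self hη ((hKmem v).mp hv)] at h0
    rw [h0, Finset.sum_congr rfl fun i _ => show proj (ρ a) r η (ρ ((a * s) ^ i) (Z (ρ ((a * s) ^ i)⁻¹ x)))
        = proj (ρ a) r η (Z x) by
      have hxi : ρ ((a * s) ^ i)⁻¹ x = (η ^ i)⁻¹ • x := by
        rw [eq_inv_smul_iff₀ (pow_ne_zero i hη0), ← map_smul, ← hgi i x hx, apply_inv_apply]
      rw [hxi, map_smul, map_smul, map_smul, ← Module.End.mul_apply (proj (ρ a) r η), h.proj_g η i,
        Module.End.mul_apply, hgi i _ (h.proj_mem hη _), smul_smul, inv_mul_cancel₀ (pow_ne_zero i hη0), one_smul]]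
    simp [Finset.sum_const, ← Nat.cast_smul_eq_nsmul k, hok]
  have h1 := key u ((hKmem u).mp hu)
  rw [hlu, zero_smul] at h1
  have hμ : μ = 0 := (smul_eq_zero.mp h1.symm).resolve_right hu0
  have h2 := key v ((hKmem v).mp hv)
  rw [hl, one_smul, hμ, zero_smul] at h2
  exact hv0 h2

/-- An eigenspace of `a` fixed by `s` is a line in any characteristic. -/
theorem moved_le_one (h : Duo ρ E R a s r o) {η : k} (hη : η ^ r = 1)
    (hs : ∀ v, ρ a v = η • v → ρ s v = v) : finrank k (LinearMap.ker (ρ a - η • 1)) ≤ 1 := by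
  by_cases hok : (o : k) = 0
  · exact h.block_le_one hok hη hs
  set K := LinearMap.ker (ρ a - η • 1) with hK
  have hKmem : ∀ v, v ∈ K ↔ ρ a v = η • v := fun v => by simp [K, LinearMap.mem_ker, sub_eq_zero]
  by_cases hK0 : K = ⊥
  · rw [hK0]; simp
  obtain ⟨v, hv, hv0⟩ := Submodule.exists_mem_ne_zero_of_ne_bot hK0
  obtain ⟨c, hc⟩ := h.s_scalar
  have hc1 : c = 1 := by
    have e : ρ (s ^ o) v = v := pow_apply_eq (hs v ((hKmem v).mp hv)) o
    rw [hc] at e
    exact smul_left_injective k hv0 (e.trans (one_smul k v).symm)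
  have hgN : ρ (a * s) ^ (r * o) = 1 := by
    rw [← map_pow, Commute.mul_pow h.hcomm, pow_mul a, h.ha, one_pow, one_mul, mul_comm r o, pow_mul, map_pow, hc,
      hc1, one_smul, one_pow]
  have hη0 : η ≠ 0 := by rintro rfl; simp [zero_pow h.hr.ne_zero] at hη
  have hcnt : ∀ ζ : k, ζ ^ (r * o) = 1 → CountResult ρ E R (ζ⁻¹ • ρ (a * s)) (r * o) := fun ζ hζ =>
    h.heis.count h.hEk (a * s) h.gE h.gR (N := r * o) (by have := h.hr.two_le; have := h.ho.two_le; nlinarith)
      (by rw [Nat.cast_mul]; exact mul_ne_zero h.hrk hok) (ζ⁻¹ • ρ (a * s))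
      (by rw [smul_pow, inv_pow, hζ, inv_one, one_smul, hgN])
      (fun x _ => by rw [smul_mul_assoc, ← map_mul, mul_smul_comm, ← map_mul]; congr 2; group) h.g_semi
      (fun Y hY _ => h.hirr Y hY) h.proper
  have : NeZero (o : k) := ⟨hok⟩
  obtain ⟨ε, hε⟩ := HasEnoughRootsOfUnity.exists_primitiveRoot k o
  have hζN : (η * ε) ^ (r * o) = 1 := by
    rw [mul_pow, pow_mul, hη, one_pow, one_mul, mul_comm, pow_mul, hε.pow_eq_one, one_pow]
  have hzero : LinearMap.ker ((η * ε)⁻¹ • ρ (a * s) - 1) = ⊥ := by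
    refine (Submodule.eq_bot_iff _).mpr fun u hu => ?_
    have hgu : ρ (a * s) u = (η * ε) • u := by
      rw [LinearMap.mem_ker, LinearMap.sub_apply, sub_eq_zero, LinearMap.smul_apply, Module.End.one_apply,
        inv_smul_eq_iff₀ (mul_ne_zero hη0 (hε.ne_zero h.ho.ne_zero))] at hu
      exact hu
    have hpow : ∀ i : ℕ, ρ ((a * s) ^ i) u = (η * ε) ^ i • u := by
      intro i
      induction i with
      | zero => simp
      | succ i ih => rw [pow_succ', apply_mul, ih, map_smul, hgu, smul_smul, pow_succ]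
    obtain ⟨k', hk'⟩ := exists_mul_mod_eq_one h.hr (i := o) (fun hd =>
      h.hne ((Nat.prime_dvd_prime_iff_eq h.hr h.ho).mp hd))
    have e1 := hpow (o * k')
    rw [Commute.mul_pow h.hcomm, apply_mul, pow_mul s, map_pow ρ (s ^ o), hc, hc1, one_smul, one_pow,
      Module.End.one_apply, pow_eq_pow_mod _ h.ha, hk', pow_one, mul_pow, pow_eq_pow_mod _ hη, hk', pow_one,
      pow_mul ε, hε.pow_eq_one, one_pow, mul_one] at e1
    have e2 : η • u = (η * ε) • u := by rw [← hgu, apply_mul, hs u e1, e1]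
    by_contra hu0
    have := smul_left_injective k hu0 e2
    exact hε.ne_one h.ho.one_lt (mul_left_cancel₀ hη0 ((mul_one η).trans this)).symm
  have hn := (hcnt _ hζN).lower
  rw [hzero, finrank_bot, mul_zero, zero_add] at hn
  have h1 := (hcnt η (by rw [pow_mul, hη, one_pow])).upper
  have hle : finrank k K ≤ finrank k (LinearMap.ker (η⁻¹ • ρ (a * s) - 1)) :=
    Submodule.finrank_mono fun x hx => by
      have hx' := (hKmem x).mp hx
      simp [LinearMap.mem_ker, sub_eq_zero, apply_mul, hs x hx', hx', smul_smul, hη0]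
  by_contra hlt
  have : r * o * 2 ≤ r * o * finrank k (LinearMap.ker (η⁻¹ • ρ (a * s) - 1)) :=
    Nat.mul_le_mul_left _ (by omega)
  have := Nat.mul_pos h.hr.pos h.ho.pos
  omega

/-- `s` is not trivial on what `a` moves. -/
theorem not_trivial_moved (h : Duo ρ E R a s r o) :
    ¬ ∀ η : k, η ^ r = 1 → η ≠ 1 → ∀ v, ρ a v = η • v → ρ s v = v := by
  intro htriv
  obtain ⟨w, hw⟩ := h.exists_root
  have hr2 := h.hr.two_le
  set μ : Fin r → ℕ := fun j => finrank k (LinearMap.ker (ρ a - w ^ (j : ℕ) • 1)) with hμ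
  have hle : ∀ j : Fin r, (j : ℕ) ≠ 0 → μ j ≤ 1 := fun j hj => by
    have hη : (w ^ (j : ℕ)) ^ r = 1 := by rw [pow_right_comm, hw.pow_eq_one, one_pow]
    exact h.moved_le_one hη (htriv _ hη (hw.pow_ne_one_of_pos_of_lt hj j.2))
  obtain ⟨r', rfl⟩ : ∃ r', r = r' + 1 := ⟨r - 1, by omega⟩
  have hs : μ 0 + ∑ j : Fin r', μ j.succ = finrank k W := by rw [← Fin.sum_univ_succ]; exact h.sum_mult hw
  have h1 : ∑ j : Fin r', μ j.succ ≤ r' := by
    refine (Finset.sum_le_card_nsmul _ _ 1 fun j _ => hle _ (by simp)).trans ?_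
    simp
  have h2 : (r' + 1) * μ 0 ≤ finrank k W + r' := by
    have := (h.mult (η := w ^ ((0 : Fin (r' + 1)) : ℕ)) (by simp)).1
    simpa [μ] using this
  have h3 := h.dim_ge
  have h4 : 3 ≤ μ 0 := by omega
  nlinarith [Nat.mul_le_mul_left r' h4]

/-- If `s` fixes the fixed vectors of `a`, then `o = 2` and the dimension is small. -/
theorem trivial_fixed (h : Duo ρ E R a s r o) (htriv : ∀ v, ρ a v = v → ρ s v = v) :
    o = 2 ∧ finrank k W ≤ 3 * r - 1 := by
  by_cases hok : (o : k) = 0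
  · have hb := h.block_le_one hok (one_pow r) (fun v hv => htriv v (by simpa using hv))
    set m0 := finrank k (LinearMap.ker (ρ a - (1 : k) • 1)) with hm0
    have hl : finrank k W ≤ r * m0 + (r - 1) := (h.mult (one_pow r)).2
    have hb' : r * m0 ≤ r * 1 := Nat.mul_le_mul_left r hb
    have hr2 := h.hr.two_le
    refine ⟨?_, by omega⟩
    by_contra ho'
    obtain ⟨w, hw⟩ := h.exists_root
    have hwj : ∀ j : Fin r, (w ^ (j : ℕ)) ^ r = 1 := fun j => by rw [pow_right_comm, hw.pow_eq_one, one_pow]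
    set μ : Fin r → ℕ := fun j => finrank k (LinearMap.ker (ρ a - w ^ (j : ℕ) • 1)) with hμ
    have hμ2 : ∀ j, μ j ≤ 2 := fun j => by
      have h1 : r * μ j ≤ finrank k W + (r - 1) := (h.mult (hwj j)).1
      by_contra hm
      have : r * 3 ≤ r * μ j := Nat.mul_le_mul_left r (by omega)
      omega
    have ho3 : 3 ≤ o := by have := h.ho.two_le; omega
    obtain ⟨j₀, hj₀⟩ : ∃ j, μ j ≠ 0 := by
      by_contra! hall
      have := h.sum_mult hw
      rw [Finset.sum_eq_zero fun j _ => hall j] at this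
      exact (Nat.ne_of_lt (finrank_pos (R := k) (M := W))) this
    refine h.not_one_block hw j₀ fun i hi => ?_
    by_contra hi0
    exact h.one_block hok (hwj i) (hwj j₀) (fun e => hi (Fin.ext (hw.pow_inj i.2 j₀.2 e)))
      (h.natCast_ne_zero_of_lt hok (Nat.pos_of_ne_zero hi0) (lt_of_le_of_lt (hμ2 i) (by omega)))
      (h.natCast_ne_zero_of_lt hok (Nat.pos_of_ne_zero hj₀) (lt_of_le_of_lt (hμ2 j₀) (by omega)))
  · exact h.trivial_fixed_coprime hok (fun hr' ho' => h.hne (hr'.trans ho'.symm)) htriv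

end Duo

end Cfsg.Agent.TurullOne
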