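/-
Extension of scalars of a representation, and restriction to an invariant subspace.
-/
import Mathlib
import Cfsg.Agent.TurullOne.Reps

set_option autoImplicit false
set_option linter.style.haveILetI false
set_option linter.unusedSectionVars false

namespace Cfsg.Agent.TurullOne

open Module Finset TensorProduct

universe v

variable {X : Type*} [Group X] {F : Type*} [Field F] {V : Type v} [AddCommGroup V] [Module F V]
variable (k : Type*) [Field k] [Algebra F k]

/-- The representation over a larger field. -/
noncomputable def ext (ρ : X →* Module.End F V) : X →* Module.End k (k ⊗[F] V) :=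
  (Module.End.baseChangeHom F k V).toMonoidHom.comp ρ

theorem ext_apply (ρ : X →* Module.End F V) (x : X) : ext k ρ x = (ρ x).baseChange k := rfl

theorem ext_tmul (ρ : X →* Module.End F V) (x : X) (c : k) (v : V) :
    ext k ρ x (c ⊗ₜ v) = c ⊗ₜ ρ x v := LinearMap.baseChange_tmul _ _ _

/-- A subspace over a larger field. -/
noncomputable def bcSub (Y : Submodule F V) : Submodule k (k ⊗[F] V) := LinearMap.range (Y.subtype.baseChange k)

variable {k}

theorem tmul_mem_bcSub {Y : Submodule F V} {y : V} (hy : y ∈ Y) (c : k) : c ⊗ₜ[F] y ∈ bcSub k Y :=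
  ⟨c ⊗ₜ ⟨y, hy⟩, LinearMap.baseChange_tmul _ _ _⟩

theorem bcSub_induction {Y : Submodule F V} {motive : k ⊗[F] V → Prop} (zero : motive 0)
    (add : ∀ u w, motive u → motive w → motive (u + w)) (tmul : ∀ (c : k), ∀ y ∈ Y, motive (c ⊗ₜ y))
    {v : k ⊗[F] V} (hv : v ∈ bcSub k Y) : motive v := by
  obtain ⟨z, rfl⟩ := hv
  induction z using TensorProduct.induction_on with
  | zero => rw [map_zero]; exact zero
  | tmul c y => rw [LinearMap.baseChange_tmul]; exact tmul c y y.2
  | add u w hu hw => rw [map_add]; exact add _ _ hu hw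

theorem baseChange_mem_bcSub {Y Y' : Submodule F V} {f : Module.End F V} (hf : ∀ y ∈ Y, f y ∈ Y')
    {v : k ⊗[F] V} (hv : v ∈ bcSub k Y) : f.baseChange k v ∈ bcSub k Y' := by
  refine bcSub_induction (motive := fun v => f.baseChange k v ∈ bcSub k Y') ?_ ?_ ?_ hv
  · rw [map_zero]; exact zero_mem _
  · intro u w hu hw; rw [map_add]; exact add_mem hu hw
  · intro c y hy; rw [LinearMap.baseChange_tmul]; exact tmul_mem_bcSub (hf y hy) c

theorem baseChange_eq_on {Y : Submodule F V} {f g : Module.End F V} (hfg : ∀ y ∈ Y, f y = g y)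
    {v : k ⊗[F] V} (hv : v ∈ bcSub k Y) : f.baseChange k v = g.baseChange k v := by
  refine bcSub_induction (motive := fun v => f.baseChange k v = g.baseChange k v) ?_ ?_ ?_ hv
  · rw [map_zero, map_zero]
  · intro u w hu hw; rw [map_add, map_add, hu, hw]
  · intro c y hy; rw [LinearMap.baseChange_tmul, LinearMap.baseChange_tmul, hfg y hy]

theorem one_tmul_ne_zero {v : V} (hv : v ≠ 0) : (1 : k) ⊗ₜ[F] v ≠ 0 := by
  obtain ⟨l, hl⟩ : ∃ l : Module.Dual F V, l v ≠ 0 := by
    by_contra! h
    exact hv ((Module.forall_dual_apply_eq_zero_iff F v).mp h)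
  intro h0
  have := congrArg (((Algebra.linearMap F k).comp l).liftBaseChange k) h0
  rw [LinearMap.liftBaseChange_tmul, map_zero, one_smul] at this
  exact (map_ne_zero (algebraMap F k)).mpr hl this

/-- The scalar extension of a functional. -/
noncomputable def extFun (k : Type*) [Field k] [Algebra F k] (l : V →ₗ[F] F) : k ⊗[F] V →ₗ[k] k :=
  ((Algebra.linearMap F k).comp l).liftBaseChange k

theorem extFun_tmul (l : V →ₗ[F] F) (c : k) (v : V) : extFun k l (c ⊗ₜ v) = c * algebraMap F k (l v) :=
  LinearMap.liftBaseChange_tmul _ _ _ _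

theorem finrank_range_baseChange_le {W : Type*} [AddCommGroup W] [Module F W] [FiniteDimensional F W]
    (f : V →ₗ[F] W) : finrank k (LinearMap.range (f.baseChange k)) ≤ finrank F (LinearMap.range f) := by
  rw [show f.baseChange k = (LinearMap.range f).subtype.baseChange k ∘ₗ f.rangeRestrict.baseChange k by
    rw [← LinearMap.baseChange_comp]; rfl]
  refine (Submodule.finrank_mono (LinearMap.range_comp_le_range _ _)).trans ?_
  exact (LinearMap.finrank_range_le _).trans (Module.finrank_baseChange).le

section Res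

variable {K : Type*} [Field K] {W : Type*} [AddCommGroup W] [Module K W]

/-- The stabiliser of a subspace. -/
def stab (σ : X →* Module.End K W) (W0 : Submodule K W) [Finite X] : Subgroup X :=
  { carrier := {x | ∀ w ∈ W0, σ x w ∈ W0}
    one_mem' := fun w hw => by rw [map_one]; exact hw
    mul_mem' := fun {x y} hx hy w hw => by rw [apply_mul]; exact hx _ (hy w hw)
    inv_mem' := fun {x} hx w hw => by
      obtain ⟨m, hm⟩ : ∃ m : ℕ, x ^ m = x⁻¹ :=
        mem_powers_iff_mem_zpowers.mpr (inv_mem (Subgroup.mem_zpowers x))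
      rw [← hm]
      clear hm
      induction m with
      | zero => rw [pow_zero, map_one]; exact hw
      | succ m ih => rw [pow_succ', apply_mul]; exact hx _ ih }

/-- The action of the stabiliser on the subspace. -/
def resRep (σ : X →* Module.End K W) (W0 : Submodule K W) [Finite X] : stab σ W0 →* Module.End K W0 where
  toFun x := (σ (x : X)).restrict x.2
  map_one' := LinearMap.ext fun w => Subtype.ext (by simp)
  map_mul' x y := LinearMap.ext fun w => Subtype.ext (apply_mul σ (x : X) y w)

theorem resRep_apply (σ : X →* Module.End K W) (W0 : Submodule K W) [Finite X] (x : stab σ W0) (w : W0) :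
    ((resRep σ W0 x w : W0) : W) = σ (x : X) w := rfl

end Res

/-- Orders prime to the characteristic are inherited by a product with a normalising subgroup. -/
theorem natCast_card_sup_ne_zero [Finite X] {H N : Subgroup X} (hn : H ≤ Subgroup.normalizer (N : Set X))
    (hH : (Nat.card H : F) ≠ 0) (hN : (Nat.card N : F) ≠ 0) : (Nat.card (H ⊔ N : Subgroup X) : F) ≠ 0 := by
  set L := Subgroup.normalizer (N : Set X)
  have hNL : N ≤ L := Subgroup.le_normalizer
  set H' := H.subgroupOf L
  set N' := N.subgroupOf L
  have hS : Nat.card (H ⊔ N : Subgroup X) = Nat.card (H' ⊔ N' : Subgroup L) := by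
    rw [← Nat.card_congr (Subgroup.subgroupOfEquivOfLe (sup_le hn hNL)).toEquiv, Subgroup.subgroupOf_sup hn hNL]
  have h1 : Nat.card (H' ⊔ N' : Subgroup L) = Nat.card N' * N'.relIndex (H' ⊔ N') := by
    rw [← Nat.card_congr (Subgroup.subgroupOfEquivOfLe (le_sup_right (a := H') (b := N'))).toEquiv]
    exact (Subgroup.card_mul_index _).symm
  rw [hS, h1, Subgroup.relIndex_sup_right, Nat.card_congr (Subgroup.subgroupOfEquivOfLe hNL).toEquiv, Nat.cast_mul]
  refine mul_ne_zero hN fun h => hH ?_
  obtain ⟨m, hm⟩ := Subgroup.relIndex_dvd_card (H := N') (K := H')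
  rw [← Nat.card_congr (Subgroup.subgroupOfEquivOfLe hn).toEquiv, hm, Nat.cast_mul, h, zero_mul]

end Cfsg.Agent.TurullOne
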