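/-
Two successive layers: a group of class two acting on the next module, its weights on the centre and
the alternating forms they define on the layer itself.
-/
import Mathlib
import Cfsg.Agent.TurullOne.Reps

set_option autoImplicit false
set_option linter.style.haveILetI false

namespace Cfsg.Agent.TurullOne

open Module Finset

universe v

variable {X : Type*} [Group X] [Finite X] {p q : ℕ} [Fact p.Prime] [Fact q.Prime]
variable {V : Type v} [AddCommGroup V] [Module (ZMod p) V]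
variable {M : Type*} [AddCommGroup M] [Module (ZMod q) M]

/-- The group `E` acts on `V`, and `M` is its quotient by a subgroup `D` with central image which
`S` centralises. -/
structure Pair (ρ : X →* Module.End (ZMod p) V) (π : X →* Module.End (ZMod q) M) (E D S : Subgroup X)
    (mk : X → M) : Prop where
  norm_E : ∀ x : X, ∀ e ∈ E, x * e * x⁻¹ ∈ E
  norm_D : ∀ x : X, ∀ d ∈ D, x * d * x⁻¹ ∈ D
  D_le : D ≤ E
  mk_mul : ∀ e ∈ E, ∀ f ∈ E, mk (e * f) = mk e + mk f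
  mk_surj : ∀ m, ∃ e ∈ E, mk e = m
  mk_eq_zero : ∀ e ∈ E, (mk e = 0 ↔ e ∈ D)
  mk_conj : ∀ x : X, ∀ e ∈ E, mk (x * e * x⁻¹) = π x (mk e)
  ne : p ≠ q
  isPGroup : IsPGroup q E
  ker_le : ∀ e ∈ E, ρ e = 1 → e ∈ D
  D_central : ∀ d ∈ D, ∀ e ∈ E, ρ (d * e) = ρ (e * d)
  S_cent : ∀ s ∈ S, ∀ d ∈ D, ρ (s * d) = ρ (d * s)
  center_le : (∃ e ∈ E, ∃ f ∈ E, ρ (e * f) ≠ ρ (f * e)) →
    ∀ e ∈ E, (∀ f ∈ E, ρ (e * f) = ρ (f * e)) → e ∈ D
  elem : (∀ e ∈ E, ∀ f ∈ E, ρ (e * f) = ρ (f * e)) → ∀ d ∈ D, ρ d = 1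

variable {ρ : X →* Module.End (ZMod p) V} {π : X →* Module.End (ZMod q) M} {E D S : Subgroup X} {mk : X → M}

theorem natCast_ne_zero_of_isPGroup {H : Subgroup X} (hH : IsPGroup q H) (hpq : p ≠ q) :
    (Nat.card H : ZMod p) ≠ 0 := by
  obtain ⟨k, hk⟩ := hH.exists_card_eq
  rw [hk, Nat.cast_pow]
  refine pow_ne_zero _ fun h => hpq ?_
  rw [ZMod.natCast_eq_zero_iff] at h
  exact (Nat.prime_dvd_prime_iff_eq Fact.out Fact.out).mp h

namespace Pair

theorem mk_one (P : Pair ρ π E D S mk) : mk 1 = 0 := (P.mk_eq_zero 1 (one_mem _)).mpr (one_mem _)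

theorem mk_inv (P : Pair ρ π E D S mk) {e : X} (he : e ∈ E) : mk e⁻¹ = - mk e := by
  refine eq_neg_of_add_eq_zero_left ?_
  rw [← P.mk_mul _ (inv_mem he) _ he, inv_mul_cancel, P.mk_one]

theorem comm_mem (P : Pair ρ π E D S mk) {e f : X} (he : e ∈ E) (hf : f ∈ E) :
    e * f * e⁻¹ * f⁻¹ ∈ D := by
  have h1 := E.mul_mem (E.mul_mem he hf) (inv_mem he)
  rw [← P.mk_eq_zero _ (E.mul_mem h1 (inv_mem hf)), P.mk_mul _ h1 _ (inv_mem hf),
    P.mk_mul _ (E.mul_mem he hf) _ (inv_mem he), P.mk_mul _ he _ hf, P.mk_inv he, P.mk_inv hf]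
  abel

theorem pow_mem (P : Pair ρ π E D S mk) {e : X} (he : e ∈ E) : e ^ q ∈ D := by
  rw [← P.mk_eq_zero _ (E.pow_mem he q)]
  have : ∀ n : ℕ, mk (e ^ n) = n • mk e := by
    intro n
    induction n with
    | zero => simp [P.mk_one]
    | succ n ih => rw [pow_succ, P.mk_mul _ (E.pow_mem he n) _ he, ih, succ_nsmul]
  rw [this, ← Nat.cast_smul_eq_nsmul (ZMod q), ZMod.natCast_self, zero_smul]

theorem D_comm (P : Pair ρ π E D S mk) {d e : X} (hd : d ∈ D) (he : e ∈ E) :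
    ρ d * ρ e = ρ e * ρ d := by
  rw [← map_mul, ← map_mul]; exact P.D_central d hd e he

/-- The operators of `D`. -/
theorem set_comm (P : Pair ρ π E D S mk) :
    ∀ x ∈ ρ '' (D : Set X), ∀ y ∈ ρ '' (D : Set X), x * y = y * x := by
  rintro _ ⟨d, hd, rfl⟩ _ ⟨e, he, rfl⟩
  exact P.D_comm hd (P.D_le he)

end Pair

/-- A weight of the operators of a subgroup `D`: a ring homomorphism of the algebra they generate
into a field. -/
structure Weight (ρ : X →* Module.End (ZMod p) V) (D : Subgroup X) (L : Type v) [Field L] where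
  φ : Algebra.adjoin (ZMod p) (ρ '' (D : Set X)) →+* L

namespace Weight

variable {L : Type v} [Field L]

/-- The value of a weight at an element of `D`. -/
noncomputable def ev (W : Weight ρ D L) (d : X) : L := by
  classical
  exact if h : ρ d ∈ Algebra.adjoin (ZMod p) (ρ '' (D : Set X)) then W.φ ⟨ρ d, h⟩ else 0

omit [Finite X] in
theorem mem (d : X) (hd : d ∈ D) : ρ d ∈ Algebra.adjoin (ZMod p) (ρ '' (D : Set X)) :=
  Algebra.subset_adjoin ⟨d, hd, rfl⟩

omit [Finite X] in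
theorem ev_eq (W : Weight ρ D L) {d : X} (hd : d ∈ D) : W.ev d = W.φ ⟨ρ d, mem d hd⟩ := by
  unfold ev; rw [dif_pos (mem d hd)]

omit [Finite X] in
theorem ev_mul (W : Weight ρ D L) {d e : X} (hd : d ∈ D) (he : e ∈ D) :
    W.ev (d * e) = W.ev d * W.ev e := by
  rw [W.ev_eq hd, W.ev_eq he, W.ev_eq (D.mul_mem hd he), ← map_mul]
  congr 1
  exact Subtype.ext (map_mul ρ d e)

omit [Finite X] in
theorem ev_congr (W : Weight ρ D L) {d e : X} (hd : d ∈ D) (he : e ∈ D) (h : ρ d = ρ e) :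
    W.ev d = W.ev e := by
  rw [W.ev_eq hd, W.ev_eq he]
  congr 1
  exact Subtype.ext h

omit [Finite X] in
theorem ev_one (W : Weight ρ D L) : W.ev 1 = 1 := by
  rw [W.ev_eq (one_mem D), ← map_one W.φ]
  congr 1
  exact Subtype.ext (map_one ρ)

omit [Finite X] in
theorem ev_pow (W : Weight ρ D L) {d : X} (hd : d ∈ D) (n : ℕ) : W.ev (d ^ n) = W.ev d ^ n := by
  induction n with
  | zero => simp [W.ev_one]
  | succ n ih => rw [pow_succ, pow_succ, W.ev_mul (D.pow_mem hd n) hd, ih]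

omit [Finite X] in
theorem ev_ne_zero (W : Weight ρ D L) {d : X} (hd : d ∈ D) : W.ev d ≠ 0 := fun h => by
  have := W.ev_mul hd (inv_mem hd)
  rw [mul_inv_cancel, W.ev_one, h, zero_mul] at this
  exact one_ne_zero this

/-- The kernel of a weight. -/
def ker (W : Weight ρ D L) : Subgroup X where
  carrier := {d | d ∈ D ∧ W.ev d = 1}
  one_mem' := ⟨one_mem _, W.ev_one⟩
  mul_mem' := fun {a b} ha hb => ⟨D.mul_mem ha.1 hb.1, by rw [W.ev_mul ha.1 hb.1, ha.2, hb.2, one_mul]⟩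
  inv_mem' := fun {a} ha => ⟨inv_mem ha.1, by
    have := W.ev_mul ha.1 (inv_mem ha.1)
    rwa [mul_inv_cancel, W.ev_one, ha.2, one_mul, eq_comm] at this⟩

/-- The fixed vectors of the kernel of a weight. -/
def space (W : Weight ρ D L) : Submodule (ZMod p) V where
  carrier := {v | ∀ d ∈ W.ker, ρ d v = v}
  add_mem' := fun {u w} hu hw d hd => by rw [map_add, hu d hd, hw d hd]
  zero_mem' := fun d _ => map_zero _
  smul_mem' := fun c w hw d hd => by rw [map_smul, hw d hd]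

theorem mem_space {W : Weight ρ D L} {v : V} : v ∈ W.space ↔ ∀ d ∈ W.ker, ρ d v = v := Iff.rfl

theorem card_ne_zero (P : Pair ρ π E D S mk) {H : Subgroup X} (hH : H ≤ E) : (Nat.card H : ZMod p) ≠ 0 :=
  natCast_ne_zero_of_isPGroup (P.isPGroup.to_le hH) P.ne

/-- An element of the algebra with non-zero value moves some vector fixed by the kernel. -/
theorem exists_apply_ne (W : Weight ρ D L) (P : Pair ρ π E D S mk) {f : Module.End (ZMod p) V}
    (hf : f ∈ Algebra.adjoin (ZMod p) (ρ '' (D : Set X))) (hfφ : W.φ ⟨f, hf⟩ ≠ 0) :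
    ∃ v ∈ W.space, f v ≠ 0 := by
  classical
  letI : Fintype W.ker := Fintype.ofFinite _
  let s : Algebra.adjoin (ZMod p) (ρ '' (D : Set X)) :=
    ∑ d : W.ker, (⟨ρ (d : X), mem _ d.2.1⟩ : Algebra.adjoin (ZMod p) (ρ '' (D : Set X)))
  have hs : W.φ s = (Nat.card W.ker : L) := by
    simp only [s, map_sum]
    rw [Finset.sum_congr rfl fun (d : W.ker) _ => show W.φ ⟨ρ (d : X), mem _ d.2.1⟩ = 1 by
      rw [← W.ev_eq d.2.1]; exact d.2.2]
    simp
  have hK : (Nat.card W.ker : L) ≠ 0 := by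
    have h0 := card_ne_zero P (H := W.ker) (fun d hd => P.D_le hd.1)
    let φ' : ZMod p →+* L := W.φ.comp (algebraMap _ _)
    have := φ'.injective.ne h0
    rwa [map_natCast, map_zero] at this
  by_contra! hcon
  have hz : (⟨f, hf⟩ : Algebra.adjoin (ZMod p) (ρ '' (D : Set X))) * s = 0 := by
    refine Subtype.ext (LinearMap.ext fun v => ?_)
    show f ((s : Module.End (ZMod p) V) v) = 0
    refine hcon _ fun d hd => ?_
    simp only [s, AddSubmonoidClass.coe_finsetSum, LinearMap.sum_apply, map_sum, ← apply_mul]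
    exact Fintype.sum_equiv (Equiv.mulLeft (⟨d, hd⟩ : W.ker)) _ _ fun e => rfl
  have := congrArg W.φ hz
  rw [map_mul, map_zero, hs] at this
  exact mul_ne_zero hfφ hK this

end Weight

/-- A non-trivial element of `D` has a weight seeing it. -/
theorem Pair.exists_weight [FiniteDimensional (ZMod p) V] (P : Pair ρ π E D S mk) {d : X} (hd : d ∈ D)
    (hd1 : ρ d ≠ 1) : ∃ (L : Type v) (_ : Field L) (W : Weight ρ D L), W.ev d ≠ 1 := by
  obtain ⟨L, hL, φ, hφ⟩ := exists_char_ne (ρ '' (D : Set X)) P.set_comm (Weight.mem d hd)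
    (N := Nat.card E) (Weight.card_ne_zero P le_rfl)
    (by rw [← map_pow, orderOf_dvd_iff_pow_eq_one.mp (Subgroup.orderOf_dvd_natCard E (P.D_le hd)), map_one])
    hd1
  exact ⟨L, hL, ⟨φ⟩, by rwa [Weight.ev_eq _ hd]⟩

variable {L : Type v} [Field L]

namespace Pair

theorem rho_comm_central (P : Pair ρ π E D S mk) {e f g : X} (he : e ∈ E) (hf : f ∈ E) (hg : g ∈ E) :
    ρ ((e * f * e⁻¹ * f⁻¹) * g) = ρ (g * (e * f * e⁻¹ * f⁻¹)) := P.D_central _ (P.comm_mem he hf) g hg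

variable (W : Weight ρ D L)

/-- The commutator pairing of a weight. -/
noncomputable def pc (W : Weight ρ D L) (e f : X) : L := W.ev (e * f * e⁻¹ * f⁻¹)

theorem pc_mul_left (P : Pair ρ π E D S mk) {e e' f : X} (he : e ∈ E) (he' : e' ∈ E) (hf : f ∈ E) :
    pc W (e * e') f = pc W e f * pc W e' f := by
  rw [pc, pc, pc, ← W.ev_mul (P.comm_mem he hf) (P.comm_mem he' hf)]
  refine W.ev_congr (P.comm_mem (E.mul_mem he he') hf) (D.mul_mem (P.comm_mem he hf) (P.comm_mem he' hf)) ?_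
  rw [show e * e' * f * (e * e')⁻¹ * f⁻¹ = e * (e' * f * e'⁻¹ * f⁻¹) * (f * e⁻¹ * f⁻¹) by group,
    map_mul, map_mul ρ e, ← P.D_comm (P.comm_mem he' hf) he, mul_assoc, ← map_mul ρ e,
    show e * (f * e⁻¹ * f⁻¹) = e * f * e⁻¹ * f⁻¹ by group, P.D_comm (P.comm_mem he' hf)
      (P.D_le (P.comm_mem he hf))]
  simp only [map_mul]

theorem pc_mul_right (P : Pair ρ π E D S mk) {e f f' : X} (he : e ∈ E) (hf : f ∈ E) (hf' : f' ∈ E) :
    pc W e (f * f') = pc W e f * pc W e f' := by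
  rw [pc, pc, pc, ← W.ev_mul (P.comm_mem he hf) (P.comm_mem he hf')]
  refine W.ev_congr (P.comm_mem he (E.mul_mem hf hf')) (D.mul_mem (P.comm_mem he hf) (P.comm_mem he hf')) ?_
  rw [show e * (f * f') * e⁻¹ * (f * f')⁻¹ = e * f * e⁻¹ * f⁻¹ * (f * (e * f' * e⁻¹ * f'⁻¹) * f⁻¹) by group,
    map_mul, map_mul ρ (f * (e * f' * e⁻¹ * f'⁻¹)) f⁻¹, map_mul ρ f, ← P.D_comm (P.comm_mem he hf') hf, mul_assoc (ρ (e * f' * e⁻¹ * f'⁻¹)),
    ← map_mul ρ f, mul_inv_cancel, map_one, mul_one]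
  simp only [map_mul]

theorem pc_self (P : Pair ρ π E D S mk) (e : X) : pc W e e = 1 := by
  rw [pc, show e * e * e⁻¹ * e⁻¹ = 1 by group, W.ev_one]

theorem pc_D_left (P : Pair ρ π E D S mk) {d f : X} (hd : d ∈ D) (hf : f ∈ E) : pc W d f = 1 := by
  rw [pc, W.ev_congr (P.comm_mem (P.D_le hd) hf) (one_mem _) ?_, W.ev_one]
  rw [map_mul, map_mul, map_mul, P.D_comm hd hf, mul_assoc (ρ f), ← map_mul ρ d, mul_inv_cancel, map_one,
    mul_one, ← map_mul ρ f, mul_inv_cancel, map_one]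

theorem pc_D_right (P : Pair ρ π E D S mk) {e d : X} (he : e ∈ E) (hd : d ∈ D) : pc W e d = 1 := by
  rw [pc, W.ev_congr (P.comm_mem he (P.D_le hd)) (one_mem _) ?_, W.ev_one]
  rw [map_mul, map_mul, map_mul, ← P.D_comm hd he, mul_assoc (ρ d), ← map_mul ρ e, mul_inv_cancel, map_one,
    mul_one, ← map_mul ρ d, mul_inv_cancel, map_one]

theorem pc_pow (P : Pair ρ π E D S mk) {e f : X} (he : e ∈ E) (hf : f ∈ E) : pc W e f ^ q = 1 := by
  have : ∀ n : ℕ, pc W (e ^ n) f = pc W e f ^ n := by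
    intro n
    induction n with
    | zero => rw [pow_zero, pow_zero]; exact P.pc_D_left W (one_mem _) hf
    | succ n ih => rw [pow_succ, pow_succ, P.pc_mul_left W (E.pow_mem he n) he hf, ih]
  rw [← this]
  exact P.pc_D_left W (P.pow_mem he) hf

/-- The alternating form of a weight. -/
theorem exists_form (P : Pair ρ π E D S mk) {e₀ f₀ : X} (he₀ : e₀ ∈ E) (hf₀ : f₀ ∈ E)
    (h0 : pc W e₀ f₀ ≠ 1) :
    ∃ (β : M →ₗ[ZMod q] M →ₗ[ZMod q] ZMod q) (ζ : L), IsPrimitiveRoot ζ q ∧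
      ∀ e ∈ E, ∀ f ∈ E, pc W e f = ζ ^ (β (mk e) (mk f)).val := by
  classical
  have hq : q.Prime := Fact.out
  set ζ := pc W e₀ f₀
  have hζ : IsPrimitiveRoot ζ q := by
    have := IsPrimitiveRoot.orderOf ζ
    rwa [orderOf_eq_prime (P.pc_pow W he₀ hf₀) h0] at this
  let n : L → ZMod q := fun x => if h : ∃ i : ZMod q, ζ ^ i.val = x then h.choose else 0
  have hn : ∀ {x : L}, x ^ q = 1 → ζ ^ (n x).val = x := fun {x} hx => by
    have hex : ∃ i : ZMod q, ζ ^ i.val = x := by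
      obtain ⟨i, hi, hix⟩ := hζ.eq_pow_of_pow_eq_one hx
      exact ⟨i, by rwa [ZMod.val_natCast_of_lt hi]⟩
    simp only [n, dif_pos hex]
    exact hex.choose_spec
  have huniq : ∀ {i : ZMod q} {x : L}, ζ ^ i.val = x → n x = i := fun {i x} h => by
    have hx : x ^ q = 1 := by rw [← h, ← pow_mul, mul_comm, pow_mul, hζ.pow_eq_one, one_pow]
    refine ZMod.val_injective q (hζ.pow_inj (ZMod.val_lt _) (ZMod.val_lt _) ?_)
    rw [hn hx, h]
  have hmul : ∀ {x y : L}, x ^ q = 1 → y ^ q = 1 → n (x * y) = n x + n y := fun {x y} hx hy => huniq (by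
    rw [ZMod.val_add, ← pow_eq_pow_mod _ hζ.pow_eq_one, pow_add, hn hx, hn hy])
  choose s hsE hs using P.mk_surj
  let b : M → M → ZMod q := fun m m' => n (pc W (s m) (s m'))
  have hwd : ∀ e ∈ E, ∀ f ∈ E, pc W e f = pc W (s (mk e)) (s (mk f)) := fun e he f hf => by
    have hd1 : (s (mk e))⁻¹ * e ∈ D := by
      rw [← P.mk_eq_zero _ (E.mul_mem (inv_mem (hsE _)) he), P.mk_mul _ (inv_mem (hsE _)) _ he,
        P.mk_inv (hsE _), hs, neg_add_cancel]
    have hd2 : (s (mk f))⁻¹ * f ∈ D := by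
      rw [← P.mk_eq_zero _ (E.mul_mem (inv_mem (hsE _)) hf), P.mk_mul _ (inv_mem (hsE _)) _ hf,
        P.mk_inv (hsE _), hs, neg_add_cancel]
    conv_lhs => rw [show e = s (mk e) * ((s (mk e))⁻¹ * e) by group, show f = s (mk f) * ((s (mk f))⁻¹ * f) by group]
    have hE1 : s (mk f) * ((s (mk f))⁻¹ * f) ∈ E := E.mul_mem (hsE _) (P.D_le hd2)
    rw [P.pc_mul_left W (hsE _) (P.D_le hd1) hE1, P.pc_D_left W hd1 hE1, mul_one,
      P.pc_mul_right W (hsE _) (hsE _) (P.D_le hd2), P.pc_D_right W (hsE _) hd2, mul_one]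
  have hadd1 : ∀ m₁ m₂ m', b (m₁ + m₂) m' = b m₁ m' + b m₂ m' := fun m₁ m₂ m' => by
    simp only [b]
    rw [← hmul (P.pc_pow W (hsE _) (hsE _)) (P.pc_pow W (hsE _) (hsE _)),
      ← P.pc_mul_left W (hsE _) (hsE _) (hsE _),
      hwd _ (E.mul_mem (hsE m₁) (hsE m₂)) _ (hsE m'), P.mk_mul _ (hsE _) _ (hsE _), hs, hs, hs]
  have hadd2 : ∀ m m₁ m₂, b m (m₁ + m₂) = b m m₁ + b m m₂ := fun m m₁ m₂ => by
    simp only [b]
    rw [← hmul (P.pc_pow W (hsE _) (hsE _)) (P.pc_pow W (hsE _) (hsE _)),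
      ← P.pc_mul_right W (hsE _) (hsE _) (hsE _),
      hwd _ (hsE m) _ (E.mul_mem (hsE m₁) (hsE m₂)), P.mk_mul _ (hsE _) _ (hsE _), hs, hs, hs]
  let β1 : M → (M →ₗ[ZMod q] ZMod q) := fun m => (AddMonoidHom.mk' (b m) (hadd2 m)).toZModLinearMap q
  let β : M →ₗ[ZMod q] M →ₗ[ZMod q] ZMod q :=
    (AddMonoidHom.mk' β1 fun m₁ m₂ => LinearMap.ext fun m' => hadd1 m₁ m₂ m').toZModLinearMap q
  refine ⟨β, ζ, hζ, fun e he f hf => ?_⟩
  show pc W e f = ζ ^ (n (pc W (s (mk e)) (s (mk f)))).val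
  rw [hwd e he f hf, hn (P.pc_pow W (hsE _) (hsE _))]

end Pair

end Cfsg.Agent.TurullOne
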