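/-
An isometry of prime order `r` of an alternating form on a space of dimension at least `r` over a
prime field has a non-zero invariant totally isotropic subspace (Chevalley–Warning).
-/
import Mathlib

set_option autoImplicit false

namespace Cfsg.Agent.TurullOne

open Module Finset MvPolynomial

theorem exists_isotropic {q : ℕ} [Fact q.Prime] {M : Type*} [AddCommGroup M] [Module (ZMod q) M]
    [FiniteDimensional (ZMod q) M] (β : M →ₗ[ZMod q] M →ₗ[ZMod q] ZMod q) (halt : ∀ v, β v v = 0)
    (T : Module.End (ZMod q) M) {r : ℕ} (hr : r.Prime) (hT : T ^ r = 1)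
    (hinv : ∀ u v, β (T u) (T v) = β u v) (hfpf : ∀ v, T v = v → v = 0)
    (hd : r ≤ finrank (ZMod q) M) :
    ∃ v : M, v ≠ 0 ∧ ∀ i l : ℕ, β ((T ^ i) v) ((T ^ l) v) = 0 := by
  classical
  set d := finrank (ZMod q) M with hdd
  let e : Basis (Fin d) (ZMod q) M := Module.finBasis (ZMod q) M
  set s : Finset ℕ := Finset.Icc 1 ((r - 1) / 2) with hs
  let f : ℕ → MvPolynomial (Fin d) (ZMod q) := fun i =>
    ∑ a, ∑ b, C (β (e a) ((T ^ i) (e b))) * X a * X b
  have hdeg : ∀ i, (f i).totalDegree ≤ 2 := fun i => by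
    refine totalDegree_finsetSum_le fun a _ => totalDegree_finsetSum_le fun b _ => ?_
    refine (totalDegree_mul _ _).trans ?_
    refine (Nat.add_le_add (totalDegree_mul _ _) le_rfl).trans ?_
    simp [totalDegree_C, totalDegree_X]
  have hsum : ∑ i ∈ s, (f i).totalDegree < Fintype.card (Fin d) := by
    refine (Finset.sum_le_card_nsmul s _ 2 fun i _ => hdeg i).trans_lt ?_
    have h2 := hr.two_le
    simp only [hs, Nat.card_Icc, smul_eq_mul, Fintype.card_fin]
    omega
  have hev : ∀ (x : Fin d → ZMod q) (i : ℕ),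
      eval x (f i) = β (∑ a, x a • e a) ((T ^ i) (∑ a, x a • e a)) := by
    intro x i
    simp only [f, map_sum, eval_mul, eval_C, eval_X, map_smul, LinearMap.sum_apply, LinearMap.smul_apply,
      smul_eq_mul, Finset.mul_sum]
    rw [Finset.sum_comm]
    refine Finset.sum_congr rfl fun b _ => Finset.sum_congr rfl fun a _ => ?_
    ring
  have hdvd := char_dvd_card_solutions_of_sum_lt q hsum
  have h0 : ∀ i ∈ s, eval (0 : Fin d → ZMod q) (f i) = 0 := fun i _ => by rw [hev]; simp
  obtain ⟨⟨x, hx⟩, hxne⟩ := Fintype.exists_ne_of_one_lt_card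
    (lt_of_lt_of_le (Fact.out : q.Prime).one_lt (Nat.le_of_dvd (Fintype.card_pos_iff.mpr ⟨⟨0, h0⟩⟩) hdvd))
    (⟨0, h0⟩ : {x : Fin d → ZMod q // ∀ i ∈ s, eval x (f i) = 0})
  refine ⟨∑ a, x a • e a, fun h => hxne (Subtype.ext ?_), ?_⟩
  · funext a
    exact Fintype.linearIndependent_iff.mp e.linearIndependent x h a
  set v := ∑ a, x a • e a
  have hskew : ∀ u w, β u w = - β w u := fun u w => by
    have h := halt (u + w)
    simp only [map_add, LinearMap.add_apply, halt, add_zero, zero_add] at h
    exact eq_neg_of_add_eq_zero_right h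
  have hshift : ∀ i u w, β ((T ^ i) u) ((T ^ i) w) = β u w := by
    intro i
    induction i with
    | zero => simp
    | succ i ih => intro u w; rw [pow_succ', Module.End.mul_apply, Module.End.mul_apply, hinv, ih]
  have hmod : ∀ i, (T ^ i) v = (T ^ (i % r)) v := fun i => by
    conv_lhs => rw [← Nat.mod_add_div i r, pow_add, pow_mul, hT, one_pow, mul_one]
  have hkey : ∀ j < r, β v ((T ^ j) v) = 0 := by
    intro j hj
    rcases Nat.eq_zero_or_pos j with rfl | hj0
    · simp [halt]
    rcases hr.eq_two_or_odd with rfl | hodd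
    · obtain rfl : j = 1 := by omega
      have hneg : T v = -v := eq_neg_of_add_eq_zero_right (hfpf (v + T v) (by
        rw [map_add, ← Module.End.mul_apply, ← sq, hT, Module.End.one_apply, add_comm]))
      rw [pow_one, hneg, map_neg, halt, neg_zero]
    by_cases hle : j ≤ (r - 1) / 2
    · rw [← hev]; exact hx j (Finset.mem_Icc.mpr ⟨hj0, hle⟩)
    · have h1 : β v ((T ^ (r - j)) v) = 0 := by
        rw [← hev]; exact hx _ (Finset.mem_Icc.mpr ⟨by omega, by omega⟩)
      have h2 := hshift j v ((T ^ (r - j)) v)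
      rw [h1, ← Module.End.mul_apply, ← pow_add, Nat.add_sub_cancel' hj.le, hT, Module.End.one_apply, hskew] at h2
      exact neg_eq_zero.mp h2
  intro i l
  rcases le_total i l with h | h
  · rw [← Nat.add_sub_cancel' h, pow_add, Module.End.mul_apply, hshift, hmod]
    exact hkey _ (Nat.mod_lt _ hr.pos)
  · rw [← Nat.add_sub_cancel' h, pow_add, Module.End.mul_apply, hshift, hskew, hmod, hkey _ (Nat.mod_lt _ hr.pos),
      neg_zero]

end Cfsg.Agent.TurullOne
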