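/-
A fixed element of a layer that is good for the layer above moves fixed vectors of the next layer.
-/
import Mathlib
import Cfsg.Agent.FPFPower.Basic
import Cfsg.Agent.TurullOne.Form
import Cfsg.Agent.TurullOne.Iso

set_option autoImplicit false
set_option linter.style.haveILetI false

namespace Cfsg.Agent.TurullOne

open Module Finset

universe v

section General

variable {X : Type*} [Group X] {F : Type*} [Field F] {V : Type v} [AddCommGroup V] [Module F V]
variable {ρ : X →* Module.End F V} {a : X}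

/-- The subgroup generated by the commutators of `a` with `D₀`. -/
def commSub (a : X) (D₀ : Subgroup X) : Subgroup X :=
  Subgroup.closure {z | ∃ d ∈ D₀, d⁻¹ * (a * d * a⁻¹) = z}

theorem commSub_le {D₀ : Subgroup X} (h : ∀ d ∈ D₀, a * d * a⁻¹ ∈ D₀) : commSub a D₀ ≤ D₀ := by
  rw [commSub, Subgroup.closure_le]
  rintro _ ⟨d, hd, rfl⟩
  exact D₀.mul_mem (inv_mem hd) (h d hd)

theorem mem_commSub {D₀ : Subgroup X} {d : X} (hd : d ∈ D₀) : d⁻¹ * (a * d * a⁻¹) ∈ commSub a D₀ :=
  Subgroup.subset_closure ⟨d, hd, rfl⟩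

theorem commSub_norm {D₀ : Subgroup X} (h : ∀ d ∈ D₀, a * d * a⁻¹ ∈ D₀) :
    ∀ b ∈ commSub a D₀, a * b * a⁻¹ ∈ commSub a D₀ := by
  intro b hb
  induction hb using Subgroup.closure_induction with
  | mem z hz =>
    obtain ⟨d, hd, rfl⟩ := hz
    refine Subgroup.subset_closure ⟨a * d * a⁻¹, h d hd, ?_⟩
    group
  | one => simp
  | mul x y _ _ hx hy =>
    rw [show a * (x * y) * a⁻¹ = a * x * a⁻¹ * (a * y * a⁻¹) by group]
    exact mul_mem hx hy
  | inv x _ hx =>
    rw [show a * x⁻¹ * a⁻¹ = (a * x * a⁻¹)⁻¹ by group]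
    exact inv_mem hx

/-- The commutators of `a` with a group acting as an abelian group act without fixed points. -/
theorem abFpf_commSub [Finite X] {r : ℕ} (hr : r.Prime) (ha : a ^ r = 1) {D₀ : Subgroup X}
    (hn : ∀ d ∈ D₀, a * d * a⁻¹ ∈ D₀) (hcop : (Nat.card D₀).Coprime r) {Y : Submodule F V}
    (hinv : ∀ d ∈ D₀, ∀ y ∈ Y, ρ d y ∈ Y) (hainv : ∀ y ∈ Y, ρ a y ∈ Y)
    (hcomm : ∀ b ∈ D₀, ∀ c ∈ D₀, ∀ y ∈ Y, ρ (b * c) y = ρ (c * b) y) :
    AbFpf ρ a (commSub a D₀) Y := by
  have hle := commSub_le hn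
  refine ⟨commSub_norm hn, fun b hb => hinv b (hle hb), hainv, fun b hb c hc => hcomm b (hle hb) c (hle hc), ?_⟩
  intro b hb hfix
  let f : D₀ →* Module.End F Y :=
    { toFun := fun b => (ρ (b : X)).restrict (fun y hy => hinv _ b.2 y hy)
      map_one' := LinearMap.ext fun y => Subtype.ext (by simp)
      map_mul' := fun b c => LinearMap.ext fun y => Subtype.ext (by simp) }
  have hfeq : ∀ {b c : D₀}, (∀ y ∈ Y, ρ (b : X) y = ρ (c : X) y) → f b = f c := fun h =>
    LinearMap.ext fun y => Subtype.ext (h y y.2)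
  have hfc : ∀ b c : D₀, f b * f c = f c * f b := fun b c => by
    rw [← map_mul, ← map_mul]; exact hfeq fun y hy => hcomm _ b.2 _ c.2 y hy
  let cj : D₀ →* D₀ :=
    { toFun := fun d => ⟨a * d * a⁻¹, hn _ d.2⟩
      map_one' := Subtype.ext (by simp)
      map_mul' := fun x y => Subtype.ext (by simp) }
  obtain ⟨d, hd⟩ : ∃ d : D₀, f ⟨b, hle hb⟩ = f (d⁻¹ * cj d) := by
    have : ∀ z (hz : z ∈ commSub a D₀), ∃ d : D₀, f ⟨z, hle hz⟩ = f (d⁻¹ * cj d) := by
      intro z hz
      induction hz using Subgroup.closure_induction with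
      | mem z hz =>
        obtain ⟨d, hd, rfl⟩ := hz
        exact ⟨⟨d, hd⟩, rfl⟩
      | one => exact ⟨1, by rw [map_one cj, inv_one, mul_one]; rfl⟩
      | mul x y hx hy ihx ihy =>
        obtain ⟨dx, hdx⟩ := ihx
        obtain ⟨dy, hdy⟩ := ihy
        refine ⟨dx * dy, ?_⟩
        rw [show (⟨x * y, hle (mul_mem hx hy)⟩ : D₀) = ⟨x, hle hx⟩ * ⟨y, hle hy⟩ from rfl, map_mul, hdx, hdy,
          mul_inv_rev, map_mul cj]
        simp only [map_mul, mul_assoc]
        rw [← mul_assoc (f (cj dx)) (f dy⁻¹), hfc (cj dx) dy⁻¹, mul_assoc, ← mul_assoc (f dx⁻¹) (f dy⁻¹),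
          hfc dx⁻¹ dy⁻¹, mul_assoc]
      | inv x hx ihx =>
        obtain ⟨dx, hdx⟩ := ihx
        refine ⟨dx⁻¹, ?_⟩
        have h1 : f ⟨x⁻¹, hle (inv_mem hx)⟩ * f ⟨x, hle hx⟩ = 1 := by
          rw [← map_mul, show (⟨x⁻¹, hle (inv_mem hx)⟩ : D₀) * ⟨x, hle hx⟩ = 1 from Subtype.ext (inv_mul_cancel x),
            map_one]
        have h2 : f ⟨x, hle hx⟩ * f (dx⁻¹⁻¹ * cj dx⁻¹) = 1 := by
          rw [hdx, map_mul, map_mul f dx⁻¹⁻¹, inv_inv, hfc dx⁻¹ (cj dx), mul_assoc, ← mul_assoc (f dx⁻¹),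
            ← map_mul f dx⁻¹, inv_mul_cancel, map_one, one_mul, ← map_mul, map_inv, mul_inv_cancel, map_one]
        exact left_inv_eq_right_inv h1 h2
    exact this b hb
  -- the product over the powers of `a`
  have hpow : ∀ i, f ((cj ^[i]) (⟨b, hle hb⟩ : D₀)) = f ⟨b, hle hb⟩ := by
    intro i
    induction i with
    | zero => rfl
    | succ i ih =>
      rw [Function.iterate_succ_apply', ← show f (cj ⟨b, hle hb⟩) = f ⟨b, hle hb⟩ from hfeq hfix]
      refine hfeq fun y hy => ?_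
      have hay : ρ a⁻¹ y ∈ Y := by
        have : a⁻¹ = a ^ (r - 1) :=
          inv_eq_of_mul_eq_one_right (by rw [← pow_succ', Nat.sub_add_cancel hr.pos, ha])
        rw [this]
        have : ∀ m : ℕ, ρ (a ^ m) y ∈ Y := by
          intro m
          induction m with
          | zero => simpa using hy
          | succ m ihm => rw [pow_succ', apply_mul]; exact hainv _ ihm
        exact this _
      show ρ (a * ((cj ^[i]) ⟨b, hle hb⟩ : D₀) * a⁻¹) y = ρ (a * b * a⁻¹) y
      have e := congrArg Subtype.val (LinearMap.congr_fun ih ⟨_, hay⟩)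
      rw [apply_mul, apply_mul, apply_mul ρ (a * b), apply_mul ρ a b]
      exact congrArg (ρ a) e
  have hiter : ∀ (i : ℕ) (x : D₀), ((cj ^[i]) x : X) = a ^ i * x * (a ^ i)⁻¹ := by
    intro i x
    induction i with
    | zero => simp
    | succ i ih =>
      rw [Function.iterate_succ_apply', pow_succ']
      show a * ((cj ^[i]) x : X) * a⁻¹ = _
      rw [ih]; group
  have htel : ∀ i : ℕ, f ⟨b, hle hb⟩ ^ i = f (d⁻¹ * (cj ^[i]) d) := by
    intro i
    induction i with
    | zero => simp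
    | succ i ih =>
      rw [pow_succ, ih]
      have hbi : f ((cj ^[i]) ⟨b, hle hb⟩) = f ((cj ^[i]) (d⁻¹ * cj d)) := by
        refine hfeq fun y hy => ?_
        rw [hiter, hiter]
        have hay : ρ (a ^ i)⁻¹ y ∈ Y := by
          have h' : ∀ m : ℕ, ρ (a ^ m) y ∈ Y := by
            intro m
            induction m with
            | zero => simpa using hy
            | succ m ihm => rw [pow_succ', apply_mul]; exact hainv _ ihm
          obtain ⟨m, hm⟩ : ∃ m : ℕ, a ^ m = (a ^ i)⁻¹ :=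
            mem_powers_iff_mem_zpowers.mpr (inv_mem (Subgroup.pow_mem _ (Subgroup.mem_zpowers a) i))
          rw [← hm]; exact h' m
        rw [apply_mul, apply_mul, apply_mul ρ _ (a ^ i)⁻¹, apply_mul ρ (a ^ i)]
        exact congrArg (ρ (a ^ i)) (congrArg Subtype.val (LinearMap.congr_fun hd ⟨_, hay⟩))
      rw [← hpow i, hbi, ← map_mul, iterate_map_mul, iterate_map_inv, ← Function.iterate_succ_apply cj i d]
      congr 1
      group
  have hone : f ⟨b, hle hb⟩ ^ r = 1 := by
    rw [htel, show (cj ^[r]) d = d from Subtype.ext (by rw [hiter, ha]; simp), inv_mul_cancel, map_one]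
  have hcard : f ⟨b, hle hb⟩ ^ Nat.card D₀ = 1 := by rw [← map_pow, pow_card_eq_one', map_one]
  have hg : f ⟨b, hle hb⟩ = 1 := by
    have := pow_gcd_eq_one.mpr ⟨hcard, hone⟩
    rwa [hcop, pow_one] at this
  intro y hy
  exact congrArg Subtype.val (LinearMap.congr_fun hg ⟨y, hy⟩)

/-- `t` moves a part of `V` moved by some abelian fixed-point-free subgroup of `E` commuting with it. -/
def Ready (ρ : X →* Module.End F V) (a : X) (E : Subgroup X) (t : X) : Prop :=
  ∃ B : Subgroup X, B ≤ E ∧ ∃ Y : Submodule F V, AbFpf ρ a B Y ∧ (∀ y ∈ Y, ρ t y ∈ Y) ∧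
    (∀ b ∈ B, ∀ y ∈ Y, ρ (t * b) y = ρ (b * t) y) ∧ ∃ y ∈ mv ρ B Y, ρ t y ≠ y

/-- A ready element gives a good fixed vector of the next module. -/
theorem next_of_ready [Finite X] {r : ℕ} (hr : r.Prime) (ha : a ^ r = 1) {E : Subgroup X}
    (hEF : ∀ B ≤ E, (Nat.card B : F) ≠ 0) {t : X} (hat : a * t = t * a) {N : ℕ} (hN : (N : F) ≠ 0)
    (htN : ρ t ^ N = 1) (h : Ready ρ a E t) :
    ∃ B : Subgroup X, B ≤ E ∧ ∃ Y : Submodule F V, AbFpf ρ a B Y ∧ ∃ w : V, ρ a w = w ∧ w ∈ mv ρ B Y ∧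
      ρ t (ρ t w - w) - (ρ t w - w) ∈ mv ρ B Y ∧ ρ t (ρ t w - w) - (ρ t w - w) ≠ 0 := by
  obtain ⟨B, hBE, Y, hB, htY, htB, y, hy, hty⟩ := h
  refine ⟨B, hBE, Y, hB, ?_⟩
  have htm : ∀ v ∈ mv ρ B Y, ρ t v ∈ mv ρ B Y := by
    intro v hv
    induction hv using Submodule.span_induction with
    | mem v hv =>
      obtain ⟨b, hb, z, hz, rfl⟩ := hv
      rw [map_sub, ← apply_mul, htB b hb z hz, apply_mul]
      exact sub_mem_mv hb (htY z hz)
    | zero => rw [map_zero]; exact zero_mem _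
    | add u w _ _ hu hw => rw [map_add]; exact add_mem hu hw
    | smul c u _ hu => rw [map_smul]; exact Submodule.smul_mem _ c hu
  obtain ⟨w, hw, haw, htw⟩ : ∃ w ∈ mv ρ B Y, ρ a w = w ∧ ρ t w - w ≠ 0 := by
    by_contra! hcon
    refine hty (sub_eq_zero.mp (hB.kill_of_fixed hr ha (hEF B hBE) (ρ t - 1) (fun b hb w hw _ h0 => ?_)
      (fun w hw haw => by simpa using hcon w hw haw) y hy))
    simp only [LinearMap.sub_apply, Module.End.one_apply] at h0 ⊢
    rw [← apply_mul, htB b hb w (mv_le hB.inv hw), apply_mul, ← map_sub, h0, map_zero]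
  refine ⟨w, haw, hw, ?_, ?_⟩
  · have h1 := Submodule.sub_mem _ (htm w hw) hw
    exact Submodule.sub_mem _ (htm _ h1) h1
  · intro h0
    set u := ρ t w - w with hu
    have hfix : ρ t u = u := sub_eq_zero.mp h0
    have hiter : ∀ m : ℕ, (ρ t ^ m) w = w + (m : F) • u := by
      intro m
      induction m with
      | zero => simp
      | succ m ih =>
        rw [pow_succ', Module.End.mul_apply, ih, map_add, map_smul, hfix, Nat.cast_succ, add_smul, one_smul,
          show ρ t w = w + u by rw [hu]; abel]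
        abel
    have h2 := hiter N
    rw [htN, Module.End.one_apply, left_eq_add] at h2
    exact htw ((smul_eq_zero.mp h2).resolve_left hN)

end General

section Good

variable {X : Type*} [Group X] [Finite X] {p q : ℕ} [Fact p.Prime] [Fact q.Prime]
variable {V : Type v} [AddCommGroup V] [Module (ZMod p) V] [FiniteDimensional (ZMod p) V]
variable {M : Type v} [AddCommGroup M] [Module (ZMod q) M] [FiniteDimensional (ZMod q) M]
variable {ρ : X →* Module.End (ZMod p) V} {π : X →* Module.End (ZMod q) M} {E D S : Subgroup X} {mk : X → M}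

/-- The preimage in `E` of a subspace of `M`. -/
def Pair.preimage (P : Pair ρ π E D S mk) (U : Submodule (ZMod q) M) : Subgroup X where
  carrier := {e | e ∈ E ∧ mk e ∈ U}
  one_mem' := ⟨one_mem _, by rw [P.mk_one]; exact zero_mem _⟩
  mul_mem' := fun {x y} hx hy => ⟨E.mul_mem hx.1 hy.1, by rw [P.mk_mul _ hx.1 _ hy.1]; exact add_mem hx.2 hy.2⟩
  inv_mem' := fun {x} hx => ⟨inv_mem hx.1, by rw [P.mk_inv hx.1]; exact neg_mem hx.2⟩

omit [FiniteDimensional (ZMod p) V] [FiniteDimensional (ZMod q) M] in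
theorem Pair.preimage_le (P : Pair ρ π E D S mk) (U : Submodule (ZMod q) M) : P.preimage U ≤ E :=
  fun _ h => h.1

/-- An element outside the radical with an isotropic invariant span gives readiness. -/
theorem Pair.ready_of_isotropic (P : Pair ρ π E D S mk) {a : X} {r : ℕ} (hr : r.Prime) (ha : a ^ r = 1)
    (hrE : (Nat.card E).Coprime r) {t : X} (ht : t ∈ E) (hat : a * t = t * a)
    {L : Type v} [Field L] (W : Weight ρ D L) (hWa : ∀ d ∈ D, W.ev (a * d * a⁻¹) = W.ev d)
    (β : M →ₗ[ZMod q] M →ₗ[ZMod q] ZMod q) {ζ : L} (hζ : IsPrimitiveRoot ζ q)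
    (hβ : ∀ e ∈ E, ∀ f ∈ E, Pair.pc W e f = ζ ^ (β (mk e) (mk f)).val)
    (htr : ∃ m, β (mk t) m ≠ 0) {v : M} (hv : ∃ u, π a u - u = v) (hvrad : ∃ m, β v m ≠ 0)
    (hiso : ∀ i l : ℕ, β (π (a ^ i) v) (π (a ^ l) v) = 0) : Ready ρ a E t := by
  classical
  have hq : q.Prime := Fact.out
  have hpc1 : ∀ {e f : X}, e ∈ E → f ∈ E → (Pair.pc W e f = 1 ↔ β (mk e) (mk f) = 0) := fun {e f} he hf => by
    rw [hβ e he f hf, hζ.pow_eq_one_iff_dvd]
    constructor
    · intro h
      exact (ZMod.val_eq_zero _).mp (Nat.eq_zero_of_dvd_of_lt h (ZMod.val_lt _))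
    · intro h; simp [h]
  have hpct : ∀ {e f : X}, e ∈ E → f ∈ E → Pair.pc W e f = 1 → ∀ y ∈ W.space, ρ (e * f) y = ρ (f * e) y := by
    intro e f he hf h y hy
    have h1 : ρ (e * f * e⁻¹ * f⁻¹) y = y := Weight.mem_space.mp hy _ ⟨P.comm_mem he hf, h⟩
    have hfe : f * e ∈ E := E.mul_mem hf he
    calc ρ (e * f) y = ρ ((e * f * e⁻¹ * f⁻¹) * (f * e)) y := by congr 2; group
      _ = ρ (f * e) (ρ (e * f * e⁻¹ * f⁻¹) y) := by
          rw [P.D_central _ (P.comm_mem he hf) _ hfe, apply_mul]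
      _ = ρ (f * e) y := by rw [h1]
  have hkerW : ∀ d ∈ W.ker, ∀ e ∈ E, ρ d * ρ e = ρ e * ρ d := fun d hd e he => P.D_comm hd.1 he
  have hspaceE : ∀ e ∈ E, ∀ y ∈ W.space, ρ e y ∈ W.space := fun e he y hy => Weight.mem_space.mpr fun d hd => by
    rw [← Module.End.mul_apply, hkerW d hd e he, Module.End.mul_apply, Weight.mem_space.mp hy d hd]
  have hspacea : ∀ y ∈ W.space, ρ a y ∈ W.space := fun y hy => Weight.mem_space.mpr fun d hd => by
    have hd' : a⁻¹ * d * a ∈ W.ker := by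
      have hm : a⁻¹ * d * a ∈ D := by simpa using P.norm_D a⁻¹ d hd.1
      refine ⟨hm, ?_⟩
      rw [← hWa _ hm, show a * (a⁻¹ * d * a) * a⁻¹ = d by group]
      exact hd.2
    rw [← apply_mul, show d * a = a * (a⁻¹ * d * a) by group, apply_mul, Weight.mem_space.mp hy _ hd']
  set U : Submodule (ZMod q) M := Submodule.span (ZMod q) (Set.range fun i : ℕ => π (a ^ i) v) with hU
  have hUa : ∀ m ∈ U, π a m ∈ U := by
    intro m hm
    induction hm using Submodule.span_induction with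
    | mem m hm =>
      obtain ⟨i, rfl⟩ := hm
      exact Submodule.subset_span ⟨i + 1, by simp only [pow_succ', apply_mul]⟩
    | zero => rw [map_zero]; exact zero_mem _
    | add x y _ _ hx hy => rw [map_add]; exact add_mem hx hy
    | smul c x _ hx => rw [map_smul]; exact Submodule.smul_mem _ c hx
  have hUiso : ∀ x ∈ U, ∀ y ∈ U, β x y = 0 := by
    intro x hx y hy
    induction hx using Submodule.span_induction with
    | mem x hx =>
      obtain ⟨i, rfl⟩ := hx
      induction hy using Submodule.span_induction with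
      | mem y hy => obtain ⟨l, rfl⟩ := hy; exact hiso i l
      | zero => simp
      | add u w _ _ h1 h2 => rw [map_add, h1, h2, add_zero]
      | smul c u _ h1 => rw [map_smul, h1, smul_zero]
    | zero => simp
    | add u w _ _ h1 h2 => rw [map_add, LinearMap.add_apply, h1, h2, add_zero]
    | smul c u _ h1 => rw [map_smul, LinearMap.smul_apply, h1, smul_zero]
  have hinvβ : ∀ x y, β (π a x) (π a y) = β x y := by
    intro x y
    obtain ⟨e, he, rfl⟩ := P.mk_surj x
    obtain ⟨f, hf, rfl⟩ := P.mk_surj y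
    rw [← P.mk_conj a e he, ← P.mk_conj a f hf]
    refine ZMod.val_injective q (hζ.pow_inj (ZMod.val_lt _) (ZMod.val_lt _) ?_)
    rw [← hβ _ (P.norm_E a e he) _ (P.norm_E a f hf), ← hβ e he f hf, Pair.pc, Pair.pc,
      ← hWa _ (P.comm_mem he hf)]
    congr 1
    group
  set D₀ := P.preimage U with hD₀
  have hD₀n : ∀ d ∈ D₀, a * d * a⁻¹ ∈ D₀ := fun d hd => ⟨P.norm_E a d hd.1, by rw [P.mk_conj a d hd.1]; exact hUa _ hd.2⟩
  have hcop : (Nat.card D₀).Coprime r := hrE.coprime_dvd_left (Subgroup.card_dvd_of_le (P.preimage_le U))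
  have hB : AbFpf ρ a (commSub a D₀) W.space :=
    abFpf_commSub hr ha hD₀n hcop (fun d hd => hspaceE d hd.1) hspacea
      (fun b hb c hc => hpct hb.1 hc.1 ((hpc1 hb.1 hc.1).mpr (hUiso _ hb.2 _ hc.2)))
  have hBle : commSub a D₀ ≤ D₀ := commSub_le hD₀n
  have hrq : (r : ZMod q) ≠ 0 := by
    intro h
    rw [ZMod.natCast_eq_zero_iff] at h
    have hqr : q = r := (Nat.prime_dvd_prime_iff_eq hq hr).mp h
    obtain ⟨m, hm⟩ := htr
    obtain ⟨n, hn⟩ := P.isPGroup.exists_card_eq
    rcases Nat.eq_zero_or_pos n with rfl | hn0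
    · rw [pow_zero] at hn
      have h1 : t = 1 := Subgroup.mem_bot.mp ((Subgroup.card_eq_one.mp hn) ▸ ht)
      rw [h1, P.mk_one] at hm
      simp at hm
    · rw [hn, hqr, Nat.coprime_pow_left_iff hn0, Nat.coprime_self] at hrE
      exact hr.one_lt.ne' hrE
  -- `t` is orthogonal to what `a` moves
  have hπt : π a (mk t) = mk t := by
    rw [← P.mk_conj a t ht, hat, mul_assoc, mul_inv_cancel, mul_one]
  have htorth : ∀ x, β (mk t) (π a x - x) = 0 := fun x => by
    conv_lhs => rw [map_sub]; arg 1; rw [← hπt]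
    rw [hinvβ, sub_self]
  have hUt : ∀ x ∈ U, β (mk t) x = 0 := by
    intro x hx
    induction hx using Submodule.span_induction with
    | mem x hx =>
      obtain ⟨i, rfl⟩ := hx
      obtain ⟨u, rfl⟩ := hv
      have e : π (a ^ i) (π a u - u) = π a (π (a ^ i) u) - π (a ^ i) u := by
        rw [map_sub, ← apply_mul, ← apply_mul, ← pow_succ, ← pow_succ']
      show β (mk t) (π (a ^ i) (π a u - u)) = 0
      rw [e, htorth]
    | zero => simp
    | add u w _ _ h1 h2 => rw [map_add, h1, h2, add_zero]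
    | smul c u _ h1 => rw [map_smul, h1, smul_zero]
  have htB : ∀ b ∈ commSub a D₀, ∀ y ∈ W.space, ρ (t * b) y = ρ (b * t) y := fun b hb =>
    hpct ht (hBle hb).1 ((hpc1 ht (hBle hb).1).mpr (hUt _ (hBle hb).2))
  refine ⟨commSub a D₀, fun b hb => (hBle hb).1, W.space, hB, hspaceE t ht, htB, ?_⟩
  by_contra! hfix
  -- an element of `E` not commuting with `t`, fixed modulo the radical
  obtain ⟨m, hm⟩ := htr
  have hβp : ∀ (i : ℕ), β (mk t) (π (a ^ i) m) = β (mk t) m := by
    intro i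
    induction i with
    | zero => simp
    | succ i ih =>
      have := htorth (π (a ^ i) m)
      rw [map_sub, sub_eq_zero] at this
      rw [pow_succ', apply_mul, this, ih]
  set u' := ∑ i ∈ range r, π (a ^ i) m with hu'
  have hu'a : π a u' = u' := apply_tr ha m
  have hu't : β (mk t) u' ≠ 0 := by
    rw [hu', map_sum, Finset.sum_congr rfl fun i _ => hβp i, Finset.sum_const, Finset.card_range, nsmul_eq_mul]
    exact mul_ne_zero hrq hm
  obtain ⟨ue, hue, hue'⟩ := P.mk_surj u'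
  have hu'orth : ∀ x, β u' (π a x - x) = 0 := fun x => by
    conv_lhs => rw [map_sub]; arg 1; rw [← hu'a]
    rw [hinvβ, sub_self]
  have hUu : ∀ x ∈ U, β u' x = 0 := by
    intro x hx
    induction hx using Submodule.span_induction with
    | mem x hx =>
      obtain ⟨i, rfl⟩ := hx
      obtain ⟨u, rfl⟩ := hv
      have e : π (a ^ i) (π a u - u) = π a (π (a ^ i) u) - π (a ^ i) u := by
        rw [map_sub, ← apply_mul, ← apply_mul, ← pow_succ, ← pow_succ']
      show β u' (π (a ^ i) (π a u - u)) = 0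
      rw [e, hu'orth]
    | zero => simp
    | add u w _ _ h1 h2 => rw [map_add, h1, h2, add_zero]
    | smul c u _ h1 => rw [map_smul, h1, smul_zero]
  have huB : ∀ b ∈ commSub a D₀, ∀ y ∈ W.space, ρ (ue * b) y = ρ (b * ue) y := fun b hb =>
    hpct hue (hBle hb).1 ((hpc1 hue (hBle hb).1).mpr (by rw [hue']; exact hUu _ (hBle hb).2))
  have huinv : ∀ y ∈ mv ρ (commSub a D₀) W.space, ∀ e ∈ ({ue, ue⁻¹} : Set X),
      ρ e y ∈ mv ρ (commSub a D₀) W.space := by
    intro y hy e he
    have heB : ∀ b ∈ commSub a D₀, ∀ y ∈ W.space, ρ (e * b) y = ρ (b * e) y := by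
      rcases he with rfl | rfl
      · exact huB
      · intro b hb y hy
        have h1 := huB b hb (ρ ue⁻¹ y) (hspaceE _ (inv_mem hue) y hy)
        rw [← apply_mul, ← apply_mul, mul_assoc b ue, mul_inv_cancel, mul_one] at h1
        rw [apply_mul ρ ue⁻¹, ← h1, ← apply_mul, ← mul_assoc, ← mul_assoc, inv_mul_cancel, one_mul]
    have heE : e ∈ E := by rcases he with rfl | rfl; exacts [hue, inv_mem hue]
    induction hy using Submodule.span_induction with
    | mem v hv =>
      obtain ⟨b, hb, z, hz, rfl⟩ := hv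
      rw [map_sub, ← apply_mul, heB b hb z hz, apply_mul]
      exact sub_mem_mv hb (hspaceE _ heE _ hz)
    | zero => rw [map_zero]; exact zero_mem _
    | add u w _ _ hu hw => rw [map_add]; exact add_mem hu hw
    | smul c u _ hu => rw [map_smul]; exact Submodule.smul_mem _ c hu
  -- the commutator of `t` and `ue` fixes the moved part
  set c := t * ue * t⁻¹ * ue⁻¹ with hc
  have hcD : c ∈ D := P.comm_mem ht hue
  have hcne : W.ev c ≠ 1 := fun h => hu't (by rw [← hue']; exact (hpc1 ht hue).mp h)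
  have hcfix : ∀ y ∈ mv ρ (commSub a D₀) W.space, ρ c y = y := by
    intro y hy
    have h2 := huinv y hy ue⁻¹ (Or.inr rfl)
    have h4 : ρ t⁻¹ (ρ ue⁻¹ y) = ρ ue⁻¹ y := by
      conv_lhs => rw [← hfix _ h2, apply_inv_apply]
    rw [hc, apply_mul, apply_mul, apply_mul, h4, apply_apply_inv, hfix y hy]
  -- an element of `B` outside the radical
  obtain ⟨e0, he0, hve0⟩ := P.mk_surj v
  set b := e0⁻¹ * (a * e0 * a⁻¹) with hb
  have he0D : e0 ∈ D₀ := ⟨he0, by rw [hve0]; exact Submodule.subset_span ⟨0, by simp⟩⟩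
  have hbB : b ∈ commSub a D₀ := mem_commSub he0D
  have hbE : b ∈ E := (hBle hbB).1
  have hmkb : mk b = π a v - v := by
    rw [hb, P.mk_mul _ (inv_mem he0) _ (P.norm_E a e0 he0), P.mk_inv he0, P.mk_conj a e0 he0, hve0]; abel
  obtain ⟨x, hx⟩ : ∃ x, β (π a v - v) x ≠ 0 := by
    by_contra! hrad
    obtain ⟨m', hm'⟩ := hvrad
    have hav : ∀ i x, β (π (a ^ i) v) x = β v x := by
      intro i
      induction i with
      | zero => simp
      | succ i ih =>
        intro x
        have h1 : ∀ y, β (π a (π (a ^ i) v)) y = β (π (a ^ i) v) y := fun y => by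
          have hcomm' : π a (π (a ^ i) v) - π (a ^ i) v = π (a ^ i) (π a v - v) := by
            rw [map_sub, ← apply_mul, ← apply_mul, ← pow_succ, ← pow_succ']
          rw [← sub_eq_zero, ← LinearMap.sub_apply, ← map_sub, hcomm']
          have : ∀ (j : ℕ) y, β (π (a ^ j) (π a v - v)) y = 0 := by
            intro j
            induction j with
            | zero => intro y; rw [pow_zero, map_one, Module.End.one_apply]; exact hrad y
            | succ j ihj =>
              intro y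
              rw [pow_succ', apply_mul, ← apply_apply_inv π a y, hinvβ]
              exact ihj _
          exact this i y
        rw [pow_succ', apply_mul, h1, ih]
    obtain ⟨u, hu⟩ := hv
    have hsum : ∑ i ∈ range r, π (a ^ i) v = 0 := by
      rw [← hu, Finset.sum_congr rfl fun i _ => (show π (a ^ i) (π a u - u) = π (a ^ (i + 1)) u - π (a ^ i) u by
        rw [map_sub, ← apply_mul, ← pow_succ]), Finset.sum_range_sub (fun i => π (a ^ i) u), ha, pow_zero, sub_self]
    have h2 := congrArg (fun z => β z m') hsum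
    simp only [map_sum, LinearMap.sum_apply, hav, map_zero, LinearMap.zero_apply, Finset.sum_const,
      Finset.card_range, nsmul_eq_mul] at h2
    exact hm' ((mul_eq_zero.mp h2).resolve_left hrq)
  obtain ⟨e, he, rfl⟩ := P.mk_surj x
  set z := e * b * e⁻¹ * b⁻¹ with hz
  have hzD : z ∈ D := P.comm_mem he hbE
  have hzne : W.ev z ≠ 1 := fun h => hx (by
    have := (hpc1 he hbE).mp h
    have halt : β (mk e + mk b) (mk e + mk b) = 0 := by
      rw [← P.mk_mul e he b hbE]
      exact (hpc1 (E.mul_mem he hbE) (E.mul_mem he hbE)).mp (P.pc_self W _)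
    simp only [map_add, LinearMap.add_apply, (hpc1 he he).mp (P.pc_self W _), (hpc1 hbE hbE).mp (P.pc_self W _),
      this, add_zero, zero_add] at halt
    rw [← hmkb]; exact halt)
  let A := Algebra.adjoin (ZMod p) (ρ '' (D : Set X))
  have hm1 : ρ c - 1 ∈ A := sub_mem (Weight.mem _ hcD) (one_mem _)
  have hm2 : ρ z - 1 ∈ A := sub_mem (Weight.mem _ hzD) (one_mem _)
  obtain ⟨w, hw, hwne⟩ := W.exists_apply_ne P (f := (ρ c - 1) * (ρ z - 1)) (mul_mem hm1 hm2) (by
    rw [show (⟨(ρ c - 1) * (ρ z - 1), mul_mem hm1 hm2⟩ : A) = (⟨ρ c, Weight.mem _ hcD⟩ - 1) * (⟨ρ z, Weight.mem _ hzD⟩ - 1)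
      from rfl, map_mul, map_sub, map_sub, map_one, ← W.ev_eq hcD, ← W.ev_eq hzD]
    exact mul_ne_zero (sub_ne_zero.mpr hcne) (sub_ne_zero.mpr hzne))
  apply hwne
  set w' := ρ b⁻¹ w with hw'
  have hw'S : w' ∈ W.space := hspaceE _ (inv_mem hbE) w hw
  have h1 : ρ c (ρ b w' - w') = ρ b w' - w' := hcfix _ (sub_mem_mv hbB hw'S)
  have h2 : ρ c (ρ b (ρ e⁻¹ w') - ρ e⁻¹ w') = ρ b (ρ e⁻¹ w') - ρ e⁻¹ w' :=
    hcfix _ (sub_mem_mv hbB (hspaceE _ (inv_mem he) _ hw'S))
  have h3 := congrArg (ρ e) h2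
  have hec : ∀ y, ρ e (ρ c y) = ρ c (ρ e y) := fun y => by rw [← apply_mul, ← P.D_central c hcD e he, apply_mul]
  have heb : ρ e (ρ b (ρ e⁻¹ w')) = ρ z w := by
    rw [hw', ← apply_mul, ← apply_mul, ← apply_mul, hz]
  rw [hec, map_sub, heb, apply_apply_inv, map_sub] at h3
  have hbw : ρ b w' = w := by rw [hw', apply_apply_inv]
  rw [hbw, map_sub] at h1
  simp only [Module.End.mul_apply, LinearMap.sub_apply, Module.End.one_apply, map_sub]
  calc ρ c (ρ z w) - ρ z w - (ρ c w - w)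
      = (ρ c (ρ z w) - ρ c w') - (ρ z w - w') - ((ρ c w - ρ c w') - (w - w')) := by abel
    _ = 0 := by rw [h3, h1, sub_self, sub_self, sub_self]

end Good

end Cfsg.Agent.TurullOne
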