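/-
A fixed element of a layer lying in the part moved by an abelian fixed-point-free group above it is ready.
-/
import Mathlib
import Cfsg.Agent.TurullOne.Step

set_option autoImplicit false
set_option linter.style.haveILetI false
set_option maxHeartbeats 800000

namespace Cfsg.Agent.TurullOne

open Module Finset

universe v

variable {X : Type*} [Group X] [Finite X] {p q : ℕ} [Fact p.Prime] [Fact q.Prime]
variable {V : Type v} [AddCommGroup V] [Module (ZMod p) V] [FiniteDimensional (ZMod p) V]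
variable {M : Type v} [AddCommGroup M] [Module (ZMod q) M] [FiniteDimensional (ZMod q) M]
variable {ρ : X →* Module.End (ZMod p) V} {π : X →* Module.End (ZMod q) M} {E D S : Subgroup X} {mk : X → M}
variable {a : X} {r : ℕ}

/-- The centre moved by `a`: either `t` is ready, or it fixes what these commutators move. -/
theorem Pair.ready_or_fix_center (P : Pair ρ π E D S mk) (hr : r.Prime) (ha : a ^ r = 1)
    (hrE : (Nat.card E).Coprime r) {t : X} (ht : t ∈ E) :
    Ready ρ a E t ∨ ∀ d ∈ D, ∀ v, ρ t (ρ (d⁻¹ * (a * d * a⁻¹)) v - v) = ρ (d⁻¹ * (a * d * a⁻¹)) v - v := by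
  by_contra hcon
  push Not at hcon
  obtain ⟨hnr, d, hd, v, hv⟩ := hcon
  refine hnr ⟨commSub a D, (commSub_le fun x hx => P.norm_D a x hx).trans P.D_le, ⊤,
    abFpf_commSub hr ha (fun x hx => P.norm_D a x hx) (hrE.coprime_dvd_left (Subgroup.card_dvd_of_le P.D_le))
      (fun _ _ _ _ => trivial) (fun _ _ => trivial)
      (fun b hb c hc y _ => by rw [P.D_central b hb c (P.D_le hc)]),
    fun _ _ => trivial, fun b hb y _ => ?_, _, sub_mem_mv (mem_commSub hd) (Submodule.mem_top (x := v)), hv⟩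
  rw [P.D_central b (commSub_le (fun x hx => P.norm_D a x hx) hb) t ht]

theorem Pair.rho_inj (P : Pair ρ π E D S mk) {t : X} (ht : t ∈ E) (ht0 : mk t ≠ 0) : ρ t ≠ 1 :=
  fun h => ht0 ((P.mk_eq_zero t ht).mpr (P.ker_le t ht h))

/-- The abelian case. -/
theorem Pair.ready_of_good_abelian (P : Pair ρ π E D S mk) (hab : ∀ e ∈ E, ∀ f ∈ E, ρ (e * f) = ρ (f * e))
    (hr : r.Prime) (ha : a ^ r = 1) (hrE : (Nat.card E).Coprime r) {B₀ : Subgroup X}
    (hB₀q : (Nat.card B₀ : ZMod q) ≠ 0) (hB₀r : (Nat.card B₀).Coprime r) {t : X} (ht : t ∈ E)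
    (hat : a * t = t * a) {Y₀ : Submodule (ZMod q) M} (h : AbFpf π a B₀ Y₀) (hty : mk t ∈ mv π B₀ Y₀)
    (ht0 : mk t ≠ 0) : Ready ρ a E t := by
  classical
  have hq : q.Prime := Fact.out
  have hnE : ∀ x ∈ E, a * x * a⁻¹ ∈ E := fun x hx => P.norm_E a x hx
  by_contra hnr
  have hkey : ∀ e ∈ E, ρ t * ρ (e⁻¹ * (a * e * a⁻¹)) - ρ t - ρ (e⁻¹ * (a * e * a⁻¹)) + 1 = 0 := by
    intro e he
    refine LinearMap.ext fun v => ?_
    by_contra hne
    refine hnr ⟨commSub a E, commSub_le hnE, ⊤, abFpf_commSub hr ha hnE hrE (fun _ _ _ _ => trivial)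
      (fun _ _ => trivial) (fun b hb c hc y _ => by rw [hab b hb c hc]),
      fun _ _ => trivial, fun b hb y _ => by rw [hab t ht b (commSub_le hnE hb)], _,
      sub_mem_mv (mem_commSub he) (Submodule.mem_top (x := v)), fun heq => hne ?_⟩
    simp only [LinearMap.add_apply, LinearMap.sub_apply, Module.End.mul_apply, Module.End.one_apply,
      LinearMap.zero_apply]
    rw [map_sub] at heq
    rw [show ρ t (ρ (e⁻¹ * (a * e * a⁻¹)) v) - ρ t v - ρ (e⁻¹ * (a * e * a⁻¹)) v + v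
      = (ρ t (ρ (e⁻¹ * (a * e * a⁻¹)) v) - ρ t v) - (ρ (e⁻¹ * (a * e * a⁻¹)) v - v) by abel, heq, sub_self]
  have hcommE : ∀ x ∈ ρ '' (E : Set X), ∀ y ∈ ρ '' (E : Set X), x * y = y * x := by
    rintro _ ⟨x, hx, rfl⟩ _ ⟨y, hy, rfl⟩
    rw [← map_mul, ← map_mul, hab x hx y hy]
  obtain ⟨L, hL, φ, hφ⟩ := exists_char_ne (ρ '' (E : Set X)) hcommE (Weight.mem (ρ := ρ) t ht)
    (N := Nat.card E) (Weight.card_ne_zero P le_rfl)
    (by rw [← map_pow, orderOf_dvd_iff_pow_eq_one.mp (Subgroup.orderOf_dvd_natCard E ht), map_one])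
    (P.rho_inj ht ht0)
  let W : Weight ρ E L := ⟨φ⟩
  have hWt : W.ev t ≠ 1 := by rwa [W.ev_eq ht]
  have hkeyW : ∀ (x : X), ∀ e ∈ E, W.ev (x * t * x⁻¹) = 1 ∨
      W.ev (x * (e⁻¹ * (a * e * a⁻¹)) * x⁻¹) = 1 := by
    intro x e he
    set g := e⁻¹ * (a * e * a⁻¹)
    have hg : g ∈ E := E.mul_mem (inv_mem he) (hnE e he)
    have hop : ρ (x * t * x⁻¹) * ρ (x * g * x⁻¹) - ρ (x * t * x⁻¹) - ρ (x * g * x⁻¹) + 1 = 0 := by
      have h0 := congrArg (fun z => ρ x * z * ρ x⁻¹) (hkey e he)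
      simp only [mul_add, mul_sub, add_mul, sub_mul, mul_zero, zero_mul, mul_one] at h0
      have h1 : x * (t * g) * x⁻¹ = (x * t * x⁻¹) * (x * g * x⁻¹) := by group
      have h2 : ρ x * ρ x⁻¹ = 1 := by rw [← map_mul, mul_inv_cancel, map_one]
      rw [h2, ← map_mul, ← map_mul, ← map_mul, h1, ← map_mul ρ x t, ← map_mul, ← map_mul ρ x g,
        ← map_mul, map_mul ρ (x * t * x⁻¹)] at h0
      exact h0
    have hxt := P.norm_E x t ht
    have hxg := P.norm_E x g hg
    have h1 : (W.ev (x * t * x⁻¹) - 1) * (W.ev (x * g * x⁻¹) - 1) = 0 := by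
      rw [W.ev_eq hxt, W.ev_eq hxg, ← map_one W.φ, ← map_sub, ← map_sub, ← map_mul, ← map_zero W.φ]
      congr 1
      refine Subtype.ext ?_
      show (ρ (x * t * x⁻¹) - 1) * (ρ (x * g * x⁻¹) - 1) = 0
      rw [← hop]; noncomm_ring
    rcases mul_eq_zero.mp h1 with h | h
    · exact Or.inl (sub_eq_zero.mp h)
    · exact Or.inr (sub_eq_zero.mp h)
  -- the weight is fixed by `a`
  have hWa : ∀ e ∈ E, W.ev (a * e * a⁻¹) = W.ev e := fun e he => by
    have := (hkeyW 1 e he).resolve_left (by simpa using hWt)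
    simp only [one_mul, inv_one, mul_one] at this
    rw [W.ev_mul (inv_mem he) (hnE e he)] at this
    have h2 := W.ev_mul he (inv_mem he)
    rw [mul_inv_cancel, W.ev_one] at h2
    exact mul_left_cancel₀ (W.ev_ne_zero (inv_mem he)) (this.trans (by rw [mul_comm, ← h2]))
  have hWa' : ∀ e ∈ E, W.ev (a⁻¹ * e * a) = W.ev e := fun e he => by
    have hm : a⁻¹ * e * a ∈ E := by simpa using P.norm_E a⁻¹ e he
    rw [← hWa _ hm, show a * (a⁻¹ * e * a) * a⁻¹ = e by group]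
  -- the stabiliser in `B₀`
  let St : Subgroup X :=
    { carrier := {c | c ∈ B₀ ∧ ∀ f ∈ E, W.ev (c * f * c⁻¹) = W.ev f}
      one_mem' := ⟨one_mem _, fun f _ => by simp⟩
      mul_mem' := fun {c d} hc hd => ⟨B₀.mul_mem hc.1 hd.1, fun f hf => by
        rw [show c * d * f * (c * d)⁻¹ = c * (d * f * d⁻¹) * c⁻¹ by group, hc.2 _ (P.norm_E d f hf), hd.2 f hf]⟩
      inv_mem' := fun {c} hc => ⟨inv_mem hc.1, fun f hf => by
        rw [inv_inv, ← hc.2 (c⁻¹ * f * c) (by simpa using P.norm_E c⁻¹ f hf),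
          show c * (c⁻¹ * f * c) * c⁻¹ = f by group]⟩ }
  have hSta : ∀ c ∈ St, a * c * a⁻¹ ∈ St := fun c hc => ⟨h.norm c hc.1, fun f hf => by
    have hm : a⁻¹ * f * a ∈ E := by simpa using P.norm_E a⁻¹ f hf
    rw [show a * c * a⁻¹ * f * (a * c * a⁻¹)⁻¹ = a * (c * (a⁻¹ * f * a) * c⁻¹) * a⁻¹ by group,
      hWa _ (P.norm_E c _ hm), hc.2 _ hm, hWa' f hf]⟩
  let C : Subgroup X :=
    { carrier := {c | c ∈ B₀ ∧ a * c * a⁻¹ = c}
      one_mem' := ⟨one_mem _, by simp⟩
      mul_mem' := fun {c d} hc hd => ⟨B₀.mul_mem hc.1 hd.1, by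
        rw [show a * (c * d) * a⁻¹ = a * c * a⁻¹ * (a * d * a⁻¹) by group, hc.2, hd.2]⟩
      inv_mem' := fun {c} hc => ⟨inv_mem hc.1, by
        rw [show a * c⁻¹ * a⁻¹ = (a * c * a⁻¹)⁻¹ by group, hc.2]⟩ }
  have hevmk : ∀ e ∈ E, ∀ f ∈ E, mk e = mk f → W.ev e = W.ev f := by
    intro e he f hf hef
    refine W.ev_congr he hf ?_
    have hd : e⁻¹ * f ∈ D := by
      rw [← P.mk_eq_zero _ (E.mul_mem (inv_mem he) hf), P.mk_mul _ (inv_mem he) _ hf, P.mk_inv he, hef,
        neg_add_cancel]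
    conv_rhs => rw [show f = e * (e⁻¹ * f) by group, map_mul, P.elem hab _ hd, mul_one]
  have hC : ∀ c ∈ C, W.ev (c * t * c⁻¹) = W.ev t := fun c hc => by
    refine hevmk _ (P.norm_E c t ht) t ht ?_
    rw [P.mk_conj c t ht]
    exact h.fpf c hc.1 (fun y _ => by rw [hc.2]) _ (mv_le h.inv hty)
  -- where the translates of `t` are seen
  set Set0 : Finset B₀ := @Finset.filter _ (fun b : B₀ => W.ev ((b : X) * t * (b : X)⁻¹) ≠ 1) (Classical.decPred _)
    (@Finset.univ _ (Fintype.ofFinite B₀)) with hSet0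
  letI : Fintype B₀ := Fintype.ofFinite B₀
  have hmemSet : ∀ b : B₀, b ∈ Set0 ↔ ∃ s ∈ St, ∃ c ∈ C, s * c = b := by
    intro b
    simp only [hSet0, Finset.mem_filter, Finset.mem_univ, true_and]
    constructor
    · intro hb
      have hfix : ∀ e ∈ E, W.ev ((b : X) * (a * e * a⁻¹) * (b : X)⁻¹) = W.ev ((b : X) * e * (b : X)⁻¹) := by
        intro e he
        have := (hkeyW (b : X) e he).resolve_left hb
        have hbe := P.norm_E (b : X) e he
        have hbe' := P.norm_E (b : X) _ (hnE e he)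
        rw [show (b : X) * (e⁻¹ * (a * e * a⁻¹)) * (b : X)⁻¹
          = ((b : X) * e * (b : X)⁻¹)⁻¹ * ((b : X) * (a * e * a⁻¹) * (b : X)⁻¹) by group,
          W.ev_mul (inv_mem hbe) hbe'] at this
        have h2 := W.ev_mul hbe (inv_mem hbe)
        rw [mul_inv_cancel, W.ev_one] at h2
        exact mul_left_cancel₀ (W.ev_ne_zero (inv_mem hbe)) (this.trans (by rw [mul_comm, ← h2]))
      have hainv : ∀ x ∈ B₀, a⁻¹ * x * a ∈ B₀ := fun x hx => by
        have h2 := h.pow_norm (r - 1) hx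
        have e : a ^ (r - 1) = a⁻¹ :=
          eq_inv_of_mul_eq_one_left (by rw [← pow_succ, Nat.sub_add_cancel hr.pos, ha])
        rwa [e, inv_inv] at h2
      have hc : a⁻¹ * (b : X) * a * (b : X)⁻¹ ∈ St := by
        refine ⟨B₀.mul_mem (hainv _ b.2) (inv_mem b.2), fun f hf => ?_⟩
        have hm : (b : X)⁻¹ * f * (b : X) ∈ E := by simpa using P.norm_E (b : X)⁻¹ f hf
        have h2 := hfix _ hm
        rw [← hWa' _ (P.norm_E (b : X) _ (hnE _ hm))] at h2
        rw [show (b : X) * ((b : X)⁻¹ * f * (b : X)) * (b : X)⁻¹ = f by group] at h2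
        refine Eq.trans (congrArg W.ev ?_) h2
        group
      let β : MulAut X := MulAut.conj a
      have hcop : ¬ r ∣ Nat.card St := fun hd => by
        have h2 : Nat.card St ∣ Nat.card B₀ := Subgroup.card_dvd_of_le fun x hx => hx.1
        exact (hr.coprime_iff_not_dvd.mp hB₀r.symm) (hd.trans h2)
      haveI : Fact r.Prime := ⟨hr⟩
      obtain ⟨s, hs, hsfix⟩ := Cfsg.Agent.FPFPower.exists_fixed_in_coset (p := r) (k := 1) β
        (by rw [pow_one]; exact MulEquiv.ext fun x => by simp [β, ← map_pow, ha]) St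
        (fun y hy => hSta y hy) hcop (a := (b : X)⁻¹) (by
          have h2 := hSta _ hc
          show ((b : X)⁻¹)⁻¹ * (a * (b : X)⁻¹ * a⁻¹) ∈ St
          rwa [show a * (a⁻¹ * (b : X) * a * (b : X)⁻¹) * a⁻¹ = ((b : X)⁻¹)⁻¹ * (a * (b : X)⁻¹ * a⁻¹) by group] at h2)
      refine ⟨s, hs, s⁻¹ * b, ⟨B₀.mul_mem (inv_mem hs.1) b.2, ?_⟩, by group⟩
      change a * ((b : X)⁻¹ * s) * a⁻¹ = (b : X)⁻¹ * s at hsfix
      have h3 := congrArg (·⁻¹) hsfix
      simp only [mul_inv_rev, inv_inv] at h3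
      conv_rhs => rw [← h3]
      group
    · rintro ⟨s, hs, c, hc, hsc⟩
      rw [← hsc, show s * c * t * (s * c)⁻¹ = s * (c * t * c⁻¹) * s⁻¹ by group, hs.2 _ (P.norm_E c t ht), hC c hc]
      exact hWt
  -- counting
  let g : St × C → B₀ := fun x => ⟨(x.1 : X) * x.2, B₀.mul_mem x.1.2.1 x.2.2.1⟩
  letI : Fintype St := Fintype.ofFinite St
  letI : Fintype C := Fintype.ofFinite C
  letI : Fintype (St ⊓ C : Subgroup X) := Fintype.ofFinite _
  have hfib : ∀ b ∈ Set0, (Finset.univ.filter fun x => g x = b).card = Fintype.card (St ⊓ C : Subgroup X) := by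
    intro b hb
    obtain ⟨s, hs, c, hc, hsc⟩ := (hmemSet b).mp hb
    rw [← Finset.card_univ (α := (St ⊓ C : Subgroup X))]
    refine Finset.card_bij' (fun x hx => ⟨s⁻¹ * x.1, St.mul_mem (inv_mem hs) x.1.2, ?_⟩)
      (fun w _ => (⟨s * w, St.mul_mem hs w.2.1⟩, ⟨(w : X)⁻¹ * c, C.mul_mem (inv_mem w.2.2) hc⟩)) ?_ ?_ ?_ ?_
    · have e : (x.1 : X) * x.2 = s * c := by
        rw [hsc]; exact congrArg Subtype.val (Finset.mem_filter.mp hx).2
      rw [show s⁻¹ * (x.1 : X) = c * (x.2 : X)⁻¹ by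
        rw [show (x.1 : X) = s * c * (x.2 : X)⁻¹ by rw [← e]; group]
        group]
      exact C.mul_mem hc (inv_mem x.2.2)
    · intro x _; exact Finset.mem_univ _
    · intro w _
      refine Finset.mem_filter.mpr ⟨Finset.mem_univ _, Subtype.ext ?_⟩
      show s * (w : X) * ((w : X)⁻¹ * c) = b
      rw [← hsc]; group
    · intro x hx
      have e : (x.1 : X) * x.2 = s * c := by
        rw [hsc]; exact congrArg Subtype.val (Finset.mem_filter.mp hx).2
      refine Prod.ext (Subtype.ext ?_) (Subtype.ext ?_)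
      · show s * (s⁻¹ * (x.1 : X)) = x.1
        group
      · show (s⁻¹ * (x.1 : X))⁻¹ * c = x.2
        rw [mul_inv_rev, inv_inv, mul_assoc, ← e]; group
    · intro w _
      refine Subtype.ext ?_
      show s⁻¹ * (s * (w : X)) = w
      group
  have htot : Fintype.card St * Fintype.card C = Set0.card * Fintype.card (St ⊓ C : Subgroup X) := by
    rw [← Fintype.card_prod, ← Finset.card_univ, Finset.card_eq_sum_card_fiberwise (f := g) (t := Set0)
      (fun x _ => (hmemSet _).mpr ⟨x.1, x.1.2, x.2, x.2.2, rfl⟩),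
      Finset.sum_congr rfl hfib, Finset.sum_const, smul_eq_mul]
  -- the product over the orbit
  choose sec hsecE hsec using P.mk_surj
  have hGadd : ∀ m₁ m₂, W.ev (sec (m₁ + m₂)) = W.ev (sec m₁) * W.ev (sec m₂) := fun m₁ m₂ => by
    rw [← W.ev_mul (hsecE _) (hsecE _)]
    exact hevmk _ (hsecE _) _ (E.mul_mem (hsecE _) (hsecE _)) (by rw [P.mk_mul _ (hsecE _) _ (hsecE _), hsec, hsec, hsec])
  have hG0 : W.ev (sec 0) = 1 := by
    rw [hevmk _ (hsecE _) 1 (one_mem _) (by rw [hsec, P.mk_one]), W.ev_one]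
  have hGsum : ∀ (T : Finset B₀), W.ev (sec (∑ b ∈ T, π (b : X) (mk t)))
      = ∏ b ∈ T, W.ev ((b : X) * t * (b : X)⁻¹) := by
    intro T
    induction T using Finset.induction with
    | empty => simp [hG0]
    | insert b T hb ih =>
      rw [Finset.sum_insert hb, Finset.prod_insert hb, hGadd, ih]
      congr 1
      exact hevmk _ (hsecE _) _ (P.norm_E _ t ht) (by rw [hsec, P.mk_conj _ t ht])
  have hprod : ∏ b : B₀, W.ev ((b : X) * t * (b : X)⁻¹) = 1 := by
    rw [← hGsum, sum_apply_mv hty, hG0]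
  have hconst : ∀ b ∈ Set0, W.ev ((b : X) * t * (b : X)⁻¹) = W.ev t := fun b hb => by
    obtain ⟨s, hs, c, hc, hsc⟩ := (hmemSet b).mp hb
    rw [← hsc, show s * c * t * (s * c)⁻¹ = s * (c * t * c⁻¹) * s⁻¹ by group,
      hs.2 _ (P.norm_E c t ht), hC c hc]
  rw [← Finset.prod_subset (Finset.subset_univ Set0) (fun b _ hb => by
    by_contra hne
    exact hb (by simp only [hSet0, Finset.mem_filter, Finset.mem_univ, true_and]; exact hne))] at hprod
  rw [Finset.prod_eq_pow_card hconst] at hprod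
  have htq : W.ev t ^ q = 1 := by
    rw [← W.ev_pow ht, ← W.ev_one]
    exact hevmk _ (E.pow_mem ht q) _ (one_mem _) (by rw [(P.mk_eq_zero _ (E.pow_mem ht q)).mpr (P.pow_mem ht), P.mk_one])
  have hdvd : q ∣ Set0.card := by
    rw [← orderOf_eq_prime htq hWt]; exact orderOf_dvd_of_pow_eq_one hprod
  have h0 : ((Fintype.card St * Fintype.card C : ℕ) : ZMod q) = 0 := by
    rw [htot, Nat.cast_mul, (ZMod.natCast_eq_zero_iff _ _).mpr hdvd, zero_mul]
  rw [Nat.cast_mul, ← Nat.card_eq_fintype_card, ← Nat.card_eq_fintype_card] at h0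
  rcases mul_eq_zero.mp h0 with h0 | h0 <;> apply hB₀q
  · obtain ⟨m, hm⟩ := Subgroup.card_dvd_of_le (H := St) (K := B₀) fun x hx => hx.1
    rw [hm, Nat.cast_mul, h0, zero_mul]
  · obtain ⟨m, hm⟩ := Subgroup.card_dvd_of_le (H := C) (K := B₀) fun x hx => hx.1
    rw [hm, Nat.cast_mul, h0, zero_mul]

/-- If `t` is not central, some weight fixed by `a` sees this. -/
theorem Pair.exists_fixed_weight (P : Pair ρ π E D S mk) {t e : X} (ht : t ∈ E) (he : e ∈ E)
    (hne : ρ (t * e) ≠ ρ (e * t))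
    (hfix : ∀ d ∈ D, ∀ v, ρ t (ρ (d⁻¹ * (a * d * a⁻¹)) v - v) = ρ (d⁻¹ * (a * d * a⁻¹)) v - v) :
    ∃ (L : Type v) (_ : Field L) (W : Weight ρ D L),
      (∀ d ∈ D, W.ev (a * d * a⁻¹) = W.ev d) ∧ Pair.pc W t e ≠ 1 := by
  set c := t * e * t⁻¹ * e⁻¹ with hc
  have hcD : c ∈ D := P.comm_mem ht he
  have hc1 : ρ c ≠ 1 := fun h => hne (by
    rw [show t * e = c * (e * t) by rw [hc]; group, map_mul, h, one_mul])
  obtain ⟨L, hL, W, hW⟩ := P.exists_weight hcD hc1
  refine ⟨L, hL, W, fun d hd => ?_, hW⟩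
  set g := d⁻¹ * (a * d * a⁻¹) with hg
  have hgD : g ∈ D := D.mul_mem (inv_mem hd) (P.norm_D a d hd)
  have hop : (ρ c - 1) * (ρ g - 1) = 0 := by
    refine LinearMap.ext fun v => ?_
    simp only [Module.End.mul_apply, LinearMap.sub_apply, Module.End.one_apply, LinearMap.zero_apply]
    set u := ρ g v - v with hu
    have h1 : ρ t u = u := hfix d hd v
    have h2 : ρ e⁻¹ u = ρ g (ρ e⁻¹ v) - ρ e⁻¹ v := by
      rw [hu, map_sub, ← apply_mul ρ g e⁻¹, P.D_central g hgD _ (inv_mem he), apply_mul ρ e⁻¹ g]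
    have h3 : ρ t⁻¹ (ρ e⁻¹ u) = ρ e⁻¹ u := by
      have h2' : ρ t (ρ e⁻¹ u) = ρ e⁻¹ u := by rw [h2]; exact hfix d hd _
      conv_lhs => rw [← h2', apply_inv_apply]
    rw [hc, apply_mul, apply_mul, apply_mul, h3, apply_apply_inv, h1, sub_self]
  have h4 : (W.ev c - 1) * (W.ev g - 1) = 0 := by
    rw [W.ev_eq hcD, W.ev_eq hgD, ← map_one W.φ, ← map_sub, ← map_sub, ← map_mul, ← map_zero W.φ]
    congr 1
    exact Subtype.ext hop
  have h5 : W.ev g = 1 := sub_eq_zero.mp ((mul_eq_zero.mp h4).resolve_left (sub_ne_zero.mpr hW))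
  rw [show a * d * a⁻¹ = d * g by rw [hg]; group, W.ev_mul hd hgD, h5, mul_one]

omit [FiniteDimensional (ZMod p) V] [FiniteDimensional (ZMod q) M] in
theorem Pair.pi_fix (P : Pair ρ π E D S mk) {t : X} (ht : t ∈ E) (hat : a * t = t * a) :
    π a (mk t) = mk t := by
  rw [← P.mk_conj a t ht, hat, mul_assoc, mul_inv_cancel, mul_one]

omit [FiniteDimensional (ZMod p) V] [FiniteDimensional (ZMod q) M] in
/-- The form of a weight is invariant under an element fixing the weight. -/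
theorem Pair.form_inv (P : Pair ρ π E D S mk) {L : Type v} [Field L] (W : Weight ρ D L)
    (β : M →ₗ[ZMod q] M →ₗ[ZMod q] ZMod q) {ζ : L} (hζ : IsPrimitiveRoot ζ q)
    (hβ : ∀ e ∈ E, ∀ f ∈ E, Pair.pc W e f = ζ ^ (β (mk e) (mk f)).val)
    {x : X} (hx : ∀ d ∈ D, W.ev (x * d * x⁻¹) = W.ev d) (u w : M) : β (π x u) (π x w) = β u w := by
  obtain ⟨e, he, rfl⟩ := P.mk_surj u
  obtain ⟨f, hf, rfl⟩ := P.mk_surj w
  rw [← P.mk_conj x e he, ← P.mk_conj x f hf]
  refine ZMod.val_injective q (hζ.pow_inj (ZMod.val_lt _) (ZMod.val_lt _) ?_)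
  rw [← hβ _ (P.norm_E x e he) _ (P.norm_E x f hf), ← hβ e he f hf, Pair.pc, Pair.pc,
    ← hx _ (P.comm_mem he hf)]
  congr 1
  group

omit [FiniteDimensional (ZMod p) V] [FiniteDimensional (ZMod q) M] in
/-- The form of a weight is alternating. -/
theorem Pair.form_alt (P : Pair ρ π E D S mk) {L : Type v} [Field L] (W : Weight ρ D L)
    (β : M →ₗ[ZMod q] M →ₗ[ZMod q] ZMod q) {ζ : L} (hζ : IsPrimitiveRoot ζ q)
    (hβ : ∀ e ∈ E, ∀ f ∈ E, Pair.pc W e f = ζ ^ (β (mk e) (mk f)).val) (m : M) : β m m = 0 := by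
  obtain ⟨e, he, rfl⟩ := P.mk_surj m
  refine ZMod.val_injective q (hζ.pow_inj (ZMod.val_lt _) (ZMod.val_lt _) ?_)
  rw [← hβ e he e he, P.pc_self W e, ZMod.val_zero, pow_zero]

omit [FiniteDimensional (ZMod p) V] in
/-- A fixed element in the part moved by a good group is ready. -/
theorem Pair.ready_of_good [FiniteDimensional (ZMod p) V] (P : Pair ρ π E D S mk) (hr : r.Prime) (ha : a ^ r = 1)
    (hrE : (Nat.card E).Coprime r) {B₀ : Subgroup X} (hB₀S : B₀ ≤ S) (hB₀q : (Nat.card B₀ : ZMod q) ≠ 0)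
    (hB₀r : (Nat.card B₀).Coprime r) {t : X} (ht : t ∈ E) (hat : a * t = t * a) {Y₀ : Submodule (ZMod q) M}
    (h : AbFpf π a B₀ Y₀) (hty : mk t ∈ mv π B₀ Y₀) (ht0 : mk t ≠ 0) : Ready ρ a E t := by
  classical
  by_cases hab : ∀ e ∈ E, ∀ f ∈ E, ρ (e * f) = ρ (f * e)
  · exact P.ready_of_good_abelian hab hr ha hrE hB₀q hB₀r ht hat h hty ht0
  rcases P.ready_or_fix_center hr ha hrE ht with hR | hfixD
  · exact hR
  push Not at hab
  obtain ⟨e, he, hne⟩ : ∃ e ∈ E, ρ (t * e) ≠ ρ (e * t) := by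
    by_contra! hc
    exact ht0 ((P.mk_eq_zero t ht).mpr (P.center_le hab t ht hc))
  obtain ⟨L, hL, W, hWa, hWt⟩ := P.exists_fixed_weight ht he hne hfixD
  obtain ⟨β, ζ, hζ, hβ⟩ := P.exists_form W ht he hWt
  set t₀ := mk t with ht₀
  have hβt : β t₀ (mk e) ≠ 0 := fun h0 => hWt (by rw [hβ t ht e he, h0]; simp)
  have hπt : π a t₀ = t₀ := P.pi_fix ht hat
  have hB₀W : ∀ b ∈ B₀, ∀ u w, β (π b u) (π b w) = β u w := fun b hb u w =>
    P.form_inv W β hζ hβ (fun d hd => W.ev_congr (P.norm_D b d hd) hd (by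
      rw [map_mul, map_mul, ← map_mul, P.S_cent b (hB₀S hb) d hd, map_mul, mul_assoc, ← map_mul,
        mul_inv_cancel, map_one, mul_one])) u w
  have halt := P.form_alt W β hζ hβ
  have hskew : ∀ u w, β u w = - β w u := fun u w => by
    have h0 := halt (u + w)
    simp only [map_add, LinearMap.add_apply, halt, add_zero, zero_add] at h0
    exact eq_neg_of_add_eq_zero_right h0
  have hinva := P.form_inv W β hζ hβ hWa
  have hapow : ∀ (i : ℕ) u w, β (π (a ^ i) u) (π (a ^ i) w) = β u w := by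
    intro i
    induction i with
    | zero => simp
    | succ i ih => intro u w; rw [pow_succ', apply_mul, apply_mul, hinva, ih]
  have hRad : ∀ m, (∀ x, β m x = 0) → ∀ x, β (π a m) x = 0 := fun m hm x => by
    rw [← apply_apply_inv π a x, hinva]; exact hm _
  have hY : mk t ∈ Y₀ := mv_le h.inv hty
  -- every element of `B₀` is a commutator with `a` on `Y₀`
  have hsurj : ∀ x ∈ B₀, ∃ d ∈ B₀, ∀ y ∈ Y₀, π (d⁻¹ * (a * d * a⁻¹)) y = π x y := fun x hx => by
    have := h.exists_comm hr ha (i := 1) (Nat.Prime.not_dvd_one hr) hx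
    simpa using this
  suffices hv : ∃ v : M, (∃ u, π a u - u = v) ∧ (∃ m, β v m ≠ 0) ∧
      ∀ i l : ℕ, β (π (a ^ i) v) (π (a ^ l) v) = 0 by
    obtain ⟨v, hv1, hv2, hv3⟩ := hv
    exact P.ready_of_isotropic hr ha hrE ht hat W hWa β hζ hβ ⟨_, hβt⟩ hv1 hv2 hv3
  rcases hr.eq_two_or_odd with hr2 | hodd
  · subst hr2
    by_contra! hcon
    have hrad : ∀ u x, β (π a u - u) x = 0 := by
      intro u x
      by_contra hx
      have hneg : π a (π a u - u) = -(π a u - u) := by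
        rw [map_sub, ← apply_mul, ← sq, ha, map_one, Module.End.one_apply]; abel
      have hpow : ∀ i : ℕ, π (a ^ i) (π a u - u) = π a u - u ∨ π (a ^ i) (π a u - u) = -(π a u - u) := by
        intro i
        induction i with
        | zero => exact Or.inl (by simp)
        | succ i ih =>
          rw [pow_succ', apply_mul]
          rcases ih with e0 | e0 <;> rw [e0]
          · exact Or.inr hneg
          · exact Or.inl (by rw [map_neg, hneg, neg_neg])
      obtain ⟨i, l, hil⟩ := hcon (π a u - u) ⟨u, rfl⟩ ⟨x, hx⟩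
      refine hil ?_
      rcases hpow i with e1 | e1 <;> rcases hpow l with e2 | e2 <;> rw [e1, e2] <;>
        simp only [map_neg, LinearMap.neg_apply, halt, neg_zero]
    -- hence `B₀` fixes the image of `t`
    have hfixt : ∀ x ∈ B₀, ∀ z, β (π x t₀) z = β t₀ z := by
      intro x hx z
      obtain ⟨d, hd, hdx⟩ := hsurj x hx
      rw [← hdx _ hY, apply_mul]
      conv_lhs => rw [← apply_apply_inv π d⁻¹ z, hB₀W _ (inv_mem hd)]
      have h1 : π (a * d * a⁻¹) t₀ = π a (π d t₀) := by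
        rw [apply_mul, apply_mul]
        congr 2
        conv_lhs => rw [← hπt, apply_inv_apply]
      have h2 := hrad (π d t₀) (π d⁻¹⁻¹ z)
      rw [map_sub, LinearMap.sub_apply, sub_eq_zero] at h2
      rw [h1, h2, inv_inv, hB₀W d hd]
    letI : Fintype B₀ := Fintype.ofFinite B₀
    have h0 := congrArg (fun w => β w (mk e)) (sum_apply_mv (B := B₀) hty)
    simp only [map_sum, LinearMap.sum_apply, map_zero, LinearMap.zero_apply] at h0
    rw [Finset.sum_congr rfl fun (b : B₀) _ => hfixt b b.2 (mk e), Finset.sum_const, Finset.card_univ,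
      ← Nat.card_eq_fintype_card, nsmul_eq_mul] at h0
    exact mul_ne_zero hB₀q hβt h0
  -- the isotropic space spanned by `x t + x⁻¹ t`
  let f : X → ZMod q := fun x => β t₀ (π x t₀)
  have hfe : ∀ x ∈ B₀, ∀ y ∈ B₀, β (π x t₀) (π y t₀) = f (x⁻¹ * y) := fun x hx y hy => by
    show _ = β t₀ (π (x⁻¹ * y) t₀)
    rw [← hB₀W x⁻¹ (inv_mem hx) (π x t₀), apply_inv_apply, ← apply_mul]
  have hfinv : ∀ x ∈ B₀, f x⁻¹ = - f x := fun x hx => by
    show β t₀ (π x⁻¹ t₀) = - β t₀ (π x t₀)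
    rw [← hskew, ← hB₀W x hx t₀ (π x⁻¹ t₀), apply_apply_inv]
  have hfc : ∀ x ∈ B₀, ∀ y ∈ B₀, f (x * y) = f (y * x) := fun x hx y hy => by
    show β t₀ _ = β t₀ _
    rw [h.comm x hx y hy _ hY]
  let w : X → M := fun x => π x t₀ + π x⁻¹ t₀
  have hww : ∀ x ∈ B₀, ∀ y ∈ B₀, β (w x) (w y) = 0 := fun x hx y hy => by
    simp only [w, map_add, LinearMap.add_apply]
    rw [hfe x hx y hy, hfe _ (inv_mem hx) y hy, hfe x hx _ (inv_mem hy), hfe _ (inv_mem hx) _ (inv_mem hy), inv_inv]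
    have h1 : f (x * y⁻¹) = - f (x⁻¹ * y) := by
      rw [hfc x hx _ (inv_mem hy), ← hfinv _ (B₀.mul_mem (inv_mem hx) hy), mul_inv_rev, inv_inv]
    have h2 : f (x * y) = - f (x⁻¹ * y⁻¹) := by
      rw [← hfinv _ (B₀.mul_mem (inv_mem hx) (inv_mem hy)), mul_inv_rev, inv_inv, inv_inv, hfc y hy x hx]
    rw [h1, h2]; ring
  have hwa : ∀ (i : ℕ), ∀ x ∈ B₀, π (a ^ i) (w x) = w (a ^ i * x * (a ^ i)⁻¹) := fun i x hx => by
    have hti : π (a ^ i)⁻¹ t₀ = t₀ := by
      conv_lhs => rw [← pow_apply_eq hπt i, apply_inv_apply]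
    simp only [w, map_add]
    congr 1
    · rw [apply_mul, apply_mul, hti]
    · rw [show (a ^ i * x * (a ^ i)⁻¹)⁻¹ = a ^ i * x⁻¹ * (a ^ i)⁻¹ by group, apply_mul, apply_mul, hti]
  by_contra! hcon
  have hrad : ∀ x ∈ B₀, ∀ z, β (w (a * x * a⁻¹)) z = β (w x) z := by
    intro x hx z
    by_contra hz
    have h1 : w (a * x * a⁻¹) = π a (w x) := by
      have := hwa 1 x hx; simpa using this.symm
    obtain ⟨i, l, hil⟩ := hcon (π a (w x) - w x) ⟨_, rfl⟩ ⟨z, by
      rw [map_sub, LinearMap.sub_apply, sub_ne_zero, ← h1]; exact hz⟩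
    refine hil ?_
    simp only [map_sub, ← apply_mul, ← pow_succ, hwa _ x hx, LinearMap.sub_apply,
      hww _ (h.pow_norm _ hx) _ (h.pow_norm _ hx), sub_self]
  -- the module modulo the radical
  let Rd : Submodule (ZMod q) M := LinearMap.ker β
  let U : Submodule (ZMod q) (M ⧸ Rd) :=
    Submodule.span (ZMod q) {u | ∃ b ∈ B₀, Rd.mkQ (π b t₀) = u}
  have hRdB : ∀ b ∈ B₀, Rd ≤ Rd.comap (π b) := fun b hb m hm => by
    have hm' : β m = 0 := LinearMap.mem_ker.mp hm
    rw [Submodule.mem_comap, LinearMap.mem_ker]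
    refine LinearMap.ext fun z => ?_
    rw [← apply_apply_inv π b z, hB₀W b hb, hm']; rfl
  let op : B₀ → Module.End (ZMod q) (M ⧸ Rd) := fun b => Submodule.mapQ Rd Rd (π (b : X)) (hRdB b b.2)
  have hop : ∀ (b : B₀) m, op b (Rd.mkQ m) = Rd.mkQ (π (b : X) m) := fun b m => rfl
  have hUop : ∀ (b : B₀), ∀ u ∈ U, op b u ∈ U := fun b u hu => by
    induction hu using Submodule.span_induction with
    | mem u hu =>
      obtain ⟨c, hc, rfl⟩ := hu
      exact Submodule.subset_span ⟨_, B₀.mul_mem b.2 hc, by rw [hop, ← apply_mul]⟩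
    | zero => rw [map_zero]; exact zero_mem _
    | add u w _ _ hu hw => rw [map_add]; exact add_mem hu hw
    | smul c u _ hu => rw [map_smul]; exact Submodule.smul_mem _ c hu
  let g : B₀ →* Module.End (ZMod q) U :=
    { toFun := fun b => (op b).restrict (hUop b)
      map_one' := LinearMap.ext fun u => Subtype.ext (by
        obtain ⟨m, hm⟩ := Rd.mkQ_surjective (u : M ⧸ Rd)
        show op 1 (u : M ⧸ Rd) = u
        rw [← hm, hop]; simp)
      map_mul' := fun b c => LinearMap.ext fun u => Subtype.ext (by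
        obtain ⟨m, hm⟩ := Rd.mkQ_surjective (u : M ⧸ Rd)
        show op (b * c) (u : M ⧸ Rd) = op b (op c (u : M ⧸ Rd))
        rw [← hm, hop, hop, hop, Subgroup.coe_mul, apply_mul]) }
  have hgext : ∀ (F G : Module.End (ZMod q) U),
      (∀ (b : X) (hb : b ∈ B₀), F ⟨_, Submodule.subset_span ⟨b, hb, rfl⟩⟩ = G ⟨_, Submodule.subset_span ⟨b, hb, rfl⟩⟩) →
      F = G := by
    intro F G hFG
    refine LinearMap.ext fun ⟨u, hu⟩ => ?_
    induction hu using Submodule.span_induction with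
    | mem u hu => obtain ⟨b, hb, rfl⟩ := hu; exact hFG b hb
    | zero => exact (map_zero F).trans (map_zero G).symm
    | add x y hx hy ihx ihy =>
      have e : (⟨x + y, add_mem hx hy⟩ : U) = ⟨x, hx⟩ + ⟨y, hy⟩ := rfl
      rw [e, map_add, map_add, ihx, ihy]
    | smul c x hx ihx =>
      have e : (⟨c • x, Submodule.smul_mem _ c hx⟩ : U) = c • (⟨x, hx⟩ : U) := rfl
      rw [e, map_smul, map_smul, ihx]
  have hgc : ∀ b c : B₀, g b * g c = g c * g b := fun b c => hgext _ _ fun d hd => Subtype.ext (by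
    show op b (op c (Rd.mkQ (π d t₀))) = op c (op b (Rd.mkQ (π d t₀)))
    rw [hop, hop, hop, hop, ← apply_mul, ← apply_mul π (c : X)]
    congr 1
    exact h.comm _ b.2 _ c.2 _ (h.inv d hd _ hY))
  let cjB : B₀ → B₀ := fun x => ⟨a * x * a⁻¹, h.norm _ x.2⟩
  have hid : ∀ x : B₀, g (cjB x) + g (cjB x)⁻¹ = g x + g x⁻¹ := fun x => hgext _ _ fun d hd => Subtype.ext (by
    show op (cjB x) (Rd.mkQ (π d t₀)) + op (cjB x)⁻¹ (Rd.mkQ (π d t₀))
      = op x (Rd.mkQ (π d t₀)) + op x⁻¹ (Rd.mkQ (π d t₀))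
    simp only [hop, ← map_add]
    rw [Submodule.mkQ_apply, Submodule.mkQ_apply, Submodule.Quotient.eq, LinearMap.mem_ker]
    have hsw : ∀ y ∈ B₀, π y (π d t₀) = π d (π y t₀) := fun y hy => by
      rw [← apply_mul, ← apply_mul, h.comm y hy d hd _ hY]
    rw [hsw _ (cjB x).2, hsw _ (cjB x)⁻¹.2, hsw _ x.2, hsw _ x⁻¹.2, ← map_add, ← map_add, ← map_sub]
    refine LinearMap.ext fun z => ?_
    rw [← apply_apply_inv π d z, hB₀W d hd, LinearMap.zero_apply, map_sub, LinearMap.sub_apply, sub_eq_zero]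
    exact hrad x x.2 (π d⁻¹ z))
  have hgS : ∀ x ∈ Set.range g, ∀ y ∈ Set.range g, x * y = y * x := by
    rintro _ ⟨b, rfl⟩ _ ⟨c, rfl⟩; exact hgc b c
  let A := Algebra.adjoin (ZMod q) (Set.range g)
  letI : CommRing A := Algebra.adjoinCommRingOfComm _ hgS
  have hU0 : (⟨Rd.mkQ t₀, Submodule.subset_span ⟨1, one_mem _, by simp⟩⟩ : U) ≠ 0 := by
    intro h0
    have h1 : Rd.mkQ t₀ = 0 := congrArg Subtype.val h0
    rw [Submodule.mkQ_apply, Submodule.Quotient.mk_eq_zero, LinearMap.mem_ker] at h1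
    exact hβt (by rw [h1]; rfl)
  haveI : Nontrivial U := ⟨⟨_, _, hU0⟩⟩
  haveI : Nontrivial A := ⟨⟨1, 0, fun h1 => one_ne_zero (α := Module.End (ZMod q) U) (congrArg Subtype.val h1)⟩⟩
  obtain ⟨m, hm⟩ := Ideal.exists_maximal A
  letI : Field (A ⧸ m) := Ideal.Quotient.field m
  let G : B₀ → A := fun b => ⟨g b, Algebra.subset_adjoin ⟨b, rfl⟩⟩
  let ψ : B₀ → A ⧸ m := fun b => Ideal.Quotient.mk m (G b)
  have hψm : ∀ b c, ψ (b * c) = ψ b * ψ c := fun b c => by
    simp only [ψ, ← map_mul]; congr 1; exact Subtype.ext (map_mul g b c)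
  have hψ1 : ψ 1 = 1 := by
    simp only [ψ, ← map_one (Ideal.Quotient.mk m)]; congr 1; exact Subtype.ext (map_one g)
  have hψ0 : ∀ b, ψ b ≠ 0 := fun b h0 => by
    have := hψm b b⁻¹; rw [mul_inv_cancel, hψ1, h0, zero_mul] at this; exact one_ne_zero this
  have hψinv : ∀ b, ψ b⁻¹ = (ψ b)⁻¹ := fun b => eq_inv_of_mul_eq_one_left (by rw [← hψm, inv_mul_cancel, hψ1])
  have hψid : ∀ x, ψ (cjB x) = ψ x ∨ ψ (cjB x) * ψ x = 1 := fun x => by
    have h1 : ψ (cjB x) + ψ (cjB x)⁻¹ = ψ x + ψ x⁻¹ := by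
      simp only [ψ, ← map_add]; congr 1; exact Subtype.ext (hid x)
    rw [hψinv, hψinv] at h1
    have h2 : (ψ (cjB x) - ψ x) * (ψ (cjB x) * ψ x - 1) = 0 := by
      have := hψ0 x; have := hψ0 (cjB x)
      field_simp at h1
      linear_combination h1
    rcases mul_eq_zero.mp h2 with h3 | h3
    · exact Or.inl (sub_eq_zero.mp h3)
    · exact Or.inr (sub_eq_zero.mp h3)
  have hcjm : ∀ x y, cjB (x * y) = cjB x * cjB y := fun x y => Subtype.ext (by simp [cjB])
  have hcji : ∀ x, cjB x⁻¹ = (cjB x)⁻¹ := fun x => Subtype.ext (by simp [cjB, mul_assoc])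
  -- one of the two alternatives holds throughout
  have hfixψ : ∀ x, ψ (cjB x) = ψ x := by
    by_contra! hne
    obtain ⟨x₀, hx₀⟩ := hne
    have hinvall : ∀ x, ψ (cjB x) * ψ x = 1 := by
      intro x
      rcases hψid x with h3 | h3
      · have h4 := (hψid x₀).resolve_left hx₀
        rcases hψid (x * x₀) with h5 | h5
        · rw [hcjm, hψm, hψm, h3] at h5
          exact absurd (mul_left_cancel₀ (hψ0 x) h5) hx₀
        · rw [hcjm, hψm, hψm, h3] at h5
          rw [h3]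
          linear_combination h5 - (ψ x * ψ x) * h4
      · exact h3
    have h2 : ∀ x, ψ (cjB (cjB x)) = ψ x := fun x => by
      have e1 := hinvall x
      have e2 := hinvall (cjB x)
      exact mul_right_cancel₀ (hψ0 (cjB x)) (e2.trans ((mul_comm _ _).trans e1).symm)
    have hit : ∀ (k : ℕ) x, ψ (cjB^[2 * k] x) = ψ x := by
      intro k
      induction k with
      | zero => simp
      | succ k ih =>
        intro x
        rw [show 2 * (k + 1) = 2 * k + 1 + 1 by ring, Function.iterate_succ_apply, Function.iterate_succ_apply, ih, h2]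
    have hiter : ∀ (k : ℕ) (x : B₀), ((cjB^[k] x : B₀) : X) = a ^ k * x * (a ^ k)⁻¹ := by
      intro k x
      induction k with
      | zero => simp
      | succ k ih =>
        rw [Function.iterate_succ_apply', pow_succ']
        show a * ((cjB^[k] x : B₀) : X) * a⁻¹ = _
        rw [ih]; group
    have h1 := hit ((r + 1) / 2) x₀
    rw [show 2 * ((r + 1) / 2) = r + 1 by omega] at h1
    refine hx₀ ?_
    rw [show cjB x₀ = cjB^[r + 1] x₀ from Subtype.ext (by rw [hiter, pow_succ, ha, one_mul])]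
    exact h1
  have hψtriv : ∀ x, ψ x = 1 := by
    intro x
    obtain ⟨d, hd, hdx⟩ := hsurj x x.2
    have e1 : g x = g ((⟨d, hd⟩ : B₀)⁻¹ * cjB ⟨d, hd⟩) := hgext _ _ fun z hz => Subtype.ext (by
      show op x (Rd.mkQ (π z t₀)) = op _ (Rd.mkQ (π z t₀))
      rw [hop, hop]
      exact congrArg _ (hdx _ (h.inv z hz _ hY)).symm)
    have e2 : ψ x = ψ ((⟨d, hd⟩ : B₀)⁻¹ * cjB ⟨d, hd⟩) := congrArg (Ideal.Quotient.mk m) (Subtype.ext e1)
    rw [e2, hψm, hψinv, hfixψ, inv_mul_cancel₀ (hψ0 _)]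
  letI : Fintype B₀ := Fintype.ofFinite B₀
  have hzero : ∑ b : B₀, G b = 0 := by
    refine Subtype.ext (hgext _ _ fun z hz => Subtype.ext ?_)
    simp only [AddSubmonoidClass.coe_finsetSum, ZeroMemClass.coe_zero, LinearMap.sum_apply,
      LinearMap.zero_apply, AddSubmonoidClass.coe_finsetSum]
    show ∑ b : B₀, op b (Rd.mkQ (π z t₀)) = 0
    simp only [hop, ← map_sum]
    have := sum_apply_mv (B := B₀) (apply_mem_mv (fun c hc => B₀.mul_mem (B₀.mul_mem hz hc) (inv_mem hz))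
      (fun y hy => h.inv z hz y hy) hty)
    rw [this, map_zero]
  have h0 := congrArg (Ideal.Quotient.mk m) hzero
  rw [map_sum, map_zero, Finset.sum_congr rfl fun b _ => hψtriv b, Finset.sum_const, Finset.card_univ,
    ← Nat.card_eq_fintype_card, nsmul_one] at h0
  have hinjq := (algebraMap (ZMod q) (A ⧸ m)).injective.ne hB₀q
  rw [map_natCast, map_zero] at hinjq
  exact hinjq h0

end Cfsg.Agent.TurullOne
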