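/-
The part of a module lying over a weight, cut down by a non-degenerate piece of the layer: the group
above the piece acts as a group of class two, semiregularly permuted by `a` and `t`.
-/
import Mathlib
import Cfsg.Agent.TurullOne.Bounds
import Cfsg.Agent.TurullOne.Good
import Cfsg.Agent.TurullOne.Ext

set_option autoImplicit false
set_option linter.style.haveILetI false
set_option linter.unusedSectionVars false

namespace Cfsg.Agent.TurullOne

open Module Finset TensorProduct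

universe v

variable {X : Type*} [Group X] [Finite X] {p q : ℕ} [Fact p.Prime] [Fact q.Prime]
variable {V : Type v} [AddCommGroup V] [Module (ZMod p) V] [FiniteDimensional (ZMod p) V]
variable {M : Type v} [AddCommGroup M] [Module (ZMod q) M] [FiniteDimensional (ZMod q) M]
variable {ρ : X →* Module.End (ZMod p) V} {π : X →* Module.End (ZMod q) M} {E D S : Subgroup X} {mk : X → M}

/-- A weight of the centre with its form and a central element of value `ζ`. -/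
structure Kap (ρ : X →* Module.End (ZMod p) V) (E D : Subgroup X) (mk : X → M) (L : Type v) [Field L] where
  W : Weight ρ D L
  β : M →ₗ[ZMod q] M →ₗ[ZMod q] ZMod q
  ζ : L
  hζ : IsPrimitiveRoot ζ q
  hβ : ∀ e ∈ E, ∀ f ∈ E, Pair.pc W e f = ζ ^ (β (mk e) (mk f)).val
  c₀ : X
  c₀_mem : c₀ ∈ D
  ev_c₀ : W.ev c₀ = ζ

variable {L : Type v} [Field L]

namespace Kap

theorem nonempty_of_pc (P : Pair ρ π E D S mk) (W : Weight ρ D L) {e f : X} (he : e ∈ E) (hf : f ∈ E)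
    (h : Pair.pc W e f ≠ 1) : ∃ K : Kap ρ E D mk L (q := q), K.W = W ∧ K.β (mk e) (mk f) ≠ 0 := by
  obtain ⟨β, ζ, hζ, hβ⟩ := P.exists_form W he hf h
  have hne : β (mk e) (mk f) ≠ 0 := fun h0 => h (by rw [hβ e he f hf, h0]; simp)
  obtain ⟨e', he', hmk⟩ := P.mk_surj ((β (mk e) (mk f))⁻¹ • mk e)
  refine ⟨⟨W, β, ζ, hζ, hβ, e' * f * e'⁻¹ * f⁻¹, P.comm_mem he' hf, ?_⟩, rfl, hne⟩
  show Pair.pc W e' f = ζ
  rw [hβ e' he' f hf, hmk, map_smul, LinearMap.smul_apply, smul_eq_mul, inv_mul_cancel₀ hne, ZMod.val_one, pow_one]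

/-- The space of the weight moved by the central element. -/
def Y (K : Kap ρ E D mk L (q := q)) : Submodule (ZMod p) V :=
  K.W.space ⊓ LinearMap.ker (∑ i ∈ range q, ρ (K.c₀ ^ i))

variable (K : Kap ρ E D mk L (q := q))

theorem c₀_pow : K.c₀ ^ q ∈ K.W.ker :=
  ⟨D.pow_mem K.c₀_mem q, by rw [K.W.ev_pow K.c₀_mem, K.ev_c₀, K.hζ.pow_eq_one]⟩

theorem q_ne (P : Pair ρ π E D S mk) : (q : ZMod p) ≠ 0 := fun h => P.ne (by
  rw [ZMod.natCast_eq_zero_iff] at h
  exact (Nat.prime_dvd_prime_iff_eq Fact.out Fact.out).mp h)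

theorem sum_eq_zero {y : V} (hy : y ∈ K.Y) : ∑ i ∈ range q, ρ (K.c₀ ^ i) y = 0 := by
  simpa [LinearMap.sum_apply] using LinearMap.mem_ker.mp hy.2

theorem Y_ne_bot (P : Pair ρ π E D S mk) : ∃ y ∈ K.Y, y ≠ 0 := by
  let A := Algebra.adjoin (ZMod p) (ρ '' (D : Set X))
  have hm : ρ K.c₀ - 1 ∈ A := sub_mem (Weight.mem _ K.c₀_mem) (one_mem _)
  obtain ⟨v, hv, hne⟩ := K.W.exists_apply_ne P hm (by
    rw [show (⟨ρ K.c₀ - 1, hm⟩ : A) = ⟨ρ K.c₀, Weight.mem _ K.c₀_mem⟩ - 1 from rfl, map_sub, map_one,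
      ← K.W.ev_eq K.c₀_mem, K.ev_c₀, sub_ne_zero]
    exact K.hζ.ne_one (Fact.out : q.Prime).one_lt)
  refine ⟨(ρ K.c₀ - 1) v, ⟨?_, ?_⟩, hne⟩
  · refine Weight.mem_space.mpr fun d hd => ?_
    simp only [LinearMap.sub_apply, Module.End.one_apply, map_sub]
    rw [← apply_mul, P.D_central d hd.1 _ (P.D_le K.c₀_mem), apply_mul, Weight.mem_space.mp hv d hd]
  · rw [SetLike.mem_coe, LinearMap.mem_ker, LinearMap.sum_apply]
    simp only [LinearMap.sub_apply, Module.End.one_apply, map_sub, Finset.sum_sub_distrib, ← apply_mul, ← pow_succ]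
    rw [← Finset.sum_sub_distrib, Finset.sum_range_sub (fun i => ρ (K.c₀ ^ i) v), pow_zero, map_one,
      Module.End.one_apply, Weight.mem_space.mp hv _ K.c₀_pow, sub_self]

/-- An element of `D` of non-trivial value acts on the space like a power of the central one. -/
theorem apply_eq_pow {d : X} (hd : d ∈ D) {i : ℕ} (h : K.W.ev d = K.ζ ^ i) {y : V} (hy : y ∈ K.Y) :
    ρ d y = ρ (K.c₀ ^ i) y := by
  have hk : (K.c₀ ^ i)⁻¹ * d ∈ K.W.ker := by
    refine ⟨D.mul_mem (inv_mem (D.pow_mem K.c₀_mem i)) hd, ?_⟩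
    have h1 := K.W.ev_mul (inv_mem (D.pow_mem K.c₀_mem i)) (D.pow_mem K.c₀_mem i)
    rw [inv_mul_cancel, K.W.ev_one, K.W.ev_pow K.c₀_mem, K.ev_c₀] at h1
    rw [K.W.ev_mul (inv_mem (D.pow_mem K.c₀_mem i)) hd, h, ← h1]
  conv_rhs => rw [← Weight.mem_space.mp hy.1 _ hk]
  rw [← apply_mul]; congr 2; group

theorem fixes (P : Pair ρ π E D S mk) {d : X} (hd : d ∈ D) (hne : K.W.ev d ≠ 1) {y : V} (hy : y ∈ K.Y)
    (hfix : ρ d y = y) : y = 0 := by
  have hq : q.Prime := Fact.out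
  obtain ⟨m, hm⟩ := P.isPGroup ⟨d, P.D_le hd⟩
  have hdm : d ^ q ^ m = 1 := by simpa using congrArg Subtype.val hm
  classical
  have hex : ∃ i, K.W.ev d ^ q ^ i = 1 := ⟨m, by rw [← K.W.ev_pow hd, hdm, K.W.ev_one]⟩
  obtain ⟨i, hi⟩ : ∃ i, Nat.find hex = i + 1 := by
    refine ⟨Nat.find hex - 1, ?_⟩
    have : Nat.find hex ≠ 0 := fun h0 => hne (by have := Nat.find_spec hex; rwa [h0, pow_zero, pow_one] at this)
    omega
  set x := K.W.ev d ^ q ^ i with hx
  have hx1 : x ≠ 1 := Nat.find_min hex (m := i) (by omega)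
  have hxq : x ^ q = 1 := by rw [hx, ← pow_mul, ← pow_succ, ← hi]; exact Nat.find_spec hex
  have hxp : IsPrimitiveRoot x q := by
    have := IsPrimitiveRoot.orderOf x
    rwa [orderOf_eq_prime hxq hx1] at this
  obtain ⟨l, -, hl⟩ := hxp.eq_pow_of_pow_eq_one K.hζ.pow_eq_one
  have hev : K.W.ev (d ^ (q ^ i * l)) = K.ζ ^ 1 := by rw [K.W.ev_pow hd, pow_mul, ← hx, hl, pow_one]
  have h1 : ρ K.c₀ y = y := by
    rw [← pow_one K.c₀, ← K.apply_eq_pow (D.pow_mem hd _) hev hy]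
    exact pow_apply_eq hfix _
  have h2 := K.sum_eq_zero hy
  rw [Finset.sum_congr rfl fun j _ => pow_apply_eq h1 j, Finset.sum_const, Finset.card_range,
    ← Nat.cast_smul_eq_nsmul (ZMod p)] at h2
  exact (smul_eq_zero.mp h2).resolve_left (q_ne P)

theorem ker_fix {d : X} (hd : d ∈ K.W.ker) {y : V} (hy : y ∈ K.Y) : ρ d y = y := Weight.mem_space.mp hy.1 d hd

/-- An element fixing the weight leaves the space invariant. -/
theorem invY (P : Pair ρ π E D S mk) {x : X} (hx : ∀ d ∈ D, K.W.ev (x * d * x⁻¹) = K.W.ev d) :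
    ∀ y ∈ K.Y, ρ x y ∈ K.Y := by
  intro y hy
  have hxi : ∀ d ∈ D, x⁻¹ * d * x ∈ D ∧ K.W.ev (x⁻¹ * d * x) = K.W.ev d := fun d hd => by
    have hm : x⁻¹ * d * x ∈ D := by simpa using P.norm_D x⁻¹ d hd
    exact ⟨hm, by rw [← hx _ hm, show x * (x⁻¹ * d * x) * x⁻¹ = d by group]⟩
  have hsw : ∀ d, ρ d (ρ x y) = ρ x (ρ (x⁻¹ * d * x) y) := fun d => by
    rw [← apply_mul, ← apply_mul]; congr 2; group
  refine ⟨Weight.mem_space.mpr fun d hd => ?_, ?_⟩
  · rw [hsw, K.ker_fix ⟨(hxi d hd.1).1, by rw [(hxi d hd.1).2]; exact hd.2⟩ hy]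
  · rw [SetLike.mem_coe, LinearMap.mem_ker, LinearMap.sum_apply, Finset.sum_congr rfl fun i _ => hsw (K.c₀ ^ i),
      ← map_sum, Finset.sum_congr rfl fun i _ => K.apply_eq_pow (hxi _ (D.pow_mem K.c₀_mem i)).1
        (show K.W.ev (x⁻¹ * K.c₀ ^ i * x) = K.ζ ^ i by
          rw [(hxi _ (D.pow_mem K.c₀_mem i)).2, K.W.ev_pow K.c₀_mem, K.ev_c₀]) hy,
      K.sum_eq_zero hy, map_zero]

theorem invY_E (P : Pair ρ π E D S mk) {e : X} (he : e ∈ E) : ∀ y ∈ K.Y, ρ e y ∈ K.Y :=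
  K.invY P fun d hd => K.W.ev_congr (P.norm_D e d hd) hd (by
    rw [map_mul, map_mul, ← P.D_comm hd he, mul_assoc, ← map_mul, mul_inv_cancel, map_one, mul_one])

theorem alt (P : Pair ρ π E D S mk) (m : M) : K.β m m = 0 := P.form_alt K.W K.β K.hζ K.hβ m

theorem skew (P : Pair ρ π E D S mk) (u w : M) : K.β u w = - K.β w u := by
  have h0 := K.alt P (u + w)
  simp only [map_add, LinearMap.add_apply, K.alt P, add_zero, zero_add] at h0
  exact eq_neg_of_add_eq_zero_right h0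

theorem pc_eq_one_iff {e f : X} (he : e ∈ E) (hf : f ∈ E) : Pair.pc K.W e f = 1 ↔ K.β (mk e) (mk f) = 0 := by
  rw [K.hβ e he f hf, K.hζ.pow_eq_one_iff_dvd]
  constructor
  · intro h; exact (ZMod.val_eq_zero _).mp (Nat.eq_zero_of_dvd_of_lt h (ZMod.val_lt _))
  · intro h; simp [h]

theorem comm_of_orth (P : Pair ρ π E D S mk) {e f : X} (he : e ∈ E) (hf : f ∈ E)
    (h : K.β (mk e) (mk f) = 0) {y : V} (hy : y ∈ K.Y) : ρ (e * f) y = ρ (f * e) y := by
  rw [show e * f = (e * f * e⁻¹ * f⁻¹) * (f * e) by group, apply_mul]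
  exact K.ker_fix ⟨P.comm_mem he hf, (K.pc_eq_one_iff he hf).mpr h⟩ (K.invY_E P (E.mul_mem hf he) y hy)

end Kap

/-- A non-degenerate subspace on which `a` has no fixed points. -/
structure Piece (π : X →* Module.End (ZMod q) M) (K : Kap ρ E D mk L (q := q)) (a : X) (U : Submodule (ZMod q) M) :
    Prop where
  ainv : ∀ m ∈ U, π a m ∈ U
  afpf : ∀ m ∈ U, π a m = m → m = 0
  nondeg : ∀ u ∈ U, (∀ w ∈ U, K.β u w = 0) → u = 0
  ne_bot : ∃ u ∈ U, u ≠ 0

/-- An element of `o`-power order acting semiregularly on the piece with `o`-th power trivial there. -/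
structure PieceOp (π : X →* Module.End (ZMod q) M) (ρ : X →* Module.End (ZMod p) V) (D : Subgroup X) (a t : X) (o : ℕ)
    (U : Submodule (ZMod q) M) : Prop where
  ho : o.Prime
  oq : o ≠ q
  ord : ∃ m : ℕ, t ^ o ^ m = 1
  comm : a * t = t * a
  inv : ∀ m ∈ U, π t m ∈ U
  fpf : ∀ m ∈ U, π t m = m → m = 0
  pow_fix : ∀ m ∈ U, π (t ^ o) m = m
  D_fix : ∀ d ∈ D, ρ (t * d) = ρ (d * t)

theorem Pair.card_eq_relIndex (P : Pair ρ π E D S mk) (U : Submodule (ZMod q) M) :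
    Nat.card U = D.relIndex (P.preimage U) := by
  let f : P.preimage U →* Multiplicative U :=
    { toFun := fun e => Multiplicative.ofAdd ⟨mk e, e.2.2⟩
      map_one' := by
        refine congrArg Multiplicative.ofAdd (Subtype.ext ?_)
        exact P.mk_one
      map_mul' := fun e e' => by
        rw [← ofAdd_add]
        refine congrArg Multiplicative.ofAdd (Subtype.ext ?_)
        exact P.mk_mul _ e.2.1 _ e'.2.1 }
  have hsurj : Function.Surjective f := fun m => by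
    obtain ⟨e, he, hem⟩ := P.mk_surj ((Multiplicative.toAdd m : U) : M)
    exact ⟨⟨e, he, by rw [hem]; exact Submodule.coe_mem _⟩, Multiplicative.toAdd.injective (Subtype.ext hem)⟩
  have hker : f.ker = D.subgroupOf (P.preimage U) := by
    ext e
    rw [MonoidHom.mem_ker, Subgroup.mem_subgroupOf, ← P.mk_eq_zero _ e.2.1]
    exact ⟨fun h => congrArg (fun z : Multiplicative U => ((Multiplicative.toAdd z : U) : M)) h,
      fun h => Multiplicative.toAdd.injective (Subtype.ext h)⟩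
  rw [Subgroup.relIndex, ← hker, Subgroup.index,
    Nat.card_congr (QuotientGroup.quotientKerEquivOfSurjective f hsurj).toEquiv]
  exact (Nat.card_congr Multiplicative.toAdd).symm

section Rep

variable {k : Type*} [Field k] [Algebra (ZMod p) k] [IsAlgClosed k] {a : X} {r : ℕ}
variable {U : Submodule (ZMod q) M}

/-- A subspace over the larger field on which the group above a piece and `a` act irreducibly. -/
structure IrredPiece (P : Pair ρ π E D S mk) (K : Kap ρ E D mk L (q := q)) (a : X) (U : Submodule (ZMod q) M)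
    (W0 : Submodule k (k ⊗[ZMod p] V)) : Prop where
  le : W0 ≤ bcSub k K.Y
  ne_bot : W0 ≠ ⊥
  Einv : ∀ e ∈ P.preimage U, ∀ w ∈ W0, ext k ρ e w ∈ W0
  ainv : ∀ w ∈ W0, ext k ρ a w ∈ W0

theorem IrredPiece.mem {P : Pair ρ π E D S mk} {K : Kap ρ E D mk L (q := q)} {W0 : Submodule k (k ⊗[ZMod p] V)}
    (h : IrredPiece P K a U W0) {e : X} (he : e ∈ P.preimage U) : e ∈ stab (ext k ρ) W0 := h.Einv e he

theorem IrredPiece.mema {P : Pair ρ π E D S mk} {K : Kap ρ E D mk L (q := q)} {W0 : Submodule k (k ⊗[ZMod p] V)}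
    (h : IrredPiece P K a U W0) : a ∈ stab (ext k ρ) W0 := h.ainv

theorem natCast_ne_zero_of_le (P : Pair ρ π E D S mk) {H : Subgroup X} (hH : H ≤ E) :
    (Nat.card H : k) ≠ 0 := by
  rw [← map_natCast (algebraMap (ZMod p) k)]
  exact (map_ne_zero _).mpr (Weight.card_ne_zero P hH)

theorem IrredPiece.heis {P : Pair ρ π E D S mk} {K : Kap ρ E D mk L (q := q)} (hU : Piece π K a U)
    (ha : ∀ d ∈ D, ρ (a * d * a⁻¹) = ρ d) {W0 : Submodule k (k ⊗[ZMod p] V)} (h : IrredPiece P K a U W0)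
    {g : X} (hg : g ∈ stab (ext k ρ) W0) (hgD : ∀ d ∈ D, ρ (g * d) = ρ (d * g))
    (hirr : ∀ Z ≤ W0, (∀ e ∈ P.preimage U, ∀ w ∈ Z, ext k ρ e w ∈ Z) → (∀ w ∈ Z, ext k ρ g w ∈ Z) → Z = ⊥ ∨ Z = W0) :
    HeisRep (W := W0) (resRep (ext k ρ) W0) ((P.preimage U).subgroupOf (stab (ext k ρ) W0)) (D.subgroupOf (stab (ext k ρ) W0)) := by
  haveI : Nontrivial W0 := Submodule.nontrivial_iff_ne_bot.mpr h.ne_bot
  have hD : D ≤ P.preimage U := fun d hd => ⟨P.D_le hd, by rw [(P.mk_eq_zero d (P.D_le hd)).mpr hd]; exact zero_mem _⟩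
  refine ⟨Subgroup.comap_mono hD, fun z hz => ?_, fun x hx y hy => P.comm_mem hx.1 hy.1, fun w hw hwD => ?_⟩
  · set f := resRep (ext k ρ) W0 z with hf
    obtain ⟨c, hc⟩ := Module.End.exists_eigenvalue (V := W0) f
    refine ⟨c, ?_⟩
    obtain ⟨v, hv⟩ := hc.exists_hasEigenvector
    set Z : Submodule k (k ⊗[ZMod p] V) :=
      W0 ⊓ LinearMap.ker (ext k ρ (z : X) - c • (1 : Module.End k (k ⊗[ZMod p] V))) with hZ
    have hmem : ∀ w, w ∈ Z ↔ w ∈ W0 ∧ ext k ρ (z : X) w = c • w := fun w => by simp [hZ, sub_eq_zero]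
    have hcomm : ∀ x : X, (∀ w ∈ W0, ext k ρ x w ∈ W0) → ρ x * ρ (z : X) = ρ (z : X) * ρ x →
        ∀ w ∈ Z, ext k ρ x w ∈ Z := by
      intro x hx hxz w hw
      obtain ⟨hw0, hw'⟩ := (hmem w).mp hw
      refine (hmem _).mpr ⟨hx w hw0, ?_⟩
      rw [← apply_mul, show ext k ρ ((z : X) * x) = ext k ρ (x * z) by
        rw [ext_apply, ext_apply, map_mul, map_mul, hxz], apply_mul, hw', map_smul]
    have hzD : (z : X) ∈ D := hz
    rcases hirr Z inf_le_left (fun e he => hcomm e (h.Einv e he) (P.D_comm hzD he.1).symm)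
      (hcomm g hg (by rw [← map_mul, hgD _ hzD, map_mul])) with hb | ht
    · exfalso
      refine hv.2 (Subtype.ext ?_)
      have : (v : k ⊗[ZMod p] V) ∈ Z := (hmem _).mpr ⟨v.2, congrArg Subtype.val hv.apply_eq_smul⟩
      rw [hb, Submodule.mem_bot] at this
      exact this
    · refine LinearMap.ext fun w => Subtype.ext ?_
      exact ((hmem _).mp (ht.ge w.2)).2
  · obtain ⟨hwE, hwU⟩ := hw
    have hne : mk (w : X) ≠ 0 := fun h0 => hwD ((P.mk_eq_zero _ hwE).mp h0)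
    obtain ⟨u, hu, hu0⟩ : ∃ u ∈ U, K.β u (mk (w : X)) ≠ 0 := by
      by_contra! hcon
      exact hne (hU.nondeg _ hwU fun u hu => by rw [K.skew P, hcon u hu, neg_zero])
    obtain ⟨f, hf, rfl⟩ := P.mk_surj u
    refine ⟨⟨f, h.mem ⟨hf, hu⟩⟩, ⟨hf, hu⟩, fun h1 => ?_⟩
    set c := f * (w : X) * f⁻¹ * (w : X)⁻¹ with hc
    have hcD : c ∈ D := P.comm_mem hf hwE
    set i := (K.β (mk f) (mk (w : X))).val with hi
    have hev : K.W.ev c = K.ζ ^ i := K.hβ f hf _ hwE
    obtain ⟨v, hv⟩ := exists_ne (0 : W0)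
    have e1 : ∀ x : k ⊗[ZMod p] V, x ∈ W0 → ext k ρ c x = x := fun x hx => by
      have := congrArg (fun φ : Module.End k W0 => ((φ ⟨x, hx⟩ : W0) : k ⊗[ZMod p] V)) h1
      simpa [resRep_apply, hc] using this
    have e2 : ∀ x ∈ bcSub k K.Y, ext k ρ c x = ext k ρ (K.c₀ ^ i) x := fun x hx => by
      rw [ext_apply, ext_apply]
      exact baseChange_eq_on (fun y hy => K.apply_eq_pow hcD hev hy) hx
    have hi0 : ¬ q ∣ i := fun hd => hu0 ((ZMod.val_eq_zero _).mp (Nat.eq_zero_of_dvd_of_lt hd (ZMod.val_lt _)))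
    obtain ⟨l, hl⟩ := exists_mul_mod_eq_one (Fact.out : q.Prime) hi0
    have hq1 : ext k ρ (K.c₀ ^ q) (v : k ⊗[ZMod p] V) = v := by
      have := baseChange_eq_on (k := k) (f := ρ (K.c₀ ^ q)) (g := 1) (Y := K.Y)
        (fun y hy => K.ker_fix K.c₀_pow hy) (h.le v.2)
      rw [ext_apply, this, LinearMap.baseChange_one]
      rfl
    have h3 : ext k ρ (K.c₀ ^ i) (v : k ⊗[ZMod p] V) = v := by rw [← e2 _ (h.le v.2), e1 _ v.2]
    have h4 : ext k ρ K.c₀ (v : k ⊗[ZMod p] V) = v := by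
      have h5 := pow_apply_eq h3 l
      rwa [← pow_mul, ← Nat.div_add_mod (i * l) q, hl, pow_add, apply_mul, pow_one, pow_mul,
        show ext k ρ ((K.c₀ ^ q) ^ (i * l / q)) (ext k ρ K.c₀ (v : k ⊗[ZMod p] V))
          = ext k ρ K.c₀ (ext k ρ ((K.c₀ ^ q) ^ (i * l / q)) (v : k ⊗[ZMod p] V)) by
          rw [← apply_mul, ← apply_mul, ← pow_mul, ← pow_succ, ← pow_succ'],
        pow_apply_eq hq1] at h5
    have h6 : (∑ j ∈ range q, ρ (K.c₀ ^ j)).baseChange k (v : k ⊗[ZMod p] V) = 0 := by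
      have := baseChange_eq_on (k := k) (f := ∑ j ∈ range q, ρ (K.c₀ ^ j)) (g := 0) (Y := K.Y)
        (fun y hy => by rw [LinearMap.sum_apply, K.sum_eq_zero hy, LinearMap.zero_apply]) (h.le v.2)
      rw [this, LinearMap.baseChange_zero, LinearMap.zero_apply]
    have h7 : ∑ j ∈ range q, ext k ρ (K.c₀ ^ j) (v : k ⊗[ZMod p] V) = 0 := by
      have e : (∑ j ∈ range q, ρ (K.c₀ ^ j)).baseChange k = ∑ j ∈ range q, ext k ρ (K.c₀ ^ j) :=
        map_sum (Module.End.baseChangeHom (ZMod p) k V) _ _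
      rw [← h6, e, LinearMap.sum_apply]
    rw [Finset.sum_congr rfl fun j _ => pow_apply_eq h4 j, Finset.sum_const, Finset.card_range,
      ← Nat.cast_smul_eq_nsmul k, ← map_natCast (algebraMap (ZMod p) k)] at h7
    exact hv (Subtype.ext ((smul_eq_zero.mp h7).resolve_left ((map_ne_zero _).mpr (Kap.q_ne P))))

/-- Irreducible under the group above the piece and an operator, hence under the group alone. -/
theorem IrredPiece.irreducible {P : Pair ρ π E D S mk} {K : Kap ρ E D mk L (q := q)} (hU : Piece π K a U)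
    (ha : ∀ d ∈ D, ρ (a * d * a⁻¹) = ρ d) {W0 : Submodule k (k ⊗[ZMod p] V)} (h : IrredPiece P K a U W0)
    {g : X} (hg : g ∈ stab (ext k ρ) W0) (hgD : ∀ d ∈ D, ρ (g * d) = ρ (d * g))
    (hgU : ∀ m ∈ U, π g m ∈ U)
    (hirr : ∀ Z ≤ W0, (∀ e ∈ P.preimage U, ∀ w ∈ Z, ext k ρ e w ∈ Z) → (∀ w ∈ Z, ext k ρ g w ∈ Z) → Z = ⊥ ∨ Z = W0) :
    HeisRep (W := W0) (resRep (ext k ρ) W0) ((P.preimage U).subgroupOf (stab (ext k ρ) W0)) (D.subgroupOf (stab (ext k ρ) W0)) ∧
    ∀ Z : Submodule k W0, (∀ x ∈ (P.preimage U).subgroupOf (stab (ext k ρ) W0), ∀ w ∈ Z,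
      resRep (ext k ρ) W0 x w ∈ Z) → Z = ⊥ ∨ Z = ⊤ := by
  haveI : Nontrivial W0 := Submodule.nontrivial_iff_ne_bot.mpr h.ne_bot
  have H := h.heis hU ha hg hgD hirr
  refine ⟨H, H.irreducible_restrict ?_ ⟨g, hg⟩ (fun e he => ?_) (fun d hd => P.norm_D g _ hd) (fun d hd => ?_) ?_⟩
  · intro h0
    refine natCast_ne_zero_of_le (k := k) P (P.preimage_le U) ?_
    rwa [← Nat.card_congr (Subgroup.subgroupOfEquivOfLe fun e he => h.mem he).toEquiv]
  · exact ⟨P.norm_E g (e : X) he.1, by show mk (g * (e : X) * g⁻¹) ∈ U; rw [P.mk_conj g (e : X) he.1]; exact hgU _ he.2⟩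
  · refine LinearMap.ext fun w => Subtype.ext ?_
    rw [resRep_apply, resRep_apply, ext_apply, ext_apply]
    congr 2
    show ρ (g * (d : X) * g⁻¹) = ρ (d : X)
    rw [map_mul, hgD (d : X) hd, ← map_mul, mul_inv_cancel_right]
  · intro Z hZ hZg
    have key := hirr (Z.map W0.subtype) (by rintro _ ⟨w, -, rfl⟩; exact w.2)
      (by rintro e he _ ⟨w, hw, rfl⟩; exact ⟨_, hZ ⟨e, h.mem he⟩ he w hw, rfl⟩)
      (by rintro _ ⟨w, hw, rfl⟩; exact ⟨_, hZg w hw, rfl⟩)
    rcases key with hb | ht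
    · exact Or.inl (Submodule.map_injective_of_injective W0.injective_subtype (hb.trans (Submodule.map_bot _).symm))
    · exact Or.inr (Submodule.map_injective_of_injective W0.injective_subtype (ht.trans (Submodule.map_subtype_top W0).symm))

/-- The count for `a`. -/
theorem IrredPiece.count {P : Pair ρ π E D S mk} {K : Kap ρ E D mk L (q := q)} (hU : Piece π K a U)
    (ha : ∀ d ∈ D, ρ (a * d * a⁻¹) = ρ d) (hr : r.Prime) (har : a ^ r = 1) (hrk : (r : k) ≠ 0)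
    {W0 : Submodule k (k ⊗[ZMod p] V)} (h : IrredPiece P K a U W0)
    (hirr : ∀ Z : Submodule k W0, (∀ x ∈ (P.preimage U).subgroupOf (stab (ext k ρ) W0), ∀ w ∈ Z,
      resRep (ext k ρ) W0 x w ∈ Z) → Z = ⊥ ∨ Z = ⊤)
    (H : HeisRep (W := W0) (resRep (ext k ρ) W0) ((P.preimage U).subgroupOf (stab (ext k ρ) W0))
      (D.subgroupOf (stab (ext k ρ) W0))) :
    CountResult (W := W0) (resRep (ext k ρ) W0) ((P.preimage U).subgroupOf (stab (ext k ρ) W0))
        (D.subgroupOf (stab (ext k ρ) W0)) (resRep (ext k ρ) W0 ⟨a, h.mema⟩) r ∧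
      finrank k W0 ^ 2 = Nat.card U := by
  haveI : Nontrivial W0 := Submodule.nontrivial_iff_ne_bot.mpr h.ne_bot
  have hEk : (Nat.card ((P.preimage U).subgroupOf (stab (ext k ρ) W0)) : k) ≠ 0 := by
    rw [Nat.card_congr (Subgroup.subgroupOfEquivOfLe fun e he => h.mem he).toEquiv]
    exact natCast_ne_zero_of_le P (P.preimage_le U)
  have hne : ¬ (P.preimage U).subgroupOf (stab (ext k ρ) W0) ≤ D.subgroupOf (stab (ext k ρ) W0) := by
    intro hle
    obtain ⟨u, hu, hu0⟩ := hU.ne_bot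
    obtain ⟨e, he, rfl⟩ := P.mk_surj u
    exact hu0 ((P.mk_eq_zero e he).mpr (hle (x := ⟨e, h.mem ⟨he, hu⟩⟩) ⟨he, hu⟩))
  have hres := H.count hEk ⟨a, h.mema⟩
    (fun e he => ⟨P.norm_E a (e : X) he.1, by show mk (a * (e : X) * a⁻¹) ∈ U; rw [P.mk_conj a (e : X) he.1]; exact hU.ainv _ he.2⟩)
    (fun d hd => P.norm_D a _ hd) hr.one_lt hrk (resRep (ext k ρ) W0 ⟨a, h.mema⟩)
    (by rw [← map_pow, show (⟨a, h.mema⟩ : stab (ext k ρ) W0) ^ r = 1 from Subtype.ext (by simpa using har), map_one])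
    (fun x _ => by rw [← map_mul, ← map_mul]; congr 1; group)
    (fun i hi hir x hx hm => by
      have hπ : π (a ^ i) (mk (x : X)) = mk (x : X) := by
        have hc : a ^ i * (x : X) * (a ^ i)⁻¹ ∈ E := P.norm_E _ _ hx.1
        have hxE : (x : X) ∈ E := hx.1
        have h0 := (P.mk_eq_zero _ (E.mul_mem (inv_mem hxE) hc)).mpr
          (show (x : X)⁻¹ * (a ^ i * (x : X) * (a ^ i)⁻¹) ∈ D from hm)
        rw [P.mk_mul _ (inv_mem (show (x : X) ∈ E from hx.1)) _ hc, P.mk_inv (show (x : X) ∈ E from hx.1),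
          P.mk_conj _ _ (show (x : X) ∈ E from hx.1), neg_add_eq_zero] at h0
        exact h0.symm
      obtain ⟨l, hl⟩ := mem_powers_of_not_dvd hr har (i := i) (fun hd => by
        have := Nat.le_of_dvd hi hd; omega)
      have := pow_apply_eq hπ l
      rw [hl] at this
      exact (P.mk_eq_zero _ hx.1).mp (hU.afpf _ hx.2 this))
    (fun Z hZ _ => hirr Z hZ) hne
  refine ⟨hres, ?_⟩
  rw [hres.sq_dim, Subgroup.relIndex_subgroupOf (fun e he => h.mem he), P.card_eq_relIndex]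

/-- The two operators on the piece. -/
theorem IrredPiece.duo {P : Pair ρ π E D S mk} {K : Kap ρ E D mk L (q := q)} (hU : Piece π K a U)
    (ha : ∀ d ∈ D, ρ (a * d * a⁻¹) = ρ d) (hr : r.Prime) (har : a ^ r = 1) (hrk : (r : k) ≠ 0)
    {t : X} {o : ℕ} (hro : r ≠ o) (ht : PieceOp π ρ D a t o U)
    {W0 : Submodule k (k ⊗[ZMod p] V)} (h : IrredPiece P K a U W0) (htW : ∀ w ∈ W0, ext k ρ t w ∈ W0)
    (hirr : ∀ Z ≤ W0, (∀ e ∈ P.preimage U, ∀ w ∈ Z, ext k ρ e w ∈ Z) → (∀ w ∈ Z, ext k ρ a w ∈ Z) →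
      (∀ w ∈ Z, ext k ρ t w ∈ Z) → Z = ⊥ ∨ Z = W0) :
    Duo (W := W0) (resRep (ext k ρ) W0) ((P.preimage U).subgroupOf (stab (ext k ρ) W0))
      (D.subgroupOf (stab (ext k ρ) W0)) ⟨a, h.mema⟩ ⟨t, (show t ∈ stab (ext k ρ) W0 from htW)⟩ r o := by
  haveI : Nontrivial W0 := Submodule.nontrivial_iff_ne_bot.mpr h.ne_bot
  obtain ⟨m, hm⟩ := ht.ord
  have hgW : a * t ∈ stab (ext k ρ) W0 := Subgroup.mul_mem _ h.ainv htW
  have hgD : ∀ d ∈ D, ρ (a * t * d) = ρ (d * (a * t)) := fun d hd => by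
    have had : ρ a * ρ d = ρ d * ρ a := by
      rw [← map_mul, ← map_mul, show a * d = a * d * a⁻¹ * a by group, map_mul, ha d hd, ← map_mul]
    rw [map_mul, map_mul, map_mul, map_mul, mul_assoc, ← map_mul ρ t d, ht.D_fix d hd, map_mul, ← mul_assoc, had,
      mul_assoc]
  have hirr' : ∀ Z ≤ W0, (∀ e ∈ P.preimage U, ∀ w ∈ Z, ext k ρ e w ∈ Z) →
      (∀ w ∈ Z, ext k ρ (a * t) w ∈ Z) → Z = ⊥ ∨ Z = W0 := by
    intro Z hZ hZE hZg
    have hg' : a * t ∈ stab (ext k ρ) Z := hZg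
    obtain ⟨l, hl⟩ := mem_powers_of_not_dvd hr har (i := o ^ m) (fun hd =>
      hro ((Nat.prime_dvd_prime_iff_eq hr ht.ho).mp (hr.dvd_of_dvd_pow hd)))
    have haZ : a ∈ stab (ext k ρ) Z := by
      have := Subgroup.pow_mem _ (Subgroup.pow_mem _ hg' (o ^ m)) l
      rwa [Commute.mul_pow ht.comm, hm, mul_one, hl] at this
    have htZ : t ∈ stab (ext k ρ) Z := by
      have := Subgroup.mul_mem _ (inv_mem haZ) hg'
      rwa [inv_mul_cancel_left] at this
    exact hirr Z hZ hZE haZ htZ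
  obtain ⟨H, hI⟩ := h.irreducible hU ha hgW hgD (fun u hu => by
    rw [apply_mul]; exact hU.ainv _ (ht.inv _ hu)) hirr'
  have hmk : ∀ (x : X) {e : X}, e ∈ E → e⁻¹ * (x * e * x⁻¹) ∈ D → π x (mk e) = mk e := fun x e he hd => by
    have hc := P.norm_E x e he
    have h0 := (P.mk_eq_zero _ (E.mul_mem (inv_mem he) hc)).mpr hd
    rw [P.mk_mul _ (inv_mem he) _ hc, P.mk_inv he, P.mk_conj x e he, neg_add_eq_zero] at h0
    exact h0.symm
  refine
    { heis := H
      hEk := ?_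
      hirr := hI
      proper := ?_
      hr := hr
      ho := ht.ho
      hne := hro
      hrk := hrk
      ha := Subtype.ext (by simpa using har)
      hcomm := Subtype.ext ht.comm
      aE := fun e he => ⟨P.norm_E a (e : X) he.1, by show mk (a * (e : X) * a⁻¹) ∈ U; rw [P.mk_conj a (e : X) he.1]; exact hU.ainv _ he.2⟩
      aR := fun d hd => P.norm_D a _ hd
      sE := fun e he => ⟨P.norm_E t (e : X) he.1, by show mk (t * (e : X) * t⁻¹) ∈ U; rw [P.mk_conj t (e : X) he.1]; exact ht.inv _ he.2⟩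
      sR := fun d hd => P.norm_D t _ hd
      hso := ?_
      ord := ⟨m, Subtype.ext (by simpa using hm)⟩
      semi_a := fun x hx hd => (P.mk_eq_zero _ hx.1).mp (hU.afpf _ hx.2 (hmk a hx.1 hd))
      semi_s := fun x hx hd => (P.mk_eq_zero _ hx.1).mp (ht.fpf _ hx.2 (hmk t hx.1 hd)) }
  · rw [Nat.card_congr (Subgroup.subgroupOfEquivOfLe fun e he => h.mem he).toEquiv]
    exact natCast_ne_zero_of_le P (P.preimage_le U)
  · intro hle
    obtain ⟨u, hu, hu0⟩ := hU.ne_bot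
    obtain ⟨e, he, rfl⟩ := P.mk_surj u
    exact hu0 ((P.mk_eq_zero e he).mpr (hle (x := ⟨e, h.mem ⟨he, hu⟩⟩) ⟨he, hu⟩))
  · -- `t ^ o` commutes with the image
    rintro ⟨x, hxW⟩ hx
    replace hx : x ∈ P.preimage U := hx
    have key : ρ (t ^ o * x * (t ^ o)⁻¹) = ρ x := by
      set u := t ^ o with hu
      set d := x⁻¹ * (u * x * u⁻¹) with hd
      have hdD : d ∈ D := by
        rw [← P.mk_eq_zero _ (E.mul_mem (inv_mem hx.1) (P.norm_E u x hx.1)),
          P.mk_mul _ (inv_mem hx.1) _ (P.norm_E u x hx.1), P.mk_inv hx.1, P.mk_conj u x hx.1,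
          ht.pow_fix _ hx.2, neg_add_cancel]
      have hud : ∀ i : ℕ, ρ (u ^ i * d * (u ^ i)⁻¹) = ρ d := fun i => by
        have hc : Commute (ρ t) (ρ d) := by
          show ρ t * ρ d = ρ d * ρ t
          rw [← map_mul, ← map_mul]; exact ht.D_fix d hdD
        rw [map_mul, map_mul, map_pow, hu, map_pow, ((hc.pow_left o).pow_left i).eq, mul_assoc, ← map_pow,
          ← map_pow, ← map_mul, mul_inv_cancel, map_one, mul_one]
      have hiter : ∀ i : ℕ, ρ (u ^ i * x * (u ^ i)⁻¹) = ρ x * ρ d ^ i := by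
        intro i
        induction i with
        | zero => simp
        | succ i ih =>
          rw [show u ^ (i + 1) * x * (u ^ (i + 1))⁻¹ = (u ^ i * x * (u ^ i)⁻¹) * (u ^ i * d * (u ^ i)⁻¹) by
            rw [pow_succ, hd]; group, map_mul, ih, hud, pow_succ, mul_assoc]
      have h1 := hiter (o ^ m)
      have hum : u ^ o ^ m = 1 := by rw [hu, ← pow_mul, mul_comm, pow_mul, hm, one_pow]
      rw [hum, one_mul, inv_one, mul_one] at h1
      obtain ⟨l, hl⟩ := P.isPGroup ⟨d, P.D_le hdD⟩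
      have hdl : d ^ q ^ l = 1 := by simpa using congrArg Subtype.val hl
      have hd1 : ρ d ^ o ^ m = 1 := by
        have := congrArg (fun z => ρ x⁻¹ * z) h1
        simp only [← mul_assoc, ← map_mul, inv_mul_cancel, map_one, one_mul] at this
        exact this.symm
      have hd2 : ρ d ^ q ^ l = 1 := by rw [← map_pow, hdl, map_one]
      have hd0 : ρ d = 1 := by
        have := pow_gcd_eq_one.mpr ⟨hd1, hd2⟩
        rwa [Nat.Coprime.pow m l ((Nat.coprime_primes ht.ho Fact.out).mpr ht.oq), pow_one] at this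
      rw [show u * x * u⁻¹ = x * d by rw [hd]; group, map_mul, hd0, mul_one]
    refine LinearMap.ext fun w => Subtype.ext ?_
    rw [resRep_apply, resRep_apply, ext_apply, ext_apply]
    congr 2

end Rep

end Cfsg.Agent.TurullOne
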