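/-
What a non-degenerate piece gives inside the next module: moved and fixed vectors of `a`, the size of
what `a` moves, and purity of the fixed vectors obtained.
-/
import Mathlib
import Cfsg.Agent.TurullOne.Piece

set_option autoImplicit false
set_option linter.style.haveILetI false
set_option linter.unusedSectionVars false
set_option maxHeartbeats 800000

namespace Cfsg.Agent.TurullOne

open Module Finset TensorProduct

universe v

variable {X : Type*} [Group X] [Finite X] {p q : ℕ} [Fact p.Prime] [Fact q.Prime]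
variable {V : Type v} [AddCommGroup V] [Module (ZMod p) V] [FiniteDimensional (ZMod p) V]
variable {M : Type v} [AddCommGroup M] [Module (ZMod q) M] [FiniteDimensional (ZMod q) M]
variable {ρ : X →* Module.End (ZMod p) V} {π : X →* Module.End (ZMod q) M} {E D S : Subgroup X} {mk : X → M}
variable {L : Type v} [Field L] {a t : X} {r o : ℕ} {U : Submodule (ZMod q) M}
variable {P : Pair ρ π E D S mk} {K : Kap ρ E D mk L (q := q)}

theorem Kap.fixes_ext (K : Kap ρ E D mk L (q := q)) (P : Pair ρ π E D S mk) {k : Type*} [Field k]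
    [Algebra (ZMod p) k] {d : X} (hd : d ∈ D) (hne : K.W.ev d ≠ 1) {v : k ⊗[ZMod p] V} (hv : v ∈ bcSub k K.Y)
    (hfix : ext k ρ d v = v) : v = 0 := by
  let f : K.Y →ₗ[ZMod p] V := (ρ d - 1) ∘ₗ K.Y.subtype
  have hf : LinearMap.ker f = ⊥ := by
    refine LinearMap.ker_eq_bot'.mpr fun y hy => Subtype.ext ?_
    exact K.fixes P hd hne y.2 (sub_eq_zero.mp hy)
  obtain ⟨g, hg⟩ := f.exists_leftInverse_of_injective hf
  have h := baseChange_eq_on (k := k) (f := K.Y.subtype ∘ₗ g ∘ₗ (ρ d - 1)) (g := 1) (Y := K.Y)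
    (fun y hy => congrArg Subtype.val (LinearMap.congr_fun hg ⟨y, hy⟩)) hv
  rw [LinearMap.baseChange_one, Module.End.one_apply, LinearMap.baseChange_comp, LinearMap.baseChange_comp,
    LinearMap.comp_apply, LinearMap.comp_apply, LinearMap.baseChange_sub, LinearMap.baseChange_one,
    LinearMap.sub_apply, Module.End.one_apply, ← ext_apply, hfix, sub_self, map_zero, map_zero] at h
  exact h.symm

theorem Kap.invY_a (K : Kap ρ E D mk L (q := q)) (P : Pair ρ π E D S mk) (ha : ∀ d ∈ D, ρ (a * d * a⁻¹) = ρ d) :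
    ∀ y ∈ K.Y, ρ a y ∈ K.Y :=
  K.invY P fun d hd => K.W.ev_congr (P.norm_D a d hd) hd (ha d hd)

theorem Kap.invY_t (K : Kap ρ E D mk L (q := q)) (P : Pair ρ π E D S mk) (ht : ∀ d ∈ D, ρ (t * d) = ρ (d * t)) :
    ∀ y ∈ K.Y, ρ t y ∈ K.Y :=
  K.invY P fun d hd => K.W.ev_congr (P.norm_D t d hd) hd (by
    rw [map_mul, ht d hd, ← map_mul, mul_inv_cancel_right])

/-- A minimal subspace invariant under the group above the piece and both operators. -/
theorem exists_minimal_piece {k : Type*} [Field k] [Algebra (ZMod p) k] (P : Pair ρ π E D S mk)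
    (K : Kap ρ E D mk L (q := q)) (ha : ∀ d ∈ D, ρ (a * d * a⁻¹) = ρ d) (ht : ∀ d ∈ D, ρ (t * d) = ρ (d * t))
    (U : Submodule (ZMod q) M) :
    ∃ W0 : Submodule k (k ⊗[ZMod p] V), IrredPiece P K a U W0 ∧ (∀ w ∈ W0, ext k ρ t w ∈ W0) ∧
      (∀ Z ≤ W0, (∀ e ∈ P.preimage U, ∀ w ∈ Z, ext k ρ e w ∈ Z) → (∀ w ∈ Z, ext k ρ a w ∈ Z) →
        (∀ w ∈ Z, ext k ρ t w ∈ Z) → Z = ⊥ ∨ Z = W0) := by
  obtain ⟨y, hy, hy0⟩ := K.Y_ne_bot P
  let good : Submodule k (k ⊗[ZMod p] V) → Prop := fun Z => Z ≠ ⊥ ∧ Z ≤ bcSub k K.Y ∧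
    (∀ e ∈ P.preimage U, ∀ w ∈ Z, ext k ρ e w ∈ Z) ∧ (∀ w ∈ Z, ext k ρ a w ∈ Z) ∧ ∀ w ∈ Z, ext k ρ t w ∈ Z
  obtain ⟨W0, hW0⟩ : ∃ W0, Minimal good W0 := exists_minimal_of_wellFoundedLT _ ⟨bcSub k K.Y,
    fun e => one_tmul_ne_zero (k := k) hy0 ((Submodule.mem_bot k).mp (e ▸ tmul_mem_bcSub hy 1)), le_rfl,
    fun e he w hw => baseChange_mem_bcSub (fun z hz => K.invY_E P he.1 z hz) hw,
    fun w hw => baseChange_mem_bcSub (K.invY_a P ha) hw,
    fun w hw => baseChange_mem_bcSub (K.invY_t P ht) hw⟩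
  obtain ⟨⟨h1, h2, h3, h4, h5⟩, hmin⟩ := hW0
  refine ⟨W0, ⟨h2, h1, h3, h4⟩, h5, fun Z hZ z1 z2 z3 => ?_⟩
  by_cases hb : Z = ⊥
  · exact Or.inl hb
  · exact Or.inr (le_antisymm hZ (hmin ⟨hb, hZ.trans h2, z1, z2, z3⟩ hZ))

theorem Piece.rk (hU : Piece π K a U) {k : Type*} [Field k] [Algebra (ZMod p) k] (hrp : (r : ZMod p) ≠ 0) :
    (r : k) ≠ 0 := by
  rw [← map_natCast (algebraMap (ZMod p) k)]
  exact (map_ne_zero _).mpr hrp

/-- `t` is not trivial on what `a` moves above the piece. -/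
theorem exists_moved_above (hU : Piece π K a U) (ha : ∀ d ∈ D, ρ (a * d * a⁻¹) = ρ d) (hr : r.Prime)
    (har : a ^ r = 1) (hrp : (r : ZMod p) ≠ 0) (hro : r ≠ o) (ht : PieceOp π ρ D a t o U) (P : Pair ρ π E D S mk) :
    ∃ y ∈ K.Y, ρ t (ρ a y - y) ≠ ρ a y - y := by
  by_contra! hcon
  let k := AlgebraicClosure (ZMod p)
  obtain ⟨W0, h, htW, hmin⟩ := exists_minimal_piece (k := k) P K ha ht.D_fix U
  haveI : Nontrivial W0 := Submodule.nontrivial_iff_ne_bot.mpr h.ne_bot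
  have hd := h.duo hU ha hr har (hU.rk hrp) hro ht htW hmin
  refine hd.not_trivial_moved fun η _ hη1 v hv => Subtype.ext ?_
  have hv' : ext k ρ a (v : k ⊗[ZMod p] V) = η • (v : k ⊗[ZMod p] V) := congrArg Subtype.val hv
  show ext k ρ t (v : k ⊗[ZMod p] V) = v
  have key := baseChange_eq_on (k := k) (f := ρ t * (ρ a - 1)) (g := ρ a - 1) (Y := K.Y)
    (fun y hy => by simpa using hcon y hy) (h.le v.2)
  rw [LinearMap.baseChange_mul, LinearMap.baseChange_sub, LinearMap.baseChange_one, Module.End.mul_apply,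
    LinearMap.sub_apply, Module.End.one_apply, ← ext_apply, ← ext_apply, hv',
    show η • (v : k ⊗[ZMod p] V) - v = (η - 1) • (v : k ⊗[ZMod p] V) from
      ((sub_smul η (1 : k) (v : k ⊗[ZMod p] V)).trans (congrArg _ (one_smul k (v : k ⊗[ZMod p] V)))).symm, map_smul] at key
  exact smul_right_injective _ (sub_ne_zero.mpr hη1) key

/-- The trace operator. -/
noncomputable def trOp (ρ : X →* Module.End (ZMod p) V) (a : X) (r : ℕ) : Module.End (ZMod p) V :=
  ∑ i ∈ range r, ρ (a ^ i)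

theorem trOp_apply (v : V) : trOp ρ a r v = tr ρ a r v := by simp [trOp, tr]

theorem trOp_ext {k : Type*} [Field k] [Algebra (ZMod p) k] {v : k ⊗[ZMod p] V} (hv : ext k ρ a v = v) :
    (trOp ρ a r).baseChange k v = (r : k) • v := by
  have e : (trOp ρ a r).baseChange k = ∑ i ∈ range r, ext k ρ (a ^ i) :=
    map_sum (Module.End.baseChangeHom (ZMod p) k V) _ _
  rw [e, LinearMap.sum_apply, Finset.sum_congr rfl fun i _ => pow_apply_eq hv i, Finset.sum_const,
    Finset.card_range, Nat.cast_smul_eq_nsmul]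

theorem trOp_mem (hY : ∀ y ∈ K.Y, ρ a y ∈ K.Y) {y : V} (hy : y ∈ K.Y) : trOp ρ a r y ∈ K.Y := by
  rw [trOp, LinearMap.sum_apply]
  refine Submodule.sum_mem _ fun i hi => ?_
  clear hi
  induction i with
  | zero => simpa using hy
  | succ i ih => rw [pow_succ', apply_mul]; exact hY _ ih

/-- Above the piece `a` has fixed vectors, and the degree is at least `r + 2`. -/
theorem exists_fixed_above (hU : Piece π K a U) (ha : ∀ d ∈ D, ρ (a * d * a⁻¹) = ρ d) (hr : r.Prime)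
    (har : a ^ r = 1) (hrp : (r : ZMod p) ≠ 0) (hro : r ≠ o) (ht : PieceOp π ρ D a t o U) (P : Pair ρ π E D S mk) :
    (∃ y ∈ K.Y, ρ a y = y ∧ y ≠ 0) ∧ (∃ n, n ^ 2 = Nat.card U ∧ r + 2 ≤ n) ∧
      ((∀ y ∈ K.Y, ρ a y = y → ρ t y = y) → o = 2 ∧ ∃ n, n ^ 2 = Nat.card U ∧ n ≤ 3 * r - 1) := by
  let k := AlgebraicClosure (ZMod p)
  obtain ⟨W0, h, htW, hmin⟩ := exists_minimal_piece (k := k) P K ha ht.D_fix U
  haveI : Nontrivial W0 := Submodule.nontrivial_iff_ne_bot.mpr h.ne_bot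
  have hrk : (r : k) ≠ 0 := hU.rk hrp
  have hd := h.duo hU ha hr har hrk hro ht htW hmin
  have hn := (h.count hU ha hr har hrk hd.hirr hd.heis).2
  have hYa := K.invY_a P ha
  refine ⟨?_, ⟨_, hn, hd.dim_ge⟩, fun htriv => ?_⟩
  · obtain ⟨v, hv0, hv⟩ := hd.exists_fixed
    have hv' : ext k ρ a (v : k ⊗[ZMod p] V) = v := congrArg Subtype.val hv
    by_contra! hcon
    have key := baseChange_eq_on (k := k) (f := trOp ρ a r) (g := 0) (Y := K.Y) (fun y hy => by
      rw [LinearMap.zero_apply]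
      exact hcon _ (trOp_mem hYa hy) (by rw [trOp_apply]; exact apply_tr har y)) (h.le v.2)
    rw [trOp_ext hv', LinearMap.baseChange_zero, LinearMap.zero_apply] at key
    exact hv0 (Subtype.ext ((smul_eq_zero.mp key).resolve_left hrk))
  · obtain ⟨ho2, hle⟩ := hd.trivial_fixed fun v hv => Subtype.ext (by
      have hv' : ext k ρ a (v : k ⊗[ZMod p] V) = v := congrArg Subtype.val hv
      show ext k ρ t (v : k ⊗[ZMod p] V) = v
      have key := baseChange_eq_on (k := k) (f := ρ t * trOp ρ a r) (g := trOp ρ a r) (Y := K.Y) (fun y hy =>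
        htriv _ (trOp_mem hYa hy) (by rw [trOp_apply]; exact apply_tr har y)) (h.le v.2)
      rw [LinearMap.baseChange_mul, Module.End.mul_apply, trOp_ext hv', map_smul, ← ext_apply] at key
      exact smul_right_injective _ hrk key)
    exact ⟨ho2, _, hn, hle⟩

theorem exists_irreducible_above {k : Type*} [Field k] [Algebra (ZMod p) k] (P : Pair ρ π E D S mk)
    (K : Kap ρ E D mk L (q := q)) {g : X} (hgU : ∀ m ∈ U, π g m ∈ U) (hgY : ∀ y ∈ K.Y, ρ g y ∈ K.Y)
    (hgp : (orderOf g : ZMod p) ≠ 0) {W : Type*} [AddCommGroup W] [Module k W]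
    (f : k ⊗[ZMod p] V →ₗ[k] W) {y : V} (hy : y ∈ K.Y) (hf : f (1 ⊗ₜ y) ≠ 0) :
    ∃ W0 : Submodule k (k ⊗[ZMod p] V), W0 ≤ bcSub k K.Y ∧ W0 ≠ ⊥ ∧
      (∀ e ∈ P.preimage U, ∀ w ∈ W0, ext k ρ e w ∈ W0) ∧ (∀ w ∈ W0, ext k ρ g w ∈ W0) ∧
      (∀ Z ≤ W0, (∀ e ∈ P.preimage U, ∀ w ∈ Z, ext k ρ e w ∈ Z) → (∀ w ∈ Z, ext k ρ g w ∈ Z) → Z = ⊥ ∨ Z = W0) ∧
      ∃ w ∈ W0, f w ≠ 0 := by
  set G : Subgroup X := Subgroup.zpowers g ⊔ P.preimage U with hG
  have hnorm : Subgroup.zpowers g ≤ Subgroup.normalizer (P.preimage U : Set X) := by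
    have hmem : ∀ e ∈ P.preimage U, g * e * g⁻¹ ∈ P.preimage U := fun e he =>
      ⟨P.norm_E g e he.1, by rw [P.mk_conj g e he.1]; exact hgU _ he.2⟩
    refine Subgroup.zpowers_le.mpr (Subgroup.mem_normalizer_iff.mpr fun e => ⟨hmem e, fun he => ?_⟩)
    have := conj_inv_mem hmem he
    rwa [show g⁻¹ * (g * e * g⁻¹) * g = e by group] at this
  have hGk : (Nat.card G : k) ≠ 0 := by
    refine natCast_card_sup_ne_zero hnorm ?_ (by
      rw [← map_natCast (algebraMap (ZMod p) k)]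
      exact (map_ne_zero _).mpr (Weight.card_ne_zero P (P.preimage_le U)))
    rw [Nat.card_zpowers, ← map_natCast (algebraMap (ZMod p) k)]
    exact (map_ne_zero _).mpr hgp
  let St : Subgroup X := stab (ext k ρ) (bcSub k K.Y)
  have hGY : G ≤ St := sup_le (Subgroup.zpowers_le.mpr fun w hw => baseChange_mem_bcSub hgY hw)
    fun e he w hw => baseChange_mem_bcSub (fun z hz => K.invY_E P he.1 z hz) hw
  obtain ⟨W0, hle, hinv, hirr, w, hw, hfw⟩ :=
    exists_irreducible_not_kill (ext k ρ) G hGk f (bcSub k K.Y) (fun x hx => hGY hx) (tmul_mem_bcSub hy 1) hf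
  refine ⟨W0, hle, fun e => hfw (by rw [e, Submodule.mem_bot] at hw; rw [hw, map_zero]),
    fun e he => hinv e (le_sup_right (a := Subgroup.zpowers g) he),
    hinv g (le_sup_left (b := P.preimage U) (Subgroup.mem_zpowers g)), fun Z hZ h1 h2 => ?_, w, hw, hfw⟩
  refine hirr Z hZ fun x hx => ?_
  exact (sup_le (Subgroup.zpowers_le.mpr h2) h1 : G ≤ stab (ext k ρ) Z) hx

theorem finrank_comp_subtype {K : Type*} [Field K] {W W' : Type*} [AddCommGroup W] [Module K W]
    [FiniteDimensional K W] [AddCommGroup W'] [Module K W'] (W0 : Submodule K W) (f : W →ₗ[K] W') :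
    finrank K (LinearMap.range (f ∘ₗ W0.subtype)) + finrank K (LinearMap.ker (f ∘ₗ W0.subtype)) = finrank K W0 :=
  LinearMap.finrank_range_add_finrank_ker _

/-- What `a` moves in a quotient not killing the space above the piece is large. -/
theorem finrank_moved_ge (hU : Piece π K a U) (ha : ∀ d ∈ D, ρ (a * d * a⁻¹) = ρ d) (hr : r.Prime)
    (har : a ^ r = 1) (hrp : (r : ZMod p) ≠ 0) (hn2 : ∃ n, n ^ 2 = Nat.card U ∧ r + 2 ≤ n) (P : Pair ρ π E D S mk)
    (Rd : Submodule (ZMod p) V) (hRd : ∀ e ∈ E, ∀ v ∈ Rd, ρ e v ∈ Rd) {y : V} (hy : y ∈ K.Y) (hyR : y ∉ Rd) :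
    r ≤ finrank (ZMod p) (LinearMap.range (Rd.mkQ ∘ₗ (ρ a - 1))) := by
  let k := AlgebraicClosure (ZMod p)
  set Q := Rd.mkQ.baseChange k with hQ
  have hQy : Q (1 ⊗ₜ y) ≠ 0 := by
    rw [hQ, LinearMap.baseChange_tmul]
    exact one_tmul_ne_zero fun h0 => hyR ((Submodule.Quotient.mk_eq_zero _).mp h0)
  obtain ⟨W0, hle, hne, hE, haW, hirr, w, hw, hQw⟩ := exists_irreducible_above (k := k) P K hU.ainv (K.invY_a P ha)
    (fun h0 => hrp (by
      obtain ⟨m, hm⟩ := orderOf_dvd_of_pow_eq_one har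
      rw [hm, Nat.cast_mul, h0, zero_mul])) Q hy hQy
  have h : IrredPiece P K a U W0 := ⟨hle, hne, hE, haW⟩
  haveI : Nontrivial W0 := Submodule.nontrivial_iff_ne_bot.mpr hne
  have hrk : (r : k) ≠ 0 := hU.rk hrp
  obtain ⟨H, hI⟩ := h.irreducible hU ha h.mema (fun d hd => by
    rw [show a * d = a * d * a⁻¹ * a by group, map_mul, ha d hd, ← map_mul]) hU.ainv hirr
  obtain ⟨hres, hcard⟩ := h.count hU ha hr har hrk hI H
  obtain ⟨n, hnU, hnr⟩ := hn2
  have hn : finrank k W0 = n := by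
    refine Nat.pow_left_injective (two_ne_zero) ?_
    show finrank k W0 ^ 2 = n ^ 2
    rw [hcard, hnU]
  set g : W0 →ₗ[k] k ⊗[ZMod p] (V ⧸ Rd) := Q ∘ₗ W0.subtype with hg
  have hinj : LinearMap.ker g = ⊥ := by
    refine (hI (LinearMap.ker g) fun x hx u hu => ?_).resolve_right fun htop => hQw ?_
    · have hxE : (x : X) ∈ E := hx.1
      have hmap : Rd ≤ Rd.comap (ρ (x : X)) := fun v hv => hRd _ hxE v hv
      have hu' : Q (u : k ⊗[ZMod p] V) = 0 := hu
      show Q (ext k ρ (x : X) (u : k ⊗[ZMod p] V)) = 0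
      rw [hQ, ext_apply, ← LinearMap.comp_apply, ← LinearMap.baseChange_comp,
        show Rd.mkQ ∘ₗ ρ (x : X) = Rd.mapQ Rd (ρ (x : X)) hmap ∘ₗ Rd.mkQ from LinearMap.ext fun _ => rfl,
        LinearMap.baseChange_comp, LinearMap.comp_apply, ← hQ, hu', map_zero]
    · have : g ⟨w, hw⟩ = 0 := LinearMap.congr_fun (LinearMap.ker_eq_top.mp htop) ⟨w, hw⟩
      exact this
  set Φ := (Rd.mkQ ∘ₗ (ρ a - 1)).baseChange k with hΦ
  set T : W0 →ₗ[k] k ⊗[ZMod p] (V ⧸ Rd) := Φ ∘ₗ W0.subtype with hT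
  have hrank : finrank k (LinearMap.range T) + finrank k (LinearMap.ker T) = finrank k W0 :=
    finrank_comp_subtype W0 Φ
  rw [hn] at hrank
  have hΦe : ∀ u : k ⊗[ZMod p] V, Φ u = Q (ext k ρ a u - u) := fun u => by
    rw [hΦ, LinearMap.baseChange_comp, LinearMap.baseChange_sub, LinearMap.baseChange_one]
    rfl
  have hup : r * finrank k (LinearMap.ker T) ≤ n + (r - 1) := by
    refine (Nat.mul_le_mul_left r (Submodule.finrank_mono fun u hu => ?_)).trans (hn ▸ hres.upper)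
    have h0 : (⟨ext k ρ a (u : k ⊗[ZMod p] V), haW u u.2⟩ : W0) - u ∈ LinearMap.ker g := by
      show Q (ext k ρ a (u : k ⊗[ZMod p] V) - u) = 0
      rw [← hΦe]; exact hu
    rw [hinj, Submodule.mem_bot] at h0
    exact h0
  have h1 : finrank k (LinearMap.range T) ≤ finrank (ZMod p) (LinearMap.range (Rd.mkQ ∘ₗ (ρ a - 1))) :=
    (Submodule.finrank_mono (LinearMap.range_comp_le_range _ _)).trans (finrank_range_baseChange_le _)
  by_contra hlt
  push Not at hlt
  have h2 : r * finrank k (LinearMap.range T) ≤ r * (r - 1) := Nat.mul_le_mul_left r (by omega)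
  have h3 : r * n = r * finrank k (LinearMap.range T) + r * finrank k (LinearMap.ker T) := by rw [← mul_add, hrank]
  obtain ⟨r', rfl⟩ : ∃ r', r = r' + 1 := ⟨r - 1, by have := hr.two_le; omega⟩
  simp only [add_tsub_cancel_right] at h2 hup
  nlinarith [hr.two_le]

/-- The fixed vectors obtained are not seen only by fixed functionals. -/
theorem pure_above (hU : Piece π K a U) (ha : ∀ d ∈ D, ρ (a * d * a⁻¹) = ρ d) (hr : r.Prime)
    (har : a ^ r = 1) (hrp : (r : ZMod p) ≠ 0) (hro : r ≠ o) (ht : PieceOp π ρ D a t o U) (hop : (o : ZMod p) ≠ 0)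
    (P : Pair ρ π E D S mk) (c₁ c₂ : ZMod p)
    (hiso : ∀ U' ≤ U, (∀ m ∈ U', π a m ∈ U') → (∀ m ∈ U', π t m ∈ U') → (∀ u ∈ U', ∀ w ∈ U', K.β u w = 0) → U' = ⊥)
    (l : V →ₗ[ZMod p] ZMod p)
    (hdich : ∀ b ∈ E, (∀ y ∈ K.Y, l (ρ b ((c₁ • (1 : Module.End (ZMod p) V) + c₂ • ρ t) (trOp ρ a r y))) = 0) ∨
      ∀ v, l (ρ b (ρ a v - v)) = 0) :
    ∀ y ∈ K.Y, l ((c₁ • (1 : Module.End (ZMod p) V) + c₂ • ρ t) (trOp ρ a r y)) = 0 := by
  classical
  intro y₀ hy₀
  by_contra hne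
  have hla : ∀ v, l (ρ a v) = l v := fun v => by
    have := ((hdich 1 (one_mem E)).resolve_left (fun h => hne (by simpa using h y₀ hy₀))) v
    simpa [sub_eq_zero] using this
  let k := AlgebraicClosure (ZMod p)
  set σ : Module.End (ZMod p) V := c₁ • 1 + c₂ • ρ t with hσ
  set op : Module.End k (k ⊗[ZMod p] V) := (σ * trOp ρ a r).baseChange k with hop'
  set f := extFun k l with hf
  obtain ⟨m, hm⟩ := ht.ord
  have hta : ρ t * ρ a = ρ a * ρ t := by rw [← map_mul, ← map_mul, ht.comm]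
  have hord : (orderOf (a * t) : ZMod p) ≠ 0 := fun h0 => by
    obtain ⟨j, hj⟩ := orderOf_dvd_of_pow_eq_one (show (a * t) ^ (r * o ^ m) = 1 by
      rw [Commute.mul_pow ht.comm, pow_mul a, har, one_pow, one_mul, mul_comm, pow_mul, hm, one_pow])
    have := congrArg (Nat.cast : ℕ → ZMod p) hj
    rw [Nat.cast_mul, Nat.cast_mul, h0, zero_mul, Nat.cast_pow] at this
    exact mul_ne_zero hrp (pow_ne_zero _ hop) this
  obtain ⟨W0, hle, hne0, hE, hgW, hirr, w₀, hw₀, hfw₀⟩ := exists_irreducible_above (k := k) P K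
    (g := a * t) (U := U) (fun u hu => by rw [apply_mul]; exact hU.ainv _ (ht.inv _ hu))
    (fun y hy => by rw [apply_mul]; exact K.invY_a P ha _ (K.invY_t P ht.D_fix _ hy)) hord (f ∘ₗ op) hy₀ (by
      rw [LinearMap.comp_apply, hop', LinearMap.baseChange_tmul, hf, extFun_tmul, one_mul]
      exact (map_ne_zero _).mpr hne)
  have hgW' : a * t ∈ stab (ext k ρ) W0 := hgW
  obtain ⟨j, hj⟩ := mem_powers_of_not_dvd hr har (i := o ^ m) (fun hd =>
    hro ((Nat.prime_dvd_prime_iff_eq hr ht.ho).mp (hr.dvd_of_dvd_pow hd)))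
  have haW : a ∈ stab (ext k ρ) W0 := by
    have := Subgroup.pow_mem _ (Subgroup.pow_mem _ hgW' (o ^ m)) j
    rwa [Commute.mul_pow ht.comm, hm, mul_one, hj] at this
  have htW : t ∈ stab (ext k ρ) W0 := by
    have := Subgroup.mul_mem _ (inv_mem haW) hgW'
    rwa [inv_mul_cancel_left] at this
  have h : IrredPiece P K a U W0 := ⟨hle, hne0, hE, haW⟩
  haveI : Nontrivial W0 := Submodule.nontrivial_iff_ne_bot.mpr hne0
  have hrk : (r : k) ≠ 0 := hU.rk hrp
  have hd := h.duo hU ha hr har hrk hro ht htW (fun Z hZ z1 z2 z3 => hirr Z hZ z1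
    (fun w hw => by rw [apply_mul]; exact z2 _ (z3 w hw)))
  have hn := (h.count hU ha hr har hrk hd.hirr hd.heis).2
  have hn1 := hd.one_lt_dim
  -- the operator
  have hop_eq : op = ((algebraMap (ZMod p) k c₁) • (1 : Module.End k (k ⊗[ZMod p] V))
      + (algebraMap (ZMod p) k c₂) • ext k ρ t) * ∑ i ∈ range r, ext k ρ (a ^ i) := by
    rw [hop', LinearMap.baseChange_mul, show (trOp ρ a r).baseChange k = ∑ i ∈ range r, ext k ρ (a ^ i) from
      map_sum (Module.End.baseChangeHom (ZMod p) k V) _ _, hσ, LinearMap.baseChange_add, LinearMap.baseChange_smul,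
      LinearMap.baseChange_smul, LinearMap.baseChange_one, ← ext_apply, algebraMap_smul, algebraMap_smul]
  have hopW : ∀ w ∈ W0, op w ∈ W0 := fun w hw => by
    rw [hop_eq]
    simp only [Module.End.mul_apply, LinearMap.add_apply, LinearMap.smul_apply, Module.End.one_apply,
      LinearMap.sum_apply]
    have : ∑ i ∈ range r, ext k ρ (a ^ i) w ∈ W0 :=
      Submodule.sum_mem _ fun i _ => Subgroup.pow_mem _ haW i w hw
    exact W0.add_mem (W0.smul_mem _ this) (W0.smul_mem _ (htW _ this))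
  have hopt : ext k ρ t * op = op * ext k ρ t := by
    rw [hop', ext_apply, ← LinearMap.baseChange_mul, ← LinearMap.baseChange_mul]
    congr 1
    have hc : Commute (ρ t) (ρ a) := hta
    refine Commute.eq ?_
    refine Commute.mul_right ?_ ?_
    · rw [hσ]
      exact ((Commute.one_right _).smul_right c₁).add_right ((Commute.refl _).smul_right c₂)
    · exact Commute.sum_right _ _ _ fun i _ => by rw [map_pow]; exact hc.pow_right i
  -- the dichotomy over the larger field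
  have hdich' : ∀ b ∈ E, (∀ w ∈ W0, f (ext k ρ b (op w)) = 0) ∨
      ∀ v, f (ext k ρ b (ext k ρ a v)) = f (ext k ρ b v) := by
    intro b hb
    rcases hdich b hb with h1 | h1
    · refine Or.inl fun w hw => ?_
      refine bcSub_induction (motive := fun w => f (ext k ρ b (op w)) = 0) ?_ ?_ ?_ (hle hw)
      · simp
      · intro u w hu hw; simp [hu, hw]
      · intro c y hy
        rw [hop', LinearMap.baseChange_tmul, ext_tmul, hf, extFun_tmul, Module.End.mul_apply, h1 y hy, map_zero,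
          mul_zero]
    · refine Or.inr fun v => ?_
      induction v using TensorProduct.induction_on with
      | zero => simp
      | tmul c y =>
        simp only [ext_tmul, hf, extFun_tmul]
        congr 2
        have := h1 y
        rwa [map_sub, map_sub, sub_eq_zero] at this
      | add u w hu hw => simp [hu, hw]
  have hfa : ∀ v, f (ext k ρ a v) = f v := fun v => by
    induction v using TensorProduct.induction_on with
    | zero => simp
    | tmul c y => simp only [ext_tmul, hf, extFun_tmul, hla]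
    | add u w hu hw => simp [hu, hw]
  -- the stabiliser of the functional
  let St : Subgroup X :=
    { carrier := {c | c ∈ P.preimage U ∧ ∀ v, f (ext k ρ c v) = f v}
      one_mem' := ⟨one_mem _, fun v => by rw [map_one]; rfl⟩
      mul_mem' := fun {c d} hc hd => ⟨mul_mem hc.1 hd.1, fun v => by rw [apply_mul, hc.2, hd.2]⟩
      inv_mem' := fun {c} hc => ⟨inv_mem hc.1, fun v => by
        conv_lhs => rw [← hc.2, apply_apply_inv]⟩ }
  let Us : Submodule (ZMod q) M := AddSubgroup.toZModSubmodule q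
    { carrier := {x | ∃ c ∈ St, mk c = x}
      zero_mem' := ⟨1, one_mem _, P.mk_one⟩
      add_mem' := by
        rintro _ _ ⟨c, hc, rfl⟩ ⟨d, hd, rfl⟩
        exact ⟨c * d, mul_mem hc hd, P.mk_mul _ hc.1.1 _ hd.1.1⟩
      neg_mem' := by
        rintro _ ⟨c, hc, rfl⟩
        exact ⟨c⁻¹, inv_mem hc, P.mk_inv hc.1.1⟩ }
  have hUs : ∀ x, x ∈ Us ↔ ∃ c ∈ St, mk c = x := fun x => Iff.rfl
  have hUsU : Us ≤ U := fun x hx => by
    obtain ⟨c, hc, rfl⟩ := (hUs x).mp hx; exact hc.1.2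
  have hUsa : ∀ x ∈ Us, π a x ∈ Us := fun x hx => by
    obtain ⟨c, hc, rfl⟩ := (hUs x).mp hx
    refine (hUs _).mpr ⟨a * c * a⁻¹, ⟨⟨P.norm_E a c hc.1.1, ?_⟩, fun v => ?_⟩, P.mk_conj a c hc.1.1⟩
    · rw [P.mk_conj a c hc.1.1]; exact hU.ainv _ hc.1.2
    · rw [apply_mul, apply_mul, hfa, hc.2, ← hfa, apply_apply_inv]
  let T0 : Submodule k (k ⊗[ZMod p] V) := W0.map op
  have hT0 : T0 ≤ W0 := by rintro _ ⟨w, hw, rfl⟩; exact hopW w hw
  -- the support
  have hsupp : ∀ b ∈ P.preimage U, (∃ u ∈ T0, f (ext k ρ b u) ≠ 0) → mk b ∈ Us := by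
    rintro b hb ⟨_, ⟨w, hw, rfl⟩, hbu⟩
    have hfix := (hdich' b hb.1).resolve_left fun h1 => hbu (h1 w hw)
    have hab : a * b * a⁻¹ ∈ P.preimage U :=
      ⟨P.norm_E a b hb.1, by rw [P.mk_conj a b hb.1]; exact hU.ainv _ hb.2⟩
    have hc : a * b * a⁻¹ * b⁻¹ ∈ St := by
      refine ⟨mul_mem hab (inv_mem hb), fun v => ?_⟩
      rw [apply_mul, apply_mul, apply_mul, hfa, ← hfix, apply_apply_inv, apply_apply_inv]
    have hd : π a (mk b) - mk b ∈ Us := by
      refine (hUs _).mpr ⟨_, hc, ?_⟩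
      rw [P.mk_mul _ hab.1 _ (inv_mem hb.1), P.mk_inv hb.1, P.mk_conj a b hb.1, sub_eq_add_neg]
    let φ : Us →ₗ[ZMod q] Us := (π a - 1).restrict fun x hx => sub_mem (hUsa x hx) hx
    have hφ : Function.Injective φ := by
      rw [← LinearMap.ker_eq_bot, LinearMap.ker_eq_bot']
      intro x hx
      exact Subtype.ext (hU.afpf _ (hUsU x.2) (sub_eq_zero.mp (congrArg Subtype.val hx)))
    obtain ⟨x, hx⟩ := (LinearMap.injective_iff_surjective.mp hφ) ⟨_, hd⟩
    have hx' : π a (x : M) - x = π a (mk b) - mk b := congrArg Subtype.val hx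
    have := hU.afpf (mk b - x) (sub_mem hb.2 (hUsU x.2)) (by
      rw [map_sub, sub_eq_sub_iff_sub_eq_sub]; exact hx'.symm)
    rw [sub_eq_zero.mp this]
    exact x.2
  -- on the stabiliser part the functional is scaled
  have hscal : ∀ b ∈ P.preimage U, mk b ∈ Us → ∃ χ : k, χ ≠ 0 ∧ ∀ w ∈ W0, f (ext k ρ b w) = χ * f w := by
    intro b hb hbU
    obtain ⟨c, hc, hcb⟩ := (hUs _).mp hbU
    have hdD : b * c⁻¹ ∈ D := by
      rw [← P.mk_eq_zero _ (E.mul_mem hb.1 (inv_mem hc.1.1)), P.mk_mul _ hb.1 _ (inv_mem hc.1.1), P.mk_inv hc.1.1,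
        hcb, add_neg_cancel]
    have hdW : b * c⁻¹ ∈ stab (ext k ρ) W0 := h.mem (mul_mem hb (inv_mem hc.1))
    obtain ⟨χ, hχ⟩ := hd.heis.scal ⟨b * c⁻¹, hdW⟩ hdD
    have hχ' : ∀ w ∈ W0, ext k ρ (b * c⁻¹) w = χ • w := fun w hw => by
      have := congrArg (fun φ : Module.End k W0 => ((φ ⟨w, hw⟩ : W0) : k ⊗[ZMod p] V)) hχ
      exact this
    refine ⟨χ, fun h0 => ?_, fun w hw => ?_⟩
    · obtain ⟨v, hv⟩ := exists_ne (0 : W0)
      refine hv (Subtype.ext ?_)
      have := congrArg (ext k ρ (b * c⁻¹)⁻¹) (hχ' _ v.2)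
      rw [apply_inv_apply, h0, zero_smul, map_zero] at this
      exact this
    · rw [show b = b * c⁻¹ * c by group, apply_mul, hχ' _ (h.Einv c hc.1 w hw), map_smul, smul_eq_mul, hc.2]
  have hvanish : ∀ w ∈ W0, (∀ b ∈ P.preimage U, f (ext k ρ b w) = 0) → w = 0 := by
    intro w hw hall
    let Z : Submodule k W0 :=
      { carrier := {z | ∀ b ∈ P.preimage U, f (ext k ρ b (z : k ⊗[ZMod p] V)) = 0}
        add_mem' := fun {u v} hu hv b hb => by simp [hu b hb, hv b hb]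
        zero_mem' := fun b _ => by simp
        smul_mem' := fun c z hz b hb => by simp [hz b hb] }
    rcases hd.hirr Z (fun x hx z hz b hb => by
      rw [resRep_apply, ← apply_mul]; exact hz _ (mul_mem hb hx)) with hb | htop
    · exact congrArg Subtype.val ((Submodule.eq_bot_iff Z).mp hb ⟨w, hw⟩ hall)
    · refine absurd ?_ hfw₀
      have := (htop.ge (Submodule.mem_top (x := (⟨op w₀, hopW _ hw₀⟩ : W0)))) 1 (one_mem _)
      simpa using this
  set u₀ := op w₀ with hu₀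
  have hu₀T : u₀ ∈ T0 := ⟨w₀, hw₀, rfl⟩
  have hfu₀ : f u₀ ≠ 0 := hfw₀
  have hline : ∀ u ∈ T0, ∃ c : k, u = c • u₀ := by
    intro u hu
    refine ⟨f u / f u₀, sub_eq_zero.mp (hvanish _ (sub_mem (hT0 hu) (W0.smul_mem _ (hT0 hu₀T))) fun b hb => ?_)⟩
    rw [map_sub, map_sub, map_smul, map_smul, smul_eq_mul]
    by_cases hbU : mk b ∈ Us
    · obtain ⟨χ, -, hχ⟩ := hscal b hb hbU
      rw [hχ _ (hT0 hu), hχ _ (hT0 hu₀T), mul_left_comm, div_mul_cancel₀ _ hfu₀, sub_self]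
    · have h1 : ∀ z ∈ T0, f (ext k ρ b z) = 0 := fun z hz => by
        by_contra hh; exact hbU (hsupp b hb ⟨z, hz, hh⟩)
      rw [h1 u hu, h1 u₀ hu₀T, mul_zero, sub_self]
  -- the line and its stabiliser
  have hstab : ∀ e ∈ P.preimage U, (∃ χ : k, ext k ρ e u₀ = χ • u₀) ↔ mk e ∈ Us := by
    intro e he
    constructor
    · rintro ⟨χ, hχ⟩
      refine hsupp e he ⟨u₀, hu₀T, ?_⟩
      rw [hχ, map_smul, smul_eq_mul]
      refine mul_ne_zero (fun h0 => hfu₀ ?_) hfu₀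
      have := congrArg (ext k ρ e⁻¹) hχ
      rw [apply_inv_apply, h0, zero_smul, map_zero] at this
      rw [this, map_zero]
    · intro heU
      obtain ⟨χ, -, hχ⟩ := hscal e he heU
      refine ⟨χ, sub_eq_zero.mp (hvanish _
        (sub_mem (h.Einv e he _ (hT0 hu₀T)) (W0.smul_mem _ (hT0 hu₀T))) fun b hb => ?_)⟩
      rw [map_sub, map_sub, map_smul, map_smul, smul_eq_mul]
      by_cases hbU : mk b ∈ Us
      · obtain ⟨χb, -, hχb⟩ := hscal b hb hbU
        rw [hχb _ (h.Einv e he _ (hT0 hu₀T)), hχ _ (hT0 hu₀T), hχb _ (hT0 hu₀T)]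
        ring
      · have h1 : f (ext k ρ b u₀) = 0 := by
          by_contra hh; exact hbU (hsupp b hb ⟨u₀, hu₀T, hh⟩)
        have h2 : f (ext k ρ (b * e) u₀) = 0 := by
          by_contra hh
          refine hbU ?_
          have hm' := hsupp _ (mul_mem hb he) ⟨u₀, hu₀T, hh⟩
          rw [P.mk_mul _ hb.1 _ he.1] at hm'
          have := Us.sub_mem hm' heU
          rwa [add_sub_cancel_right] at this
        rw [← apply_mul, h2, h1, mul_zero, sub_self]
  obtain ⟨lam, hlam⟩ := hline _ (show ext k ρ t u₀ ∈ T0 from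
    ⟨ext k ρ t w₀, htW _ hw₀, by rw [hu₀, ← Module.End.mul_apply, ← hopt, Module.End.mul_apply]⟩)
  have hlam0 : lam ≠ 0 := fun h0 => hfu₀ (by
    have := congrArg (ext k ρ t⁻¹) hlam
    rw [apply_inv_apply, h0, zero_smul, map_zero] at this
    rw [this, map_zero])
  have hUst : ∀ x ∈ Us, π t x ∈ Us := fun x hx => by
    obtain ⟨c, hc, rfl⟩ := (hUs x).mp hx
    obtain ⟨χ, hχ⟩ := (hstab c hc.1).mpr hx
    have htc : t * c * t⁻¹ ∈ P.preimage U :=
      ⟨P.norm_E t c hc.1.1, by rw [P.mk_conj t c hc.1.1]; exact ht.inv _ hc.1.2⟩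
    rw [← P.mk_conj t c hc.1.1]
    refine (hstab _ htc).mp ⟨χ, ?_⟩
    have e1 : ext k ρ t⁻¹ u₀ = lam⁻¹ • u₀ := by
      rw [eq_inv_smul_iff₀ hlam0, ← map_smul, ← hlam, apply_inv_apply]
    rw [apply_mul, apply_mul, e1, map_smul, hχ, map_smul, map_smul, hlam, smul_smul, smul_smul]
    congr 1
    rw [mul_right_comm, inv_mul_cancel₀ hlam0, one_mul]
  have hUsiso : ∀ x ∈ Us, ∀ z ∈ Us, K.β x z = 0 := by
    intro x hx z hz
    obtain ⟨c, hc, rfl⟩ := (hUs x).mp hx
    obtain ⟨d, hd', rfl⟩ := (hUs z).mp hz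
    rw [← K.pc_eq_one_iff hc.1.1 hd'.1.1]
    by_contra hpc
    have hcd : c * d * c⁻¹ * d⁻¹ ∈ St := mul_mem (mul_mem (mul_mem hc hd') (inv_mem hc)) (inv_mem hd')
    have hcdD := P.comm_mem hc.1.1 hd'.1.1
    obtain ⟨χ, hχ⟩ := hd.heis.scal ⟨_, h.mem hcd.1⟩ hcdD
    have hχu : ext k ρ (c * d * c⁻¹ * d⁻¹) u₀ = χ • u₀ :=
      congrArg (fun φ : Module.End k W0 => ((φ ⟨u₀, hT0 hu₀T⟩ : W0) : k ⊗[ZMod p] V)) hχ
    have hχ1 : χ = 1 := by
      have := hcd.2 u₀
      rw [hχu, map_smul, smul_eq_mul] at this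
      exact (mul_eq_right₀ hfu₀).mp this
    rw [hχ1, one_smul] at hχu
    exact hfu₀ (by rw [K.fixes_ext P hcdD hpc (hle (hT0 hu₀T)) hχu, map_zero])
  have hUs0 := hiso Us hUsU hUsa hUst hUsiso
  -- independent translates
  choose e he hemk using fun x : U => P.mk_surj (x : M)
  have heU : ∀ x : U, e x ∈ P.preimage U := fun x => ⟨he x, by rw [hemk]; exact x.2⟩
  haveI : Finite M := Module.finite_of_finite (ZMod q)
  letI : Fintype U := Fintype.ofFinite U
  have hli : LinearIndependent k (fun x : U => (⟨ext k ρ (e x) u₀, h.Einv _ (heU x) _ (hT0 hu₀T)⟩ : W0)) := by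
    refine (Fintype.linearIndependent_iff (ι := U) (R := k) (M := W0)).mpr ?_
    intro g hg x
    have h0 := congrArg (fun z : W0 => f (ext k ρ (e x)⁻¹ (z : k ⊗[ZMod p] V))) hg
    simp only [AddSubmonoidClass.coe_finsetSum, Submodule.coe_smul, map_sum, map_smul, smul_eq_mul,
      ZeroMemClass.coe_zero, map_zero] at h0
    rw [Finset.sum_eq_single x] at h0
    · rw [apply_inv_apply] at h0
      exact (mul_eq_zero.mp h0).resolve_right hfu₀
    · intro z _ hzx
      refine mul_eq_zero_of_right _ ?_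
      by_contra hh
      rw [← apply_mul] at hh
      have := hsupp _ (mul_mem (inv_mem (heU x)) (heU z)) ⟨u₀, hu₀T, hh⟩
      rw [hUs0, Submodule.mem_bot, P.mk_mul _ (inv_mem (he x)) _ (he z), P.mk_inv (he x), hemk, hemk,
        neg_add_eq_zero] at this
      exact hzx (Subtype.ext this.symm)
    · simp
  have h1 : Fintype.card U ≤ finrank k W0 := hli.fintype_card_le_finrank
  rw [← Nat.card_eq_fintype_card, ← hn] at h1
  nlinarith

end Cfsg.Agent.TurullOne
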