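/-
An operator commuting with `a` that fixes the fixed moved vectors of an abelian fixed-point-free
group acts on the moved part without disturbing that group.
-/
import Mathlib
import Cfsg.Agent.TurullOne.Step

set_option autoImplicit false
set_option linter.style.haveILetI false
set_option linter.unusedSectionVars false

namespace Cfsg.Agent.TurullOne

open Module Finset

universe v

variable {X : Type*} [Group X] [Finite X] {F : Type*} [Field F] {V : Type v} [AddCommGroup V] [Module F V]
  [FiniteDimensional F V]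
variable {ρ : X →* Module.End F V} {a s : X} {B : Subgroup X} {Y : Submodule F V} {r : ℕ}

/-- An element of `B` trivial on the moved part is trivial on `Y`. -/
theorem AbFpf.fix_of_fix_mv (h : AbFpf ρ a B Y) (hBF : (Nat.card B : F) ≠ 0) {b : X} (hb : b ∈ B)
    (hfix : ∀ v ∈ mv ρ B Y, ρ b v = v) : ∀ y ∈ Y, ρ b y = y := by
  intro y hy
  set u := ρ b y - y with hu
  have hu1 : ρ b u = u := hfix u (sub_mem_mv hb hy)
  have hiter : ∀ m : ℕ, ρ (b ^ m) y = y + (m : F) • u := by
    intro m
    induction m with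
    | zero => simp
    | succ m ih =>
      rw [pow_succ', apply_mul, ih, map_add, map_smul, hu1, show ρ b y = y + u by rw [hu]; abel, Nat.cast_succ,
        add_smul, one_smul]
      abel
  have h2 := hiter (Nat.card B)
  rw [orderOf_dvd_iff_pow_eq_one.mp (Subgroup.orderOf_dvd_natCard B hb), map_one, Module.End.one_apply,
    left_eq_add] at h2
  exact sub_eq_zero.mp ((smul_eq_zero.mp h2).resolve_left hBF)

/-- Equal sums of two injective families of characters have the same members. -/
theorem exists_eq_of_sum_eq {G : Type*} [MulOneClass G] {L : Type*} [CommRing L] [IsDomain L] {ι : Type*}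
    (S : Finset ι) (f g : ι → (G →* L)) (hf : Function.Injective f) (hg : Function.Injective g)
    (heq : ∀ x, ∑ i ∈ S, f i x = ∑ i ∈ S, g i x) {i : ι} (hi : i ∈ S) : ∃ l ∈ S, f i = g l := by
  classical
  by_contra! hne
  have h0 := linearIndependent_iff'.mp (linearIndependent_monoidHom G L) (S.image f ∪ S.image g)
    (fun x => (if x ∈ S.image f then (1 : L) else 0) - if x ∈ S.image g then 1 else 0) (by
      funext x
      simp only [Finset.sum_apply, Pi.smul_apply, smul_eq_mul, Pi.zero_apply, sub_mul, ite_mul, one_mul, zero_mul,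
        Finset.sum_sub_distrib]
      rw [← Finset.sum_filter, ← Finset.sum_filter, Finset.filter_mem_eq_inter, Finset.filter_mem_eq_inter,
        Finset.inter_eq_right.mpr Finset.subset_union_left, Finset.inter_eq_right.mpr Finset.subset_union_right,
        Finset.sum_image hf.injOn, Finset.sum_image hg.injOn, heq, sub_self]) (f i)
    (Finset.mem_union_left _ (Finset.mem_image_of_mem f hi))
  rw [if_pos (Finset.mem_image_of_mem f hi), if_neg, sub_zero] at h0
  · exact one_ne_zero h0
  · rw [Finset.mem_image]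
    rintro ⟨l, hl, e⟩
    exact hne l hl e.symm

/-- The key lemma: nothing is disturbed. -/
theorem AbFpf.smove (h : AbFpf ρ a B Y) (hr : r.Prime) (ha : a ^ r = 1) (hrF : (r : F) ≠ 0)
    (hBF : (Nat.card B : F) ≠ 0) (hsB : ∀ b ∈ B, s * b * s⁻¹ ∈ B) (hsY : ∀ y ∈ Y, ρ s y ∈ Y)
    (hcomm : a * s = s * a) {N : ℕ} (hsN : s ^ N = 1) (hNr : ¬ r ∣ N)
    (hfix : ∀ w ∈ mv ρ B Y, ρ a w = w → ρ s w = w) :
    ∀ b ∈ B, ∀ y ∈ Y, ρ (s * b * s⁻¹) y = ρ b y := by
  classical
  set Mv := mv ρ B Y with hMv
  have hMY : Mv ≤ Y := mv_le h.inv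
  have hBMv : ∀ b ∈ B, ∀ u ∈ Mv, ρ b u ∈ Mv := fun b hb u hu =>
    apply_mem_mv (fun c hc => B.mul_mem (B.mul_mem hb hc) (inv_mem hb)) (fun y hy => h.inv b hb y hy) hu
  have haMv : ∀ i : ℕ, ∀ u ∈ Mv, ρ (a ^ i) u ∈ Mv := fun i u hu =>
    apply_mem_mv (fun b hb => h.pow_norm i hb) (fun y hy => h.pow_ainv i hy) hu
  let g : B →* Module.End F Mv :=
    { toFun := fun b => (ρ (b : X)).restrict fun u hu => hBMv _ b.2 u hu
      map_one' := LinearMap.ext fun u => Subtype.ext (by simp)
      map_mul' := fun b c => LinearMap.ext fun u => Subtype.ext (by simp) }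
  have hgap : ∀ (b : B) (u : Mv), ((g b u : Mv) : V) = ρ (b : X) u := fun b u => rfl
  have hgext : ∀ {b c : B}, (∀ y ∈ Y, ρ (b : X) y = ρ (c : X) y) → g b = g c := fun e =>
    LinearMap.ext fun u => Subtype.ext (e u (hMY u.2))
  have hgS : ∀ x ∈ Set.range g, ∀ y ∈ Set.range g, x * y = y * x := by
    rintro _ ⟨b, rfl⟩ _ ⟨c, rfl⟩
    rw [← map_mul, ← map_mul]
    exact hgext fun y hy => h.comm _ b.2 _ c.2 y hy
  let cj : ℕ → (B →* B) := fun i =>
    { toFun := fun b => ⟨a ^ i * b * (a ^ i)⁻¹, h.pow_norm i b.2⟩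
      map_one' := Subtype.ext (by simp)
      map_mul' := fun x y => Subtype.ext (by simp) }
  let sc : B →* B :=
    { toFun := fun b => ⟨s * b * s⁻¹, hsB _ b.2⟩
      map_one' := Subtype.ext (by simp)
      map_mul' := fun x y => Subtype.ext (by simp) }
  let A := Algebra.adjoin F (Set.range g)
  let : CommRing A := Algebra.adjoinCommRingOfComm _ hgS
  let G : B →* A := g.codRestrict A.toSubmonoid fun b => Algebra.subset_adjoin ⟨b, rfl⟩
  -- the traces agree
  have htrace : ∀ b : B, ∑ i ∈ range r, G (cj i (sc b)) = ∑ i ∈ range r, G (cj i b) := by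
    intro b
    rw [← sub_eq_zero, ← Finset.sum_sub_distrib]
    refine Subtype.ext ?_
    set Δ : A := ∑ i ∈ range r, (G (cj i (sc b)) - G (cj i b)) with hΔ
    let f : V →ₗ[F] V := ∑ i ∈ range r, (ρ ((cj i (sc b) : B) : X) - ρ ((cj i b : B) : X))
    have hkill : ∀ v ∈ Mv, f v = 0 := by
      refine h.kill_of_fixed hr ha hBF f (fun c hc w hw _ h0 => ?_) fun w hw haw => ?_
      · have : f (ρ c w) = ρ c (f w) := by
          simp only [f, LinearMap.sum_apply, LinearMap.sub_apply, map_sum, map_sub, ← apply_mul]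
          refine Finset.sum_congr rfl fun i _ => ?_
          rw [h.comm _ (cj i (sc b)).2 c hc w (hMY hw), h.comm _ (cj i b).2 c hc w (hMY hw)]
        rw [this, h0, map_zero]
      · have hai : ∀ i : ℕ, ρ (a ^ i)⁻¹ w = w := fun i => by
          conv_lhs => rw [← pow_apply_eq haw i, apply_inv_apply]
        have hterm : ∀ (c : B) (i : ℕ), ρ ((cj i c : B) : X) w = ρ (a ^ i) (ρ (c : X) w) := fun c i => by
          show ρ (a ^ i * c * (a ^ i)⁻¹) w = _
          rw [apply_mul, apply_mul, hai]
        simp only [f, LinearMap.sum_apply, LinearMap.sub_apply, Finset.sum_sub_distrib, hterm]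
        rw [sub_eq_zero]
        have hsw : ρ s⁻¹ w = w := by conv_lhs => rw [← hfix w hw haw, apply_inv_apply]
        have e1 : ρ ((sc b : B) : X) w = ρ s (ρ (b : X) w) := by
          show ρ (s * b * s⁻¹) w = _
          rw [apply_mul, apply_mul, hsw]
        rw [e1]
        have e2 : ∀ i : ℕ, ρ (a ^ i) (ρ s (ρ (b : X) w)) = ρ s (ρ (a ^ i) (ρ (b : X) w)) := fun i => by
          rw [← apply_mul, ← apply_mul ρ s, ((Commute.pow_left (h := (hcomm : Commute a s)) i)).eq]
        simp only [e2, ← map_sum]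
        refine hfix _ (Submodule.sum_mem _ fun i _ => haMv i _ (hBMv _ b.2 w hw)) ?_
        exact apply_tr ha _
    refine LinearMap.ext fun u => Subtype.ext ?_
    have := hkill u u.2
    have ev : ∀ x : A, ((((x : Module.End F Mv) u) : Mv) : V) =
        (((LinearMap.applyₗ u).comp A.val.toLinearMap) x : Mv).1 := fun x => rfl
    rw [ev, ev, map_sum, map_zero]
    simp only [ZeroMemClass.coe_zero, Submodule.coe_sum]
    refine Eq.trans ?_ this
    simp only [f, LinearMap.sum_apply]
    refine Finset.sum_congr rfl fun i _ => ?_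
    rfl
  haveI : Module.Finite F A := FiniteDimensional.finiteDimensional_subalgebra _
  haveI : IsArtinianRing A := IsArtinianRing.of_finite F A
  have hres : ∀ b : B, G ((sc b) * b⁻¹) = 1 := by
    intro b
    refine eq_one_of_forall_mem _ (N := Nat.card B) ?_ ?_ fun m hm => ?_
    · have := (IsUnit.mk0 (Nat.card B : F) hBF).map (algebraMap F A)
      rwa [map_natCast] at this
    · rw [← map_pow, pow_card_eq_one', map_one]
    let : Field (A ⧸ m) := Ideal.Quotient.field m
    let φ : A →+* A ⧸ m := Ideal.Quotient.mk m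
    let ψ : ℕ → (B →* A ⧸ m) := fun i => (φ.toMonoidHom.comp G).comp (cj i)
    have hψ0 : ∀ c, ψ 0 c = φ (G c) := fun c => congrArg (fun z => φ (G z)) (Subtype.ext (by simp [cj]))
    suffices hsc : ∀ c, ψ 0 (sc c) = ψ 0 c by
      rw [← Ideal.Quotient.eq, map_one, map_mul, map_mul, show φ (G (sc b)) = φ (G b) by
        rw [← hψ0, ← hψ0, hsc], ← map_mul, ← map_mul, mul_inv_cancel, map_one, map_one]
    have hcjadd : ∀ i l c, cj i (cj l c) = cj (i + l) c := fun i l c => Subtype.ext (by
      show a ^ i * (a ^ l * (c : X) * (a ^ l)⁻¹) * (a ^ i)⁻¹ = a ^ (i + l) * (c : X) * (a ^ (i + l))⁻¹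
      rw [pow_add]; group)
    have hcjr : ∀ i c, cj (i % r) c = cj i c := fun i c => Subtype.ext (by
      show a ^ (i % r) * (c : X) * (a ^ (i % r))⁻¹ = a ^ i * (c : X) * (a ^ i)⁻¹
      rw [← pow_eq_pow_mod _ ha])
    -- a fixed character is trivial
    have hfixed : (∀ c, ψ 1 c = ψ 0 c) → ∀ c, ψ 0 c = 1 := by
      intro h1 c
      obtain ⟨d, hd, hdy⟩ := h.exists_comm hr ha (i := 1) (Nat.Prime.not_dvd_one hr) c.2
      have e : G c = G ((⟨d, hd⟩ : B)⁻¹ * cj 1 ⟨d, hd⟩) := Subtype.ext (hgext fun y hy => (hdy y hy).symm)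
      have e1 : φ (G (cj 1 ⟨d, hd⟩)) = φ (G ⟨d, hd⟩) := by
        rw [← hψ0 ⟨d, hd⟩, ← h1]; rfl
      rw [hψ0, e, map_mul, map_mul, e1, ← map_mul, ← map_mul, inv_mul_cancel, map_one, map_one]
    by_cases htriv : ∀ c, ψ 1 c = ψ 0 c
    · intro c; rw [hfixed htriv, hfixed htriv]
    have hψs : ∀ i j, i < r → j < r → ψ i = ψ j → i = j := by
      intro i j hi hj e
      by_contra hne
      wlog hlt : i < j generalizing i j
      · exact this j i hj hi e.symm (Ne.symm hne) (by omega)
      refine htriv fun c => ?_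
      have hd : ∀ c, ψ (j - i) c = ψ 0 c := fun c => by
        have := DFunLike.congr_fun e (cj (r - i) c)
        simp only [ψ, MonoidHom.comp_apply, hcjadd] at this ⊢
        rw [show i + (r - i) = r by omega, show j + (r - i) = (j - i) + r by omega, ← hcjr r, Nat.mod_self,
          ← hcjr (j - i + r), Nat.add_mod_right, hcjr] at this
        exact this.symm
      have hmul : ∀ (k : ℕ) c, ψ ((j - i) * k) c = ψ 0 c := by
        intro k
        induction k with
        | zero => intro c; rw [mul_zero]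
        | succ k ih =>
          intro c
          have := ih (cj (j - i) c)
          simp only [ψ, MonoidHom.comp_apply, hcjadd] at this
          rw [show (j - i) * (k + 1) = (j - i) * k + (j - i) by ring]
          exact this.trans (by
            have := hd c
            simp only [ψ, MonoidHom.comp_apply] at this ⊢
            rw [show (0 : ℕ) + (j - i) = j - i by omega]
            exact this)
      obtain ⟨k, hk⟩ := exists_mul_mod_eq_one hr (i := j - i) (fun hd => by
        have := Nat.le_of_dvd (by omega) hd; omega)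
      have := hmul k c
      simp only [ψ, MonoidHom.comp_apply] at this ⊢
      rwa [← hcjr, hk] at this
    have hscbij : Function.Bijective sc := by
      have hi : Function.Injective sc := fun x y e => Subtype.ext (by
        have := congrArg Subtype.val e
        simpa [sc] using this)
      exact ⟨hi, Finite.injective_iff_surjective.mp hi⟩
    obtain ⟨l, hl, hel⟩ : ∃ l : Fin r, True ∧ (ψ ((⟨0, hr.pos⟩ : Fin r) : ℕ)).comp sc = ψ (l : ℕ) := by
      obtain ⟨l, -, hl⟩ := exists_eq_of_sum_eq (Finset.univ : Finset (Fin r)) (fun i => (ψ (i : ℕ)).comp sc)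
        (fun i => ψ (i : ℕ)) (fun i j e => Fin.ext (hψs i j i.2 j.2 (MonoidHom.ext fun c => by
          obtain ⟨c', rfl⟩ := hscbij.2 c
          exact DFunLike.congr_fun e c')))
        (fun i j e => Fin.ext (hψs i j i.2 j.2 e)) (fun c => by
          rw [Fin.sum_univ_eq_sum_range (fun i => (ψ i).comp sc c), Fin.sum_univ_eq_sum_range (fun i => ψ i c)]
          simp only [ψ, MonoidHom.comp_apply, RingHom.toMonoidHom_eq_coe, MonoidHom.coe_coe]
          rw [← map_sum φ, ← map_sum φ, htrace]) (i := ⟨0, hr.pos⟩) (Finset.mem_univ _)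
      exact ⟨l, trivial, hl⟩
    have hsccj : ∀ i c, cj i (sc c) = sc (cj i c) := fun i c => Subtype.ext (by
      show a ^ i * (s * (c : X) * s⁻¹) * (a ^ i)⁻¹ = s * (a ^ i * (c : X) * (a ^ i)⁻¹) * s⁻¹
      have e := (Commute.pow_left (h := (hcomm : Commute a s)) i).eq
      rw [show a ^ i * (s * (c : X) * s⁻¹) * (a ^ i)⁻¹ = (a ^ i * s) * (c : X) * (a ^ i * s)⁻¹ by group, e]
      group)
    have hiter : ∀ (k : ℕ) c, ψ 0 ((sc^[k]) c) = ψ ((l : ℕ) * k) c := by
      intro k
      induction k with
      | zero => intro c; simp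
      | succ k ih =>
        intro c
        rw [Function.iterate_succ_apply, ih]
        have := DFunLike.congr_fun hel (cj ((l : ℕ) * k) c)
        simp only [ψ, MonoidHom.comp_apply, hcjadd] at this ⊢
        rw [hsccj]
        rw [show (l : ℕ) * (k + 1) = (l : ℕ) + (l : ℕ) * k by ring]
        rw [← this, ← hsccj, hcjadd, Nat.zero_add]
    have hscN : ∀ c, (sc^[N]) c = c := fun c => by
      have : ∀ k : ℕ, (((sc^[k]) c : B) : X) = s ^ k * c * (s ^ k)⁻¹ := by
        intro k
        induction k with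
        | zero => simp
        | succ k ih =>
          rw [Function.iterate_succ_apply', pow_succ']
          show s * (((sc^[k]) c : B) : X) * s⁻¹ = _
          rw [ih]; group
      exact Subtype.ext (by rw [this, hsN]; simp)
    have h0 : (l : ℕ) * N % r = 0 := by
      refine hψs _ 0 (Nat.mod_lt _ hr.pos) hr.pos (MonoidHom.ext fun c => ?_)
      have := hiter N c
      rw [hscN] at this
      rw [this]
      simp only [ψ, MonoidHom.comp_apply, hcjr]
    have hl0 : (l : ℕ) = 0 := by
      rcases (Nat.Prime.dvd_mul hr).mp (Nat.dvd_of_mod_eq_zero h0) with hd | hd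
      · exact Nat.eq_zero_of_dvd_of_lt hd l.2
      · exact absurd hd hNr
    intro c
    have := DFunLike.congr_fun hel c
    rw [hl0] at this
    exact this
  intro b hb y hy
  have e := hres ⟨b, hb⟩
  have hd : ρ (s * b * s⁻¹ * b⁻¹) (ρ b y) = ρ b y := by
    refine h.fix_of_fix_mv hBF (B.mul_mem (hsB b hb) (inv_mem hb)) (fun v hv => ?_) _ (h.inv b hb y hy)
    have := congrArg (fun z : A => (((z : Module.End F Mv) ⟨v, hv⟩ : Mv) : V)) e
    simpa [G, hgap, sc] using this
  rwa [← apply_mul, inv_mul_cancel_right] at hd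

/-- Either some moved fixed vector is moved by `s` within the moved part, or nothing is disturbed. -/
theorem AbFpf.exists_moved (h : AbFpf ρ a B Y) (hr : r.Prime) (ha : a ^ r = 1) (hrF : (r : F) ≠ 0)
    (hBF : (Nat.card B : F) ≠ 0) (hsB : ∀ b ∈ B, s * b * s⁻¹ ∈ B) (hsY : ∀ y ∈ Y, ρ s y ∈ Y)
    (hcomm : a * s = s * a) {N : ℕ} (hsN : s ^ N = 1) (hNr : ¬ r ∣ N) {b : X} (hb : b ∈ B) {y : V} (hy : y ∈ Y)
    (hne : ρ (s * b * s⁻¹) y ≠ ρ b y) :
    ∃ w : V, ρ a w = w ∧ w ∈ mv ρ B Y ∧ ρ s w - w ∈ mv ρ B Y ∧ ρ s w - w ≠ 0 := by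
  by_contra! hcon
  refine hne (h.smove hr ha hrF hBF hsB hsY hcomm hsN hNr (fun w hw haw => ?_) b hb y hy)
  exact sub_eq_zero.mp (hcon w haw hw (Submodule.sub_mem _ (apply_mem_mv hsB hsY hw) hw))

end Cfsg.Agent.TurullOne
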