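/-
The first moved layer: either fixed vectors of the next module lie in the part moved by a good group,
or they form a space large enough for the layer after it.
-/
import Mathlib
import Cfsg.Agent.TurullOne.Smove
import Cfsg.Agent.TurullOne.PieceUse

set_option autoImplicit false
set_option linter.style.haveILetI false
set_option linter.unusedSectionVars false
set_option maxHeartbeats 800000

namespace Cfsg.Agent.TurullOne

open Module Finset

universe v

variable {X : Type*} [Group X] [Finite X] {p q : ℕ} [Fact p.Prime] [Fact q.Prime]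
variable {V : Type v} [AddCommGroup V] [Module (ZMod p) V] [FiniteDimensional (ZMod p) V]
variable {M : Type v} [AddCommGroup M] [Module (ZMod q) M] [FiniteDimensional (ZMod q) M]
variable {ρ : X →* Module.End (ZMod p) V} {π : X →* Module.End (ZMod q) M} {E D S : Subgroup X} {mk : X → M}
variable {a : X} {r o : ℕ} {S0 : Subgroup X} {Cand : Submodule (ZMod p) V}

/-- The first layer moved by `a`, with a group below it centralised by `a`. -/
structure Layer (ρ : X →* Module.End (ZMod p) V) (π : X →* Module.End (ZMod q) M) (E D S : Subgroup X)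
    (mk : X → M) (a : X) (r o : ℕ) (S0 : Subgroup X) : Prop where
  pair : Pair ρ π E D S mk
  hr : r.Prime
  ho : o.Prime
  hro : r ≠ o
  ha : a ^ r = 1
  hrp : (r : ZMod p) ≠ 0
  hrq : (r : ZMod q) ≠ 0
  hrE : (Nat.card E).Coprime r
  hoq : o ≠ q
  hS0 : IsPGroup o S0
  hS0a : ∀ s ∈ S0, a * s = s * a
  hS0D : ∀ s ∈ S0, ∀ d ∈ D, ρ (s * d) = ρ (d * s)
  hmove : ∃ m, π a m ≠ m
  hspan : Submodule.span (ZMod q) {x | ∃ s ∈ S0, ∃ m, π s m - m = x} = ⊤
  hgen : ∀ H ≤ E, (∀ m, ∃ h ∈ H, mk h = m) → ∀ e ∈ E, ∃ h ∈ H, ρ h = ρ e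

/-- A good fixed vector in `Cand`. -/
def GoodAt (ρ : X →* Module.End (ZMod p) V) (E : Subgroup X) (a : X) (Cand : Submodule (ZMod p) V) : Prop :=
  ∃ B : Subgroup X, B ≤ E ∧ ∃ Y : Submodule (ZMod p) V, AbFpf ρ a B Y ∧
    ∃ v ∈ Cand, ρ a v = v ∧ v ∈ mv ρ B Y ∧ v ≠ 0

/-- A large space of fixed vectors in `Cand`. -/
def TOut (ρ : X →* Module.End (ZMod p) V) (E : Subgroup X) (a : X) (r : ℕ) (Cand : Submodule (ZMod p) V)
    (pure : Prop) : Prop :=
  ∃ T : Submodule (ZMod p) V, T ≠ ⊥ ∧ T ≤ Cand ∧ (∀ t ∈ T, ρ a t = t) ∧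
    (∀ Rd : Submodule (ZMod p) V, (∀ e ∈ E, ∀ v ∈ Rd, ρ e v ∈ Rd) → ¬ T ≤ Rd →
      r ≤ finrank (ZMod p) (LinearMap.range (Rd.mkQ ∘ₗ (ρ a - 1)))) ∧
    (pure → ∀ l : V →ₗ[ZMod p] ZMod p,
      (∀ b ∈ E, (∀ t ∈ T, l (ρ b t) = 0) ∨ ∀ v, l (ρ b (ρ a v - v)) = 0) → ∀ t ∈ T, l t = 0)

theorem conj_commSub {x : X} (hx : a * x = x * a) {D₀ : Subgroup X} (hn : ∀ d ∈ D₀, x * d * x⁻¹ ∈ D₀) :
    ∀ b ∈ commSub a D₀, x * b * x⁻¹ ∈ commSub a D₀ := by
  intro b hb
  induction hb using Subgroup.closure_induction with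
  | mem z hz =>
    obtain ⟨d, hd, rfl⟩ := hz
    refine Subgroup.subset_closure ⟨x * d * x⁻¹, hn d hd, ?_⟩
    have hx' : x⁻¹ * a = a * x⁻¹ := by rw [inv_mul_eq_iff_eq_mul, ← mul_assoc, ← hx, mul_inv_cancel_right]
    rw [show a * (x * d * x⁻¹) * a⁻¹ = (a * x) * d * (a * x)⁻¹ by group, hx]
    group
  | one => simp
  | mul y z _ _ hy hz =>
    rw [show x * (y * z) * x⁻¹ = x * y * x⁻¹ * (x * z * x⁻¹) by group]
    exact mul_mem hy hz
  | inv y _ hy =>
    rw [show x * y⁻¹ * x⁻¹ = (x * y * x⁻¹)⁻¹ by group]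
    exact inv_mem hy

namespace Layer

variable (h : Layer ρ π E D S mk a r o S0)

theorem S0_order (h : Layer ρ π E D S mk a r o S0) {s : X} (hs : s ∈ S0) :
    ∃ m : ℕ, s ^ o ^ m = 1 ∧ ¬ r ∣ o ^ m := by
  obtain ⟨m, hm⟩ := h.hS0 ⟨s, hs⟩
  refine ⟨m, by simpa using congrArg Subtype.val hm, fun hd => h.hro ?_⟩
  exact (Nat.prime_dvd_prime_iff_eq h.hr h.ho).mp (h.hr.dvd_of_dvd_pow hd)

theorem exists_nontriv_moved (h : Layer ρ π E D S mk a r o S0) :
    ∃ s ∈ S0, ∃ m, π s (π a m - m) ≠ π a m - m := by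
  by_contra! hcon
  obtain ⟨m₀, hm₀⟩ := h.hmove
  apply hm₀
  have hle : Submodule.span (ZMod q) {x | ∃ s ∈ S0, ∃ m, π s m - m = x} ≤ LinearMap.ker (π a - 1) := by
    rw [Submodule.span_le]
    rintro _ ⟨s, hs, m, rfl⟩
    rw [SetLike.mem_coe, LinearMap.mem_ker, LinearMap.sub_apply, Module.End.one_apply]
    have e := hcon s hs m
    rw [map_sub, ← apply_mul, ← h.hS0a s hs, apply_mul] at e
    rw [map_sub, ← sub_eq_zero.mpr e]
    abel
  rw [h.hspan] at hle
  exact sub_eq_zero.mp (hle (Submodule.mem_top (x := m₀)))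

/-- `a` moves the centre of the layer. -/
theorem good_of_center_moved (h : Layer ρ π E D S mk a r o S0)
    (hcand : ∀ s ∈ S0, ∀ v, ρ a v = v → ρ s v - v ∈ Cand) (hD : ∃ d ∈ D, ρ (a * d * a⁻¹) ≠ ρ d) :
    GoodAt ρ E a Cand := by
  obtain ⟨d₀, hd₀, hne⟩ := hD
  have P := h.pair
  have hn : ∀ x ∈ D, a * x * a⁻¹ ∈ D := fun x hx => P.norm_D a x hx
  have hle := commSub_le hn
  have hB : AbFpf ρ a (commSub a D) ⊤ :=
    abFpf_commSub h.hr h.ha hn (h.hrE.coprime_dvd_left (Subgroup.card_dvd_of_le P.D_le))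
      (fun _ _ _ _ => trivial) (fun _ _ => trivial) (fun b hb c hc y _ => by rw [P.D_central b hb c (P.D_le hc)])
  have hBF : (Nat.card (commSub a D) : ZMod p) ≠ 0 := Weight.card_ne_zero P (hle.trans P.D_le)
  refine ⟨commSub a D, hle.trans P.D_le, ⊤, hB, ?_⟩
  by_contra! hcon
  set Mv := mv ρ (commSub a D) (⊤ : Submodule (ZMod p) V) with hMv
  have hSfix : ∀ s ∈ S0, ∀ v ∈ Mv, ρ s v = v := by
    intro s hs
    have hsB := conj_commSub (a := a) (h.hS0a s hs) (fun x hx => P.norm_D s x hx)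
    intro v hv
    refine sub_eq_zero.mp (hB.kill_of_fixed h.hr h.ha hBF (ρ s - 1) (fun b hb w _ _ h0 => ?_)
      (fun w hw haw => ?_) v hv)
    · simp only [LinearMap.sub_apply, Module.End.one_apply] at h0 ⊢
      rw [← apply_mul, h.hS0D s hs b (hle hb), apply_mul, ← map_sub, h0, map_zero]
    · simp only [LinearMap.sub_apply, Module.End.one_apply]
      by_contra hne'
      refine hne' (hcon _ (hcand s hs w haw) ?_ (Submodule.sub_mem _ (apply_mem_mv hsB (fun _ _ => Submodule.mem_top) hw) hw))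
      rw [map_sub, ← apply_mul, h.hS0a s hs, apply_mul, haw]
  have hEMv : ∀ e ∈ E, ∀ v ∈ Mv, ρ e v ∈ Mv := by
    intro e he v hv
    induction hv using Submodule.span_induction with
    | mem v hv =>
      obtain ⟨b, hb, y, -, rfl⟩ := hv
      rw [map_sub, ← apply_mul, ← P.D_central b (hle hb) e he, apply_mul]
      exact sub_mem_mv hb (Submodule.mem_top (x := ρ e y))
    | zero => rw [map_zero]; exact zero_mem _
    | add u w _ _ hu hw => rw [map_add]; exact add_mem hu hw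
    | smul c u _ hu => rw [map_smul]; exact Submodule.smul_mem _ c hu
  let H : Subgroup X :=
    { carrier := {e | e ∈ E ∧ ∀ v ∈ Mv, ρ e v = v}
      one_mem' := ⟨one_mem _, fun v _ => by simp⟩
      mul_mem' := fun {x y} hx hy => ⟨E.mul_mem hx.1 hy.1, fun v hv => by rw [apply_mul, hy.2 v hv, hx.2 v hv]⟩
      inv_mem' := fun {x} hx => ⟨inv_mem hx.1, fun v hv => by conv_lhs => rw [← hx.2 v hv, apply_inv_apply]⟩ }
  have hsurj : ∀ m, ∃ x ∈ H, mk x = m := by
    intro m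
    have hm : m ∈ (⊤ : Submodule (ZMod q) M) := trivial
    rw [← h.hspan] at hm
    induction hm using Submodule.span_induction with
    | mem m hm =>
      obtain ⟨s, hs, u, rfl⟩ := hm
      obtain ⟨e, he, rfl⟩ := P.mk_surj u
      refine ⟨s * e * s⁻¹ * e⁻¹, ⟨E.mul_mem (P.norm_E s e he) (inv_mem he), fun v hv => ?_⟩, ?_⟩
      · rw [apply_mul, apply_mul, apply_mul]
        have h1 : ρ s⁻¹ (ρ e⁻¹ v) = ρ e⁻¹ v := hSfix _ (inv_mem hs) _ (hEMv _ (inv_mem he) v hv)
        rw [h1, apply_apply_inv, hSfix s hs v hv]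
      · rw [P.mk_mul _ (P.norm_E s e he) _ (inv_mem he), P.mk_conj s e he, P.mk_inv he, sub_eq_add_neg]
    | zero => exact ⟨1, one_mem _, P.mk_one⟩
    | add u w _ _ hu hw =>
      obtain ⟨x, hx, rfl⟩ := hu
      obtain ⟨y, hy, rfl⟩ := hw
      exact ⟨x * y, H.mul_mem hx hy, P.mk_mul x hx.1 y hy.1⟩
    | smul c u _ hu =>
      obtain ⟨x, hx, rfl⟩ := hu
      refine ⟨x ^ c.val, H.pow_mem hx _, ?_⟩
      have hpow : ∀ n : ℕ, mk (x ^ n) = (n : ZMod q) • mk x := by
        intro n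
        induction n with
        | zero => simp [P.mk_one]
        | succ n ih => rw [pow_succ, P.mk_mul _ (E.pow_mem hx.1 n) _ hx.1, ih, Nat.cast_succ, add_smul, one_smul]
      rw [hpow, ZMod.natCast_zmod_val]
  set b := d₀⁻¹ * (a * d₀ * a⁻¹) with hb
  have hbB : b ∈ commSub a D := mem_commSub hd₀
  obtain ⟨x, hx, hxb⟩ := h.hgen H (fun e he => he.1) hsurj b (P.D_le (hle hbB))
  apply hne
  have hb1 : ρ b = 1 := LinearMap.ext fun v =>
    hB.fix_of_fix_mv hBF hbB (fun w hw => by rw [← hxb]; exact hx.2 w hw) v trivial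
  rw [show a * d₀ * a⁻¹ = d₀ * b by rw [hb]; group, map_mul, hb1, mul_one]

/-- The layer acts as an abelian group. -/
theorem good_of_abelian (h : Layer ρ π E D S mk a r o S0)
    (hcand : ∀ s ∈ S0, ∀ v, ρ a v = v → ρ s v - v ∈ Cand)
    (hab : ∀ e ∈ E, ∀ f ∈ E, ρ (e * f) = ρ (f * e)) : GoodAt ρ E a Cand := by
  have P := h.pair
  have hn : ∀ x ∈ E, a * x * a⁻¹ ∈ E := fun x hx => P.norm_E a x hx
  have hle := commSub_le hn
  have hB : AbFpf ρ a (commSub a E) ⊤ :=
    abFpf_commSub h.hr h.ha hn h.hrE (fun _ _ _ _ => trivial) (fun _ _ => trivial)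
      (fun b hb c hc y _ => by rw [hab b hb c hc])
  obtain ⟨s, hs, m, hsm⟩ := h.exists_nontriv_moved
  obtain ⟨e, he, rfl⟩ := P.mk_surj m
  set b := e⁻¹ * (a * e * a⁻¹) with hb
  have hbB : b ∈ commSub a E := mem_commSub he
  have hmkb : mk b = π a (mk e) - mk e := by
    rw [hb, P.mk_mul _ (inv_mem he) _ (hn e he), P.mk_inv he, P.mk_conj a e he]; abel
  obtain ⟨N, hN, hNr⟩ := h.S0_order hs
  obtain ⟨v, hv⟩ : ∃ v, ρ (s * b * s⁻¹) v ≠ ρ b v := by
    by_contra! hall
    apply hsm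
    have hsb := P.norm_E s b (hle hbB)
    have h1 : s * b * s⁻¹ * b⁻¹ ∈ D := P.ker_le _ (E.mul_mem hsb (inv_mem (hle hbB))) (by
      rw [map_mul, show ρ (s * b * s⁻¹) = ρ b from LinearMap.ext hall, ← map_mul, mul_inv_cancel, map_one])
    rw [← P.mk_eq_zero _ (E.mul_mem hsb (inv_mem (hle hbB))), P.mk_mul _ hsb _ (inv_mem (hle hbB)),
      P.mk_conj s b (hle hbB), P.mk_inv (hle hbB), add_neg_eq_zero, hmkb] at h1
    exact h1
  obtain ⟨w, haw, hw, hw', hne⟩ := hB.exists_moved h.hr h.ha h.hrp (Weight.card_ne_zero P hle)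
    (conj_commSub (h.hS0a s hs) fun x hx => P.norm_E s x hx) (fun _ _ => trivial) (h.hS0a s hs) hN hNr hbB
    (Submodule.mem_top (x := v)) hv
  refine ⟨commSub a E, hle, ⊤, hB, _, hcand s hs w haw, ?_, hw', hne⟩
  rw [map_sub, ← apply_mul, h.hS0a s hs, apply_mul, haw]

theorem eq_zero_of_fixed_moved (h : Layer ρ π E D S mk a r o S0) {u : M} (hu : u ∈ LinearMap.range (π a - 1))
    (hfix : π a u = u) : u = 0 := by
  obtain ⟨m, rfl⟩ := hu
  have hsum : ∑ i ∈ range r, π (a ^ i) (π a m - m) = 0 := by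
    rw [Finset.sum_congr rfl fun i _ => (show π (a ^ i) (π a m - m) = π (a ^ (i + 1)) m - π (a ^ i) m by
      rw [map_sub, ← apply_mul, ← pow_succ]), Finset.sum_range_sub (fun i => π (a ^ i) m), h.ha, pow_zero, sub_self]
  rw [Finset.sum_congr rfl fun i _ => pow_apply_eq (a := a) (v := π a m - m) hfix i, Finset.sum_const,
    Finset.card_range, ← Nat.cast_smul_eq_nsmul (ZMod q)] at hsum
  exact (smul_eq_zero.mp hsum).resolve_left h.hrq

/-- A complement of the radical inside the moved part of the layer. -/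
structure Compl (π : X →* Module.End (ZMod q) M) (β : M →ₗ[ZMod q] M →ₗ[ZMod q] ZMod q) (a : X) (S0 : Subgroup X)
    (C0 : Submodule (ZMod q) M) (pr : Module.End (ZMod q) M) : Prop where
  le : C0 ≤ LinearMap.range (π a - 1)
  pr_mem : ∀ u ∈ LinearMap.range (π a - 1), pr u ∈ C0
  pr_self : ∀ u ∈ C0, pr u = u
  pr_a : ∀ m, pr (π a m) = π a (pr m)
  pr_S0 : ∀ s ∈ S0, ∀ m, pr (π s m) = π s (pr m)
  pr_ker : ∀ m, β (m - pr m) = 0
  pr_rad : ∀ z, β z = 0 → pr z = 0
  a_mem : ∀ u ∈ C0, π a u ∈ C0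
  S0_mem : ∀ s ∈ S0, ∀ u ∈ C0, π s u ∈ C0
  nondeg : ∀ u ∈ C0, (∀ w ∈ C0, β u w = 0) → u = 0

theorem natCast_orderOf_ne (h : Layer ρ π E D S mk a r o S0) :
    (Nat.card (Subgroup.zpowers a ⊔ S0 : Subgroup X) : ZMod q) ≠ 0 := by
  refine natCast_card_sup_ne_zero (Subgroup.zpowers_le.mpr (Subgroup.mem_normalizer_iff.mpr fun s => ?_)) ?_ ?_
  · constructor
    · intro hs; rw [h.hS0a s hs, mul_inv_cancel_right]; exact hs
    · intro hs
      have e := h.hS0a _ hs
      rw [inv_mul_cancel_right] at e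
      rwa [mul_left_cancel e] at hs
  · rw [Nat.card_zpowers]
    obtain ⟨j, hj⟩ := orderOf_dvd_of_pow_eq_one h.ha
    intro h0
    exact h.hrq (by rw [hj, Nat.cast_mul, h0, zero_mul])
  · haveI : Fact o.Prime := ⟨h.ho⟩
    exact natCast_ne_zero_of_isPGroup h.hS0 (fun e => h.hoq e.symm)

theorem exists_compl (h : Layer ρ π E D S mk a r o S0) (β : M →ₗ[ZMod q] M →ₗ[ZMod q] ZMod q)
    (halt : ∀ m, β m m = 0) (hinva : ∀ u w, β (π a u) (π a w) = β u w)
    (hinvS : ∀ s ∈ S0, ∀ u w, β (π s u) (π s w) = β u w) : ∃ C0 pr, Compl π β a S0 C0 pr := by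
  classical
  have hRad : ∀ x : X, (∀ u w, β (π x u) (π x w) = β u w) → ∀ z ∈ LinearMap.ker β, π x z ∈ LinearMap.ker β := by
    intro x hx z hz
    rw [LinearMap.mem_ker] at hz ⊢
    refine LinearMap.ext fun w => ?_
    rw [← apply_apply_inv π x w, hx, hz]; rfl
  set G := Subgroup.zpowers a ⊔ S0 with hG
  have hGinv : G ≤ stab π (LinearMap.ker β) :=
    sup_le (Subgroup.zpowers_le.mpr fun z hz => hRad a hinva z hz) fun s hs z hz => hRad s (hinvS s hs) z hz
  obtain ⟨Rc, hRc, hc⟩ := exists_invariant_compl π G (natCast_orderOf_ne h) (LinearMap.ker β) (fun x hx => hGinv hx)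
  let pr : Module.End (ZMod q) M := Rc.subtype ∘ₗ Submodule.projectionOnto Rc (LinearMap.ker β) hc.symm
  have hprR : ∀ u ∈ Rc, pr u = u := fun u hu => by
    show ((Submodule.projectionOnto Rc _ hc.symm ((⟨u, hu⟩ : Rc) : M) : Rc) : M) = u
    rw [Submodule.projectionOnto_apply_left]
  have hprZ : ∀ z ∈ LinearMap.ker β, pr z = 0 := fun z hz => by
    simp [pr, Submodule.projectionOnto_apply_right hc.symm ⟨z, hz⟩]
  have hsplit : ∀ m, ∃ z ∈ LinearMap.ker β, ∃ u ∈ Rc, z + u = m := fun m =>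
    Submodule.mem_sup.mp (by rw [hc.sup_eq_top]; trivial)
  have hprx : ∀ x ∈ G, ∀ m, pr (π x m) = π x (pr m) := by
    intro x hx m
    obtain ⟨z, hz, u, hu, rfl⟩ := hsplit m
    simp only [map_add, hprR u hu, hprR _ (hRc x hx u hu), hprZ z hz, hprZ _ (hGinv hx z hz), map_zero, zero_add]
  have hker : ∀ m, β (m - pr m) = 0 := fun m => by
    obtain ⟨z, hz, u, hu, rfl⟩ := hsplit m
    rw [map_add pr, hprR u hu, hprZ z hz, zero_add, add_sub_cancel_right]
    exact hz
  have hprRc : ∀ m, pr m ∈ Rc := fun m => Submodule.coe_mem _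
  have haG : a ∈ G := le_sup_left (b := S0) (Subgroup.mem_zpowers a)
  have hSG : S0 ≤ G := le_sup_right
  have hprMa : ∀ u ∈ LinearMap.range (π a - 1), pr u ∈ LinearMap.range (π a - 1) := by
    rintro _ ⟨m, rfl⟩
    exact ⟨pr m, by simp only [LinearMap.sub_apply, Module.End.one_apply, map_sub, hprx a haG]⟩
  have hMa : ∀ x, (a * x = x * a) → ∀ u ∈ LinearMap.range (π a - 1), π x u ∈ LinearMap.range (π a - 1) := by
    rintro x hx _ ⟨m, rfl⟩
    exact ⟨π x m, by simp only [LinearMap.sub_apply, Module.End.one_apply, map_sub, ← apply_mul, hx]⟩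
  refine ⟨LinearMap.range (π a - 1) ⊓ Rc, pr,
    { le := inf_le_left
      pr_mem := fun u hu => ⟨hprMa u hu, hprRc u⟩
      pr_self := fun u hu => hprR u hu.2
      pr_a := hprx a haG
      pr_S0 := fun s hs => hprx s (hSG hs)
      pr_ker := hker
      pr_rad := hprZ
      a_mem := fun u hu => ⟨hMa a rfl u hu.1, hRc a haG u hu.2⟩
      S0_mem := fun s hs u hu => ⟨hMa s (h.hS0a s hs) u hu.1, hRc s (hSG hs) u hu.2⟩
      nondeg := ?_ }⟩
  intro u hu hperp
  have h1 : β u = 0 := by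
    refine LinearMap.ext fun m => ?_
    rw [LinearMap.zero_apply]
    set y := tr π a r m with hy
    have hyfix : π a y = y := apply_tr h.ha m
    have horth : β u y = 0 := by
      obtain ⟨m', rfl⟩ := hu.1
      simp only [LinearMap.sub_apply, Module.End.one_apply, map_sub, LinearMap.sub_apply]
      conv_lhs => arg 1; rw [← hyfix]
      rw [hinva, sub_self]
    have hmem : (r : ZMod q) • m - y ∈ LinearMap.range (π a - 1) := by
      rw [show (r : ZMod q) • m - y = ∑ i ∈ range r, (m - π (a ^ i) m) by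
        rw [Finset.sum_sub_distrib, Finset.sum_const, Finset.card_range, Nat.cast_smul_eq_nsmul]; rfl]
      refine Submodule.sum_mem _ fun i _ => ⟨-(tr π a i m), ?_⟩
      show π a (-(tr π a i m)) - -(tr π a i m) = m - π (a ^ i) m
      have e : π a (tr π a i m) - tr π a i m = π (a ^ i) m - m := by
        rw [tr, map_sum, ← Finset.sum_sub_distrib, Finset.sum_congr rfl fun l _ =>
          (show π a (π (a ^ l) m) - π (a ^ l) m = π (a ^ (l + 1)) m - π (a ^ l) m by rw [← apply_mul, ← pow_succ']),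
          Finset.sum_range_sub (fun l => π (a ^ l) m), pow_zero, map_one, Module.End.one_apply]
      rw [map_neg, ← neg_sub (π (a ^ i) m) m, ← e]
      abel
    have h2 := hperp (pr ((r : ZMod q) • m - y)) ⟨hprMa _ hmem, hprRc _⟩
    have h3 : β u ((r : ZMod q) • m - y - pr ((r : ZMod q) • m - y)) = 0 := by
      have hskew : ∀ x w, β x w = - β w x := fun x w => by
        have h0 := halt (x + w)
        simp only [map_add, LinearMap.add_apply, halt, add_zero, zero_add] at h0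
        exact eq_neg_of_add_eq_zero_right h0
      rw [hskew, hker, LinearMap.zero_apply, neg_zero]
    rw [map_sub, h2, sub_zero, map_sub, horth, sub_zero, map_smul, smul_eq_mul] at h3
    exact (mul_eq_zero.mp h3).resolve_left h.hrq
  rw [← hprR u hu.2]
  exact hprZ u h1

end Layer

end Cfsg.Agent.TurullOne
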