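/-
The non-abelian first moved layer with centre fixed by `a`.
-/
import Mathlib
import Cfsg.Agent.TurullOne.Layer

set_option autoImplicit false
set_option linter.style.haveILetI false
set_option linter.unusedSectionVars false
set_option maxHeartbeats 800000

namespace Cfsg.Agent.TurullOne

open Module Finset

universe v

variable {X : Type*} [Group X] [Finite X] {p q : ℕ} [Fact p.Prime] [Fact q.Prime]
variable {V : Type v} [AddCommGroup V] [Module (ZMod p) V] [FiniteDimensional (ZMod p) V]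
variable {M : Type v} [AddCommGroup M] [Module (ZMod q) M] [FiniteDimensional (ZMod q) M]
variable {ρ : X →* Module.End (ZMod p) V} {π : X →* Module.End (ZMod q) M} {E D S : Subgroup X} {mk : X → M}
variable {a : X} {r o : ℕ} {S0 : Subgroup X} {Cand : Submodule (ZMod p) V}
variable {L : Type v} [Field L]

/-- The elements below, one layer deeper. -/
structure Below (ρ : X →* Module.End (ZMod p) V) (π : X →* Module.End (ZMod q) M) (D : Subgroup X) (a : X)
    (S0 X2 : Subgroup X) (Cand : Submodule (ZMod p) V) : Prop where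
  comm : ∀ x ∈ X2, a * x = x * a
  norm : ∀ x ∈ X2, ∀ s ∈ S0, x * s * x⁻¹ ∈ S0
  gen : ∀ s ∈ S0, ∃ c ∈ Subgroup.closure {c | ∃ y ∈ S0, ∃ x ∈ X2, y * x * y⁻¹ * x⁻¹ = c}, π c = π s
  zcand : ∀ x ∈ X2, ∀ d ∈ D, a * d = d * a → ∀ v, ρ a v = v →
    ρ (x * d * x⁻¹ * d⁻¹) (ρ (x * d * x⁻¹ * d⁻¹) v - v) - (ρ (x * d * x⁻¹ * d⁻¹) v - v) ∈ Cand

/-- The part of `C0` moved by `t`. -/
def movedBy (π : X →* Module.End (ZMod q) M) (C0 : Submodule (ZMod q) M) (t : X) : Submodule (ZMod q) M :=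
  C0.map (π t - 1)

theorem sub_pow_mem_movedBy {C0 : Submodule (ZMod q) M} {t : X} (hC : ∀ u ∈ C0, π t u ∈ C0) {c : M} (hc : c ∈ C0)
    (i : ℕ) : c - π (t ^ i) c ∈ movedBy π C0 t := by
  induction i with
  | zero => simp
  | succ i ih =>
    have hci : π (t ^ i) c ∈ C0 := by
      clear ih
      induction i with
      | zero => simpa using hc
      | succ i ih => rw [pow_succ', apply_mul]; exact hC _ ih
    rw [show c - π (t ^ (i + 1)) c = (c - π (t ^ i) c) - (π t - 1) (π (t ^ i) c) by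
      rw [pow_succ', apply_mul, LinearMap.sub_apply, Module.End.one_apply]; abel]
    exact sub_mem ih (Submodule.mem_map_of_mem hci)

/-- The elements fixing `C0`. -/
def fixC (π : X →* Module.End (ZMod q) M) (S0 : Subgroup X) (C0 : Submodule (ZMod q) M) : Subgroup X where
  carrier := {s | s ∈ S0 ∧ ∀ u ∈ C0, π s u = u}
  one_mem' := ⟨one_mem _, fun u _ => by simp⟩
  mul_mem' := fun {x y} hx hy => ⟨S0.mul_mem hx.1 hy.1, fun u hu => by rw [apply_mul, hy.2 u hu, hx.2 u hu]⟩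
  inv_mem' := fun {x} hx => ⟨inv_mem hx.1, fun u hu => by conv_lhs => rw [← hx.2 u hu, apply_inv_apply]⟩

theorem mem_fixC {C0 : Submodule (ZMod q) M} {s : X} : s ∈ fixC π S0 C0 ↔ s ∈ S0 ∧ ∀ u ∈ C0, π s u = u := Iff.rfl

namespace Layer

theorem weight_fix_S0 (h : Layer ρ π E D S mk a r o S0) (K : Kap ρ E D mk L (q := q)) {s : X} (hs : s ∈ S0) :
    ∀ d ∈ D, K.W.ev (s * d * s⁻¹) = K.W.ev d := fun d hd =>
  K.W.ev_congr (h.pair.norm_D s d hd) hd (by rw [map_mul, h.hS0D s hs d hd, ← map_mul, mul_inv_cancel_right])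

theorem oq_ne (h : Layer ρ π E D S mk a r o S0) : (o : ZMod q) ≠ 0 := fun h0 => h.hoq (by
  rw [ZMod.natCast_eq_zero_iff] at h0
  exact ((Nat.prime_dvd_prime_iff_eq Fact.out h.ho).mp h0).symm)

theorem piece (h : Layer ρ π E D S mk a r o S0) (K : Kap ρ E D mk L (q := q)) {C0 : Submodule (ZMod q) M}
    {pr : Module.End (ZMod q) M} (hC : Compl π K.β a S0 C0 pr) {t : X} (ht : t ∈ S0) (htn : t ∉ fixC π S0 C0)
    (hto : t ^ o ∈ fixC π S0 C0) :
    Piece π K a (movedBy π C0 t) ∧ PieceOp π ρ D a t o (movedBy π C0 t) ∧ movedBy π C0 t ≤ C0 := by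
  have hle : movedBy π C0 t ≤ C0 := by
    rintro _ ⟨c, hc, rfl⟩
    exact sub_mem (hC.S0_mem t ht c hc) hc
  have hat : ∀ m, π a (π t m) = π t (π a m) := fun m => by rw [← apply_mul, h.hS0a t ht, apply_mul]
  have hainv : ∀ u ∈ movedBy π C0 t, π a u ∈ movedBy π C0 t := by
    rintro _ ⟨c, hc, rfl⟩
    exact ⟨π a c, hC.a_mem c hc, by simp only [LinearMap.sub_apply, Module.End.one_apply, map_sub, hat]⟩
  have htinv : ∀ u ∈ movedBy π C0 t, π t u ∈ movedBy π C0 t := by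
    rintro _ ⟨c, hc, rfl⟩
    exact ⟨π t c, hC.S0_mem t ht c hc, by simp only [LinearMap.sub_apply, Module.End.one_apply, map_sub]⟩
  have hfpf : ∀ u ∈ movedBy π C0 t, π t u = u → u = 0 := by
    rintro _ ⟨c, hc, rfl⟩ hu
    have hsum : ∑ i ∈ range o, π (t ^ i) ((π t - 1) c) = 0 := by
      rw [Finset.sum_congr rfl fun i _ => (show π (t ^ i) ((π t - 1) c) = π (t ^ (i + 1)) c - π (t ^ i) c by
        rw [LinearMap.sub_apply, Module.End.one_apply, map_sub, ← apply_mul, ← pow_succ]),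
        Finset.sum_range_sub (fun i => π (t ^ i) c), pow_zero, map_one, Module.End.one_apply,
        (mem_fixC.mp hto).2 c hc, sub_self]
    rw [Finset.sum_congr rfl fun i _ => pow_apply_eq hu i, Finset.sum_const, Finset.card_range,
      ← Nat.cast_smul_eq_nsmul (ZMod q)] at hsum
    exact (smul_eq_zero.mp hsum).resolve_left h.oq_ne
  obtain ⟨m, hm, -⟩ := h.S0_order ht
  refine ⟨⟨hainv, fun u hu hfix => h.eq_zero_of_fixed_moved (hC.le (hle hu)) hfix, ?_, ?_⟩,
    ⟨h.ho, h.hoq, ⟨m, hm⟩, h.hS0a t ht, htinv, hfpf, fun u hu => (mem_fixC.mp hto).2 u (hle hu),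
      fun d hd => h.hS0D t ht d hd⟩, hle⟩
  · intro u hu hperp
    refine hC.nondeg u (hle hu) fun c hc => ?_
    have hmem : (o : ZMod q) • c - ∑ i ∈ range o, π (t ^ i) c ∈ movedBy π C0 t := by
      rw [show (o : ZMod q) • c - ∑ i ∈ range o, π (t ^ i) c = ∑ i ∈ range o, (c - π (t ^ i) c) by
        rw [Finset.sum_sub_distrib, Finset.sum_const, Finset.card_range, Nat.cast_smul_eq_nsmul]]
      exact Submodule.sum_mem _ fun i _ => sub_pow_mem_movedBy (hC.S0_mem t ht) hc i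
    set y := ∑ i ∈ range o, π (t ^ i) c with hy
    have hyfix : π t y = y := by
      rw [hy, map_sum]
      have e := Finset.sum_range_succ (fun i => π (t ^ i) c) o
      rw [Finset.sum_range_succ', (mem_fixC.mp hto).2 c hc, pow_zero, map_one, Module.End.one_apply] at e
      rw [Finset.sum_congr rfl fun i _ => (show π t (π (t ^ i) c) = π (t ^ (i + 1)) c by rw [← apply_mul, ← pow_succ'])]
      exact add_right_cancel e
    have horth : K.β u y = 0 := by
      obtain ⟨c', -, rfl⟩ := hu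
      rw [LinearMap.sub_apply, Module.End.one_apply, map_sub, LinearMap.sub_apply]
      conv_lhs => arg 1; rw [← hyfix]
      rw [h.pair.form_inv K.W K.β K.hζ K.hβ (h.weight_fix_S0 K ht), sub_self]
    have h1 := hperp _ hmem
    rw [map_sub, horth, sub_zero, map_smul, smul_eq_mul] at h1
    exact (mul_eq_zero.mp h1).resolve_left h.oq_ne
  · by_contra! hbot
    refine htn (mem_fixC.mpr ⟨ht, fun c hc => sub_eq_zero.mp ?_⟩)
    exact hbot _ (Submodule.mem_map_of_mem (f := π t - 1) hc)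

theorem exists_power (h : Layer ρ π E D S mk a r o S0) {C0 : Submodule (ZMod q) M} {s : X} (hs : s ∈ S0)
    (hsn : s ∉ fixC π S0 C0) : ∃ i : ℕ, s ^ i ∉ fixC π S0 C0 ∧ (s ^ i) ^ o ∈ fixC π S0 C0 := by
  classical
  obtain ⟨m, hm, -⟩ := h.S0_order hs
  have hex : ∃ i, s ^ o ^ i ∈ fixC π S0 C0 := ⟨m, by rw [hm]; exact one_mem _⟩
  obtain ⟨i, hi⟩ : ∃ i, Nat.find hex = i + 1 := by
    refine ⟨Nat.find hex - 1, ?_⟩
    have : Nat.find hex ≠ 0 := fun h0 => hsn (by have := Nat.find_spec hex; rwa [h0, pow_zero, pow_one] at this)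
    omega
  refine ⟨o ^ i, Nat.find_min hex (by omega), ?_⟩
  rw [← pow_mul, ← pow_succ, ← hi]
  exact Nat.find_spec hex

/-- An isotropic invariant subspace gives a good fixed vector. -/
theorem good_of_isotropic (h : Layer ρ π E D S mk a r o S0)
    (hcand : ∀ s ∈ S0, ∀ v, ρ a v = v → ρ s v - v ∈ Cand) (hD : ∀ d ∈ D, ρ (a * d * a⁻¹) = ρ d)
    (K : Kap ρ E D mk L (q := q)) {C0 : Submodule (ZMod q) M} {pr : Module.End (ZMod q) M}
    (hC : Compl π K.β a S0 C0 pr) {U' : Submodule (ZMod q) M} (hU' : U' ≤ C0) (hne : ∃ u ∈ U', u ≠ 0)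
    (hainv : ∀ u ∈ U', π a u ∈ U') (hiso : ∀ u ∈ U', ∀ w ∈ U', K.β u w = 0)
    (hcase : (∀ y ∈ K.Y, ρ a y = y → y ∈ Cand) ∨
      ∃ t ∈ S0, (∀ u ∈ U', π t u ∈ U') ∧ ∀ u ∈ U', π t u = u → u = 0) : GoodAt ρ E a Cand := by
  classical
  have P := h.pair
  set D₀ := P.preimage U' with hD₀
  have hn : ∀ d ∈ D₀, a * d * a⁻¹ ∈ D₀ := fun d hd =>
    ⟨P.norm_E a d hd.1, by rw [P.mk_conj a d hd.1]; exact hainv _ hd.2⟩
  have hle := commSub_le hn
  have hBE : commSub a D₀ ≤ E := hle.trans (P.preimage_le U')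
  have hBF : (Nat.card (commSub a D₀) : ZMod p) ≠ 0 := Weight.card_ne_zero P hBE
  have hB : AbFpf ρ a (commSub a D₀) K.Y :=
    abFpf_commSub h.hr h.ha hn (h.hrE.coprime_dvd_left (Subgroup.card_dvd_of_le (P.preimage_le U')))
      (fun d hd => K.invY_E P hd.1) (K.invY_a P hD)
      (fun b hb c hc y hy => K.comm_of_orth P hb.1 hc.1 (hiso _ hb.2 _ hc.2) hy)
  -- an element over a non-zero vector of the subspace is non-trivial on the space
  have hnontriv : ∀ b ∈ E, mk b ∈ U' → mk b ≠ 0 → ∃ y ∈ K.Y, ρ b y ≠ y := by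
    intro b hb hbU hb0
    by_contra! htriv
    obtain ⟨w, hw, hw0⟩ : ∃ w ∈ C0, K.β (mk b) w ≠ 0 := by
      by_contra! hcon; exact hb0 (hC.nondeg _ (hU' hbU) hcon)
    obtain ⟨f, hf, rfl⟩ := P.mk_surj w
    obtain ⟨y, hy, hy0⟩ := K.Y_ne_bot P
    refine hy0 (K.fixes P (P.comm_mem hb hf) (fun hev => hw0 ((K.pc_eq_one_iff hb hf).mp hev)) hy ?_)
    have h1 : ∀ z ∈ K.Y, ρ b⁻¹ z = z := fun z hz => by conv_lhs => rw [← htriv z hz, apply_inv_apply]
    rw [apply_mul, apply_mul, apply_mul, h1 _ (K.invY_E P (inv_mem hf) y hy), apply_apply_inv, htriv y hy]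
  have hmkB : ∀ u ∈ U', ∃ b ∈ commSub a D₀, mk b = u := by
    intro u hu
    let φ : U' →ₗ[ZMod q] U' := (π a - 1).restrict fun x hx => sub_mem (hainv x hx) hx
    have hφ : Function.Injective φ := by
      rw [← LinearMap.ker_eq_bot, LinearMap.ker_eq_bot']
      intro x hx
      exact Subtype.ext (h.eq_zero_of_fixed_moved (hC.le (hU' x.2)) (sub_eq_zero.mp (congrArg Subtype.val hx)))
    obtain ⟨x, hx⟩ := (LinearMap.injective_iff_surjective.mp hφ) ⟨u, hu⟩
    have hx' : π a (x : M) - x = u := congrArg Subtype.val hx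
    obtain ⟨e, he, hex⟩ := P.mk_surj (x : M)
    refine ⟨e⁻¹ * (a * e * a⁻¹), mem_commSub ⟨he, by rw [hex]; exact x.2⟩, ?_⟩
    rw [P.mk_mul _ (inv_mem he) _ (P.norm_E a e he), P.mk_inv he, P.mk_conj a e he, hex, ← hx']
    abel
  obtain ⟨u, hu, hu0⟩ := hne
  refine ⟨commSub a D₀, hBE, K.Y, hB, ?_⟩
  rcases hcase with hfree | ⟨t, ht, htU, htfpf⟩
  · obtain ⟨b, hb, rfl⟩ := hmkB u hu
    obtain ⟨y, hy, hby⟩ := hnontriv b (hBE hb) hu hu0
    by_contra! hcon
    refine hby (sub_eq_zero.mp (hB.kill_of_fixed h.hr h.ha hBF LinearMap.id (fun c _ w _ _ h0 => ?_)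
      (fun w hw haw => ?_) _ (sub_mem_mv hb hy)))
    · simp only [LinearMap.id_apply] at h0 ⊢
      rw [h0, map_zero]
    · exact hcon w (hfree w (mv_le hB.inv hw) haw) haw hw
  · obtain ⟨b, hb, rfl⟩ := hmkB u hu
    have hbE := hBE hb
    have hbt := P.norm_E t b hbE
    have hmk : mk (t * b * t⁻¹ * b⁻¹) = π t (mk b) - mk b := by
      rw [P.mk_mul _ hbt _ (inv_mem hbE), P.mk_conj t b hbE, P.mk_inv hbE, sub_eq_add_neg]
    obtain ⟨z, hz, hzne⟩ := hnontriv (t * b * t⁻¹ * b⁻¹) (E.mul_mem hbt (inv_mem hbE))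
      (by rw [hmk]; exact sub_mem (htU _ hu) hu)
      (by rw [hmk]; exact fun h0 => hu0 (htfpf _ hu (sub_eq_zero.mp h0)))
    have hne' : ρ (t * b * t⁻¹) (ρ b⁻¹ z) ≠ ρ b (ρ b⁻¹ z) := by rwa [← apply_mul, apply_apply_inv]
    obtain ⟨N, hN, hNr⟩ := h.S0_order ht
    have hta := h.hS0a t ht
    obtain ⟨w, haw, hw, hw', hnz⟩ := hB.exists_moved h.hr h.ha h.hrp hBF
      (conj_commSub hta fun x hx => ⟨P.norm_E t x hx.1, by rw [P.mk_conj t x hx.1]; exact htU _ hx.2⟩)
      (K.invY_t P (h.hS0D t ht)) hta hN hNr hb (K.invY_E P (inv_mem hbE) z hz) hne'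
    refine ⟨_, hcand t ht w haw, ?_, hw', hnz⟩
    rw [map_sub, ← apply_mul, hta, apply_mul, haw]

theorem card_sub (U : Submodule (ZMod q) M) : Nat.card U = q ^ finrank (ZMod q) U := by
  rw [Module.natCard_eq_pow_finrank (K := ZMod q) (V := U), Nat.card_zmod]

theorem comm_of_irreducible {U : Submodule (ZMod q) M}
    (hirr : ∀ W ≤ U, (∀ u ∈ W, π a u ∈ W) → W = ⊥ ∨ W = U) (hUa : ∀ u ∈ U, π a u ∈ U)
    {f g : Module.End (ZMod q) M} (hf : ∀ u ∈ U, f u ∈ U)
    (hfa : ∀ u ∈ U, f (π a u) = π a (f u)) (hga : ∀ u ∈ U, g (π a u) = π a (g u)) (hg : ∀ u ∈ U, g u ∈ U) :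
    ∀ u ∈ U, f (g u) = g (f u) := by
  intro u hu
  by_cases hu0 : u = 0
  · subst hu0; simp
  set Z : Submodule (ZMod q) M := Submodule.span (ZMod q) (Set.range fun i : ℕ => π (a ^ i) u) with hZ
  have hpow : ∀ i : ℕ, π (a ^ i) u ∈ U := fun i => by
    induction i with
    | zero => simpa using hu
    | succ i ih => rw [pow_succ', apply_mul]; exact hUa _ ih
  have hZU : Z ≤ U := Submodule.span_le.mpr (by rintro _ ⟨i, rfl⟩; exact hpow i)
  have hZa : ∀ z ∈ Z, π a z ∈ Z := by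
    intro z hz
    induction hz using Submodule.span_induction with
    | mem z hz => obtain ⟨i, rfl⟩ := hz; exact Submodule.subset_span ⟨i + 1, by rw [← apply_mul, ← pow_succ']⟩
    | zero => rw [map_zero]; exact zero_mem _
    | add x y _ _ hx hy => rw [map_add]; exact add_mem hx hy
    | smul c x _ hx => rw [map_smul]; exact Submodule.smul_mem _ c hx
  have hZU' : Z = U := (hirr Z hZU hZa).resolve_left fun hb => hu0 (by
    have : u ∈ Z := Submodule.subset_span ⟨0, by simp⟩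
    rwa [hb, Submodule.mem_bot] at this)
  have hcomm : ∀ (φ : Module.End (ZMod q) M), (∀ v ∈ U, φ (π a v) = π a (φ v)) → ∀ i, φ (π (a ^ i) u) = π (a ^ i) (φ u) := by
    intro φ hφ i
    induction i with
    | zero => simp
    | succ i ih => rw [pow_succ', apply_mul, apply_mul, hφ _ (hpow i), ih]
  have hfu : f u ∈ Submodule.span (ZMod q) (Set.range fun i : ℕ => π (a ^ i) u) := by rw [← hZ, hZU']; exact hf u hu
  obtain ⟨α, hα⟩ := (Finsupp.mem_span_range_iff_exists_finsupp).mp hfu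
  have hgu : g u ∈ Submodule.span (ZMod q) (Set.range fun i : ℕ => π (a ^ i) u) := by rw [← hZ, hZU']; exact hg u hu
  obtain ⟨γ, hγ⟩ := (Finsupp.mem_span_range_iff_exists_finsupp).mp hgu
  conv_rhs => rw [← hα]
  conv_lhs => rw [← hγ]
  simp only [map_finsuppSum, map_smul, hcomm f hfa, hcomm g hga, ← hα, ← hγ, ← apply_mul, ← pow_add,
    Finsupp.smul_sum, smul_smul]
  rw [Finsupp.sum_comm]
  refine Finsupp.sum_congr fun i _ => Finsupp.sum_congr fun j _ => ?_
  rw [mul_comm, add_comm]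

/-- The fixed vectors of the module above, for a weight whose whole piece is fixed. -/
theorem no_small (h : Layer ρ π E D S mk a r o S0) (hD : ∀ d ∈ D, ρ (a * d * a⁻¹) = ρ d)
    (K : Kap ρ E D mk L (q := q)) {C0 : Submodule (ZMod q) M} {pr : Module.End (ZMod q) M}
    (hC : Compl π K.β a S0 C0 pr)
    (hsmall : ∀ t ∈ S0, t ∉ fixC π S0 C0 → t ^ o ∈ fixC π S0 C0 →
      o = 2 ∧ (∃ n, n ^ 2 = Nat.card (movedBy π C0 t) ∧ n ≤ 3 * r - 1) ∧
      ∀ U' ≤ movedBy π C0 t, (∀ m ∈ U', π a m ∈ U') → (∀ m ∈ U', π t m ∈ U') →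
        (∀ u ∈ U', ∀ w ∈ U', K.β u w = 0) → U' = ⊥)
    {X2 : Subgroup X} (hX : Below ρ π D a S0 X2 Cand)
    (hfix : ∀ x ∈ X2, ∀ d ∈ D, K.W.ev (x * d * x⁻¹) = K.W.ev d)
    {s₁ : X} (hs₁ : s₁ ∈ S0) (hs₁n : s₁ ∉ fixC π S0 C0) : False := by
  classical
  have P := h.pair
  haveI : Fact o.Prime := ⟨h.ho⟩
  have hinva := P.form_inv K.W K.β K.hζ K.hβ (x := a) fun d hd => K.W.ev_congr (P.norm_D a d hd) hd (hD d hd)
  have hbig : ∀ t ∈ S0, ∀ (htn : t ∉ fixC π S0 C0), t ^ o ∈ fixC π S0 C0 →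
      ∀ W ≤ movedBy π C0 t, (∀ u ∈ W, π a u ∈ W) → W = ⊥ ∨ W = movedBy π C0 t := by
    intro t ht htn hto W1 hW1 hW1a
    obtain ⟨ho2, ⟨n, hn, hnle⟩, hiso⟩ := hsmall t ht htn hto
    obtain ⟨hU, hUt, hUC⟩ := h.piece K hC ht htn hto
    set U := movedBy π C0 t
    have hneg : ∀ u ∈ U, π t u = -u := by
      intro u hu
      refine eq_neg_of_add_eq_zero_left (hUt.fpf _ (add_mem (hUt.inv u hu) hu) ?_)
      have h2 := hUt.pow_fix u hu
      rw [ho2, sq, apply_mul] at h2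
      rw [map_add, h2, add_comm]
    by_cases hb : W1 = ⊥
    · exact Or.inl hb
    refine Or.inr ?_
    by_contra hne
    have hW1t : ∀ u ∈ W1, π t u ∈ W1 := fun u hu => by rw [hneg u (hW1 hu)]; exact neg_mem hu
    let perp : Submodule (ZMod q) M → Submodule (ZMod q) M := fun W =>
      { carrier := {u | ∀ w ∈ W, K.β u w = 0}
        add_mem' := fun {x y} hx hy w hw => by rw [map_add, LinearMap.add_apply, hx w hw, hy w hw, add_zero]
        zero_mem' := fun w _ => by simp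
        smul_mem' := fun c x hx w hw => by rw [map_smul, LinearMap.smul_apply, hx w hw, smul_zero] }
    have hperp : ∀ W u, u ∈ perp W ↔ ∀ w ∈ W, K.β u w = 0 := fun W u => Iff.rfl
    have hperpa : ∀ W : Submodule (ZMod q) M, (∀ w ∈ W, π a w ∈ W) → ∀ u ∈ perp W, π a u ∈ perp W := by
      intro W hW u hu
      refine (hperp _ _).mpr fun w hw => ?_
      have haW : a ∈ stab π W := hW
      rw [← apply_apply_inv π a w, hinva]
      exact hu _ ((inv_mem haW : a⁻¹ ∈ stab π W) w hw)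
    have hnd : W1 ⊓ perp W1 = ⊥ := hiso _ (inf_le_left.trans hW1)
      (fun m hm => ⟨hW1a m hm.1, hperpa W1 hW1a m hm.2⟩)
      (fun m hm => by rw [hneg m (hW1 hm.1)]; exact neg_mem hm) fun u hu w hw => hu.2 w hw.1
    set W2 := U ⊓ perp W1 with hW2
    -- the orthogonal decomposition
    let Φ : U →ₗ[ZMod q] Module.Dual (ZMod q) W1 := (W1.subtype.dualMap).comp (K.β.comp U.subtype)
    have hker : (LinearMap.ker Φ).map U.subtype = W2 := by
      ext u
      constructor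
      · rintro ⟨v, hv, rfl⟩
        exact ⟨v.2, fun w hw => LinearMap.congr_fun (LinearMap.mem_ker.mp hv) ⟨w, hw⟩⟩
      · intro hu
        exact ⟨⟨u, hu.1⟩, LinearMap.mem_ker.mpr (LinearMap.ext fun w => hu.2 w w.2), rfl⟩
    have hdim : finrank (ZMod q) U ≤ finrank (ZMod q) W1 + finrank (ZMod q) W2 := by
      rw [← LinearMap.finrank_range_add_finrank_ker Φ, ← hker, Submodule.finrank_map_subtype_eq]
      refine Nat.add_le_add_right ?_ _
      exact (Submodule.finrank_le _).trans Subspace.dual_finrank_eq.le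
    have hdisj : W1 ⊓ W2 = ⊥ := eq_bot_iff.mpr fun u hu => hnd ▸ ⟨hu.1, hu.2.2⟩
    have hsum := Submodule.finrank_sup_add_finrank_inf_eq W1 W2
    rw [hdisj, finrank_bot, add_zero] at hsum
    have hleU : W1 ⊔ W2 ≤ U := sup_le hW1 inf_le_left
    have hsup : W1 ⊔ W2 = U := Submodule.eq_of_le_of_finrank_le hleU (by omega)
    have hW2ne : W2 ≠ ⊥ := fun e => hne (by rw [← hsup, e, sup_bot_eq])
    have hp1 : Piece π K a W1 := ⟨hW1a, fun u hu => hU.afpf u (hW1 hu),
      fun u hu hperp' => (Submodule.eq_bot_iff _).mp hnd u ⟨hu, hperp'⟩, Submodule.exists_mem_ne_zero_of_ne_bot hb⟩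
    have hp2 : Piece π K a W2 := ⟨fun u hu => ⟨hU.ainv u hu.1, hperpa W1 hW1a u hu.2⟩, fun u hu => hU.afpf u hu.1,
      fun u hu hperp' => hU.nondeg u hu.1 fun w hw => by
        rw [← hsup] at hw
        obtain ⟨x, hx, y, hy, rfl⟩ := Submodule.mem_sup.mp hw
        rw [map_add, hu.2 x hx, hperp' y hy, add_zero],
      Submodule.exists_mem_ne_zero_of_ne_bot hW2ne⟩
    have hop : ∀ W : Submodule (ZMod q) M, W ≤ U → PieceOp π ρ D a t o W := fun W hW =>
      { ho := hUt.ho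
        oq := hUt.oq
        ord := hUt.ord
        comm := hUt.comm
        inv := fun u hu => by rw [hneg u (hW hu)]; exact neg_mem hu
        fpf := fun u hu => hUt.fpf u (hW hu)
        pow_fix := fun u hu => hUt.pow_fix u (hW hu)
        D_fix := hUt.D_fix }
    obtain ⟨n1, hn1, hn1r⟩ := (exists_fixed_above hp1 hD h.hr h.ha h.hrp h.hro (hop W1 hW1) P).2.1
    obtain ⟨n2, hn2, hn2r⟩ := (exists_fixed_above hp2 hD h.hr h.ha h.hrp h.hro (hop W2 inf_le_left) P).2.1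
    have hcard : Nat.card U = Nat.card W1 * Nat.card W2 := by
      rw [card_sub, card_sub, card_sub, ← pow_add, ← hsum, hsup]
    rw [← hn, ← hn1, ← hn2, ← mul_pow] at hcard
    have hnn : n = n1 * n2 := Nat.pow_left_injective two_ne_zero hcard
    have : (r + 2) * (r + 2) ≤ n := hnn ▸ Nat.mul_le_mul hn1r hn2r
    have := h.hr.two_le
    have : (r + 2) * (r + 2) = r * r + 4 * r + 4 := by ring
    omega
  -- a central involution of the operators of `S0` on `C0`
  let g : S0 →* Module.End (ZMod q) C0 :=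
    { toFun := fun s => (π (s : X)).restrict fun u hu => hC.S0_mem _ s.2 u hu
      map_one' := LinearMap.ext fun u => Subtype.ext (by simp)
      map_mul' := fun x y => LinearMap.ext fun u => Subtype.ext (apply_mul π (x : X) y u) }
  have hg : ∀ s : S0, g.toHomUnits s = 1 ↔ (s : X) ∈ fixC π S0 C0 := by
    intro s
    rw [Units.ext_iff, mem_fixC]
    constructor
    · intro e
      exact ⟨s.2, fun u hu => congrArg Subtype.val (LinearMap.congr_fun e ⟨u, hu⟩)⟩
    · intro e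
      exact LinearMap.ext fun u => Subtype.ext (e.2 u u.2)
  set H := g.toHomUnits.range
  haveI : Finite H := Finite.of_surjective _ g.toHomUnits.rangeRestrict_surjective
  have hH : IsPGroup o H := h.hS0.of_surjective _ g.toHomUnits.rangeRestrict_surjective
  haveI : Nontrivial H := by
    refine ⟨⟨g.toHomUnits.rangeRestrict ⟨s₁, hs₁⟩, 1, fun e => hs₁n ((hg ⟨s₁, hs₁⟩).mp ?_)⟩⟩
    exact congrArg Subtype.val e
  haveI : Nontrivial (Subgroup.center H) := hH.center_nontrivial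
  obtain ⟨c, hc⟩ := exists_prime_orderOf_dvd_card' (G := Subgroup.center H) o (by
    obtain ⟨k, hk⟩ := (hH.to_subgroup (Subgroup.center H)).exists_card_eq
    rw [hk]
    refine dvd_pow_self o fun h0 => ?_
    rw [h0, pow_zero] at hk
    exact (Finite.one_lt_card (α := Subgroup.center H)).ne' hk)
  obtain ⟨⟨tS, htS⟩, htc⟩ := g.toHomUnits.rangeRestrict_surjective (c : H)
  have htn : tS ∉ fixC π S0 C0 := fun hf => by
    have h1 : (c : H) = 1 := by rw [← htc]; exact Subtype.ext ((hg ⟨tS, htS⟩).mpr hf)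
    have : orderOf c = 1 := orderOf_eq_one_iff.mpr (Subtype.ext h1)
    rw [hc] at this
    exact h.ho.one_lt.ne' this
  have hto : tS ^ o ∈ fixC π S0 C0 := by
    refine (hg (⟨tS, htS⟩ ^ o)).mp ?_
    have h1 : (c : H) ^ o = 1 := by rw [← SubmonoidClass.coe_pow, ← hc, pow_orderOf_eq_one]; rfl
    rw [← htc, ← map_pow] at h1
    exact congrArg Subtype.val h1
  have hcentral : ∀ s ∈ S0, ∀ u ∈ C0, π tS (π s u) = π s (π tS u) := by
    intro s hs u hu
    have h1 := (Subgroup.mem_center_iff.mp c.2 (g.toHomUnits.rangeRestrict ⟨s, hs⟩)).symm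
    rw [← htc, ← map_mul, ← map_mul] at h1
    have h2 := congrArg (fun z : H => (((((z : (Module.End (ZMod q) C0)ˣ)) : Module.End (ZMod q) C0) ⟨u, hu⟩ : C0) : M)) h1
    simp only [MonoidHom.coe_rangeRestrict, MonoidHom.coe_toHomUnits] at h2
    change π (tS * s) u = π (s * tS) u at h2
    rwa [apply_mul, apply_mul] at h2
  obtain ⟨ho2, -, -⟩ := hsmall tS htS htn hto
  have hq2 : (2 : ZMod q) ≠ 0 := by have := h.oq_ne; rw [ho2] at this; exact_mod_cast this
  obtain ⟨hU, hUt, hUC⟩ := h.piece K hC htS htn hto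
  set U := movedBy π C0 tS with hUdef
  have hUirr := hbig tS htS htn hto
  have hmem : ∀ (t : X), ∀ c ∈ C0, π t c - c ∈ movedBy π C0 t := fun t c hc => ⟨c, hc, rfl⟩
  have hneg : ∀ t ∈ S0, t ∉ fixC π S0 C0 → t ^ o ∈ fixC π S0 C0 → ∀ u ∈ movedBy π C0 t, π t u = -u := by
    intro t ht hn' hto' u hu
    obtain ⟨-, ht', hle'⟩ := h.piece K hC ht hn' hto'
    refine eq_neg_of_add_eq_zero_left (ht'.fpf _ (add_mem (ht'.inv u hu) hu) ?_)
    have h2 := ht'.pow_fix u hu
    rw [ho2, sq, apply_mul] at h2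
    rw [map_add, h2, add_comm]
  have hdouble : ∀ u : M, u = -u → u = 0 := fun u e => by
    have : (2 : ZMod q) • u = 0 := by rw [two_smul]; nth_rewrite 1 [e]; exact neg_add_cancel u
    exact (smul_eq_zero.mp this).resolve_left hq2
  have hinvU : ∀ s ∈ S0, ∀ u ∈ U, π s u ∈ U := by
    rintro s hs _ ⟨c, hc, rfl⟩
    refine ⟨π s c, hC.S0_mem s hs c hc, ?_⟩
    simp only [LinearMap.sub_apply, Module.End.one_apply, map_sub, hcentral s hs c hc]
  -- every element outside acts non-trivially on `U`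
  have hact : ∀ s ∈ S0, (∀ u ∈ U, π s u = u) → s ∈ fixC π S0 C0 := by
    intro s hs hfixU
    by_contra hsn
    obtain ⟨i, hin, hio⟩ := h.exists_power hs hsn
    set t' := s ^ i
    have ht' : t' ∈ S0 := S0.pow_mem hs i
    have ht'U : ∀ u ∈ U, π t' u = u := fun u hu => pow_apply_eq (hfixU u hu) i
    obtain ⟨hU', hUt', hUC'⟩ := h.piece K hC ht' hin hio
    set U' := movedBy π C0 t'
    have hne' := hU'.ne_bot
    have hUU' : ∀ u ∈ U, u ∈ U' → u = 0 := fun u hu hu' =>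
      hdouble u ((ht'U u hu).symm.trans (hneg t' ht' hin hio u hu'))
    let F : Submodule (ZMod q) M := U' ⊓ LinearMap.ker (π tS - 1)
    have hFmem : ∀ u, u ∈ F ↔ u ∈ U' ∧ π tS u = u := fun u => by simp [F, sub_eq_zero]
    rcases hbig t' ht' hin hio F inf_le_left (fun u hu => (hFmem _).mpr ⟨hU'.ainv u ((hFmem u).mp hu).1, by
        rw [← apply_mul, ← h.hS0a tS htS, apply_mul, ((hFmem u).mp hu).2]⟩) with hF | hF
    · obtain ⟨u, hu, hu0⟩ := hne'
      refine hu0 (hUU' u ?_ hu)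
      have htu : π tS u = -u := by
        refine eq_neg_of_add_eq_zero_left ((Submodule.eq_bot_iff _).mp hF _ ((hFmem _).mpr ⟨?_, ?_⟩))
        · obtain ⟨c, hc, rfl⟩ := hu
          refine add_mem ⟨π tS c, hC.S0_mem tS htS c hc, ?_⟩ ⟨c, hc, rfl⟩
          simp only [LinearMap.sub_apply, Module.End.one_apply, map_sub, hcentral t' ht' c hc]
        · have h2 := (mem_fixC.mp hto).2 u (hUC' hu)
          rw [ho2, sq, apply_mul] at h2
          rw [map_add, h2, add_comm]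
      have : (2 : ZMod q) • u ∈ U := by
        have h1 := hmem tS u (hUC' hu)
        rw [htu] at h1
        have := neg_mem h1
        rwa [neg_sub, sub_neg_eq_add, ← two_smul (ZMod q)] at this
      simpa [smul_smul, hq2] using U.smul_mem (2 : ZMod q)⁻¹ this
    · -- the product moves a larger space
      set tt := tS * t'
      have htt : tt ∈ S0 := S0.mul_mem htS ht'
      have htU' : ∀ u ∈ U', π tS u = u := fun u hu => ((hFmem u).mp (hF.symm ▸ hu)).2
      have hUtt : U ≤ movedBy π C0 tt := by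
        intro u hu
        have h1 := hmem tt u (hUC hu)
        rw [apply_mul, ht'U u hu, hneg tS htS htn hto u hu] at h1
        have h1' := neg_mem h1
        rw [neg_sub, sub_neg_eq_add, ← two_smul (ZMod q)] at h1'
        simpa [smul_smul, hq2] using (movedBy π C0 tt).smul_mem (2 : ZMod q)⁻¹ h1'
      have hU'tt : U' ≤ movedBy π C0 tt := by
        intro u hu
        have h1 := hmem tt u (hUC' hu)
        rw [apply_mul, hneg t' ht' hin hio u hu, map_neg, htU' u hu] at h1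
        have h1' := neg_mem h1
        rw [neg_sub, sub_neg_eq_add, ← two_smul (ZMod q)] at h1'
        simpa [smul_smul, hq2] using (movedBy π C0 tt).smul_mem (2 : ZMod q)⁻¹ h1'
      have httn : tt ∉ fixC π S0 C0 := fun hf => by
        obtain ⟨u, hu, hu0⟩ := hU.ne_bot
        obtain ⟨c, hc, hcu⟩ := hUtt hu
        rw [LinearMap.sub_apply, Module.End.one_apply, (mem_fixC.mp hf).2 c hc, sub_self] at hcu
        exact hu0 hcu.symm
      have htto : tt ^ o ∈ fixC π S0 C0 := mem_fixC.mpr ⟨S0.pow_mem htt o, fun u hu => by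
        have hb := (mem_fixC.mp hio).2 u hu
        have ha' := (mem_fixC.mp hto).2 u hu
        rw [ho2, sq, apply_mul] at hb ha'
        rw [ho2, sq, apply_mul, apply_mul, apply_mul, ← hcentral t' ht' _ (hC.S0_mem t' ht' u hu), hb, ha']⟩
      obtain ⟨u, hu, hu0⟩ := hne'
      rcases hbig tt htt httn htto U hUtt hU.ainv with hb | he
      · obtain ⟨u', hu', hu0'⟩ := hU.ne_bot
        exact hu0' ((Submodule.eq_bot_iff _).mp hb u' hu')
      · exact hu0 (hUU' u (he.symm ▸ hU'tt hu) hu)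
  -- the elements of `X2`
  have hMa : ∀ x, a * x = x * a → ∀ u ∈ LinearMap.range (π a - 1), π x u ∈ LinearMap.range (π a - 1) := by
    rintro x hx _ ⟨m, rfl⟩
    exact ⟨π x m, by simp only [LinearMap.sub_apply, Module.End.one_apply, map_sub, ← apply_mul, hx]⟩
  have hRad : ∀ x ∈ X2, ∀ z, K.β z = 0 → K.β (π x z) = 0 := fun x hx z hz => LinearMap.ext fun w => by
    rw [← apply_apply_inv π x w, P.form_inv K.W K.β K.hζ K.hβ (hfix x hx), hz]; rfl
  have hxpr : ∀ x ∈ X2, ∀ m, pr (π x (pr m)) = pr (π x m) := fun x hx m => by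
    have h1 := hC.pr_rad _ (hRad x hx _ (hC.pr_ker m))
    rw [map_sub, map_sub, sub_eq_zero] at h1
    exact h1.symm
  have hxC : ∀ x ∈ X2, ∀ u ∈ C0, pr (π x u) ∈ C0 := fun x hx u hu =>
    hC.pr_mem _ (hMa x (hX.comm x hx) u (hC.le hu))
  have hconjfix : ∀ x ∈ X2, ∀ s ∈ fixC π S0 C0, x * s * x⁻¹ ∈ fixC π S0 C0 := by
    intro x hx s hs
    refine mem_fixC.mpr ⟨hX.norm x hx s hs.1, fun u hu => ?_⟩
    rw [← hC.pr_self _ (hC.S0_mem _ (hX.norm x hx s hs.1) u hu), apply_mul, apply_mul, ← hxpr x hx,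
      hC.pr_S0 s hs.1, (mem_fixC.mp hs).2 _ (hxC _ (inv_mem hx) u hu), hxpr x hx, apply_apply_inv, hC.pr_self u hu]
  have hsame : ∀ t' ∈ S0, t' ∉ fixC π S0 C0 → t' ^ o ∈ fixC π S0 C0 → ∀ c ∈ C0, π t' c = π tS c := by
    intro t' ht' hin hio c hc
    obtain ⟨hU', hUt', hUC'⟩ := h.piece K hC ht' hin hio
    let F : Submodule (ZMod q) M := U ⊓ LinearMap.ker (π t' - 1)
    have hFmem : ∀ u, u ∈ F ↔ u ∈ U ∧ π t' u = u := fun u => by simp [F, sub_eq_zero]
    rcases hUirr F inf_le_left (fun u hu => (hFmem _).mpr ⟨hU.ainv u ((hFmem u).mp hu).1, by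
        rw [← apply_mul, ← h.hS0a t' ht', apply_mul, ((hFmem u).mp hu).2]⟩) with hF | hF
    · have htneg : ∀ u ∈ U, π t' u = -u := fun u hu => by
        refine eq_neg_of_add_eq_zero_left ((Submodule.eq_bot_iff _).mp hF _ ((hFmem _).mpr
          ⟨add_mem (hinvU t' ht' u hu) hu, ?_⟩))
        have h2 := (mem_fixC.mp hio).2 u (hUC hu)
        rw [ho2, sq, apply_mul] at h2
        rw [map_add, h2, add_comm]
      have hUU : U = movedBy π C0 t' := by
        refine (hbig t' ht' hin hio U (fun u hu => ?_) hU.ainv).resolve_left fun hb => ?_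
        · have h1 := hmem t' u (hUC hu)
          rw [htneg u hu] at h1
          have h1' := neg_mem h1
          rw [neg_sub, sub_neg_eq_add, ← two_smul (ZMod q)] at h1'
          simpa [smul_smul, hq2] using (movedBy π C0 t').smul_mem (2 : ZMod q)⁻¹ h1'
        · obtain ⟨u', hu', hu0'⟩ := hU.ne_bot
          exact hu0' ((Submodule.eq_bot_iff _).mp hb u' hu')
      have h1 : π t' (π tS c - c) = -(π tS c - c) := htneg _ (hmem tS c hc)
      have h2 : π tS (π t' c - c) = -(π t' c - c) := hneg tS htS htn hto _ (show π t' c - c ∈ U by rw [hUU]; exact hmem t' c hc)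
      rw [map_sub] at h1 h2
      rw [hcentral t' ht' c hc] at h2
      rw [← sub_eq_zero]
      refine hdouble _ (sub_eq_zero.mp ?_)
      have h3 : π t' (π tS c) = π t' c + c - π tS c := by rw [sub_eq_iff_eq_add] at h1; rw [h1]; abel
      rw [h3] at h2
      rw [sub_eq_iff_eq_add] at h2
      rw [← sub_eq_zero] at h2
      rw [← h2]; abel
    · exact absurd (hact t' ht' fun u hu => ((hFmem u).mp (hF.symm ▸ hu)).2) hin
  have hxU : ∀ x ∈ X2, ∀ u ∈ U, pr (π x u) ∈ U := by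
    rintro x hx _ ⟨c, hc, rfl⟩
    set t' := x * tS * x⁻¹ with ht'
    have ht'n : t' ∉ fixC π S0 C0 := fun hf => htn (by
      have := hconjfix x⁻¹ (inv_mem hx) _ hf
      rwa [ht', inv_inv, show x⁻¹ * (x * tS * x⁻¹) * x = tS by group] at this)
    have ht'o : t' ^ o ∈ fixC π S0 C0 := by rw [ht', conj_pow]; exact hconjfix x hx _ hto
    refine ⟨pr (π x c), hxC x hx c hc, ?_⟩
    have hsw : π x (π tS c) = π t' (π x c) := by
      rw [← apply_mul, ← apply_mul, ht', inv_mul_cancel_right]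
    simp only [LinearMap.sub_apply, Module.End.one_apply, map_sub, hsw, hC.pr_S0 t' (hX.norm x hx tS htS),
      hsame t' (hX.norm x hx tS htS) ht'n ht'o _ (hxC x hx c hc)]
  have hcl : ∀ z ∈ Subgroup.closure {c | ∃ y ∈ S0, ∃ x ∈ X2, y * x * y⁻¹ * x⁻¹ = c}, z ∈ fixC π S0 C0 := by
    intro z hz
    refine Subgroup.closure_le (K := fixC π S0 C0) |>.mpr ?_ hz
    rintro _ ⟨y, hy, x, hx, rfl⟩
    have hm : y * x * y⁻¹ * x⁻¹ ∈ S0 := by
      rw [show y * x * y⁻¹ * x⁻¹ = y * (x * y⁻¹ * x⁻¹) by group]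
      exact S0.mul_mem hy (hX.norm x hx _ (inv_mem hy))
    refine hact _ hm fun u hu => ?_
    have key := comm_of_irreducible (π := π) (a := a) (U := U) hUirr hU.ainv (f := π y) (g := pr * π x)
      (hinvU y hy) (fun v _ => by rw [← apply_mul, ← h.hS0a y hy, apply_mul])
      (fun v _ => by rw [Module.End.mul_apply, Module.End.mul_apply, ← apply_mul, ← hX.comm x hx, apply_mul, hC.pr_a])
      (fun v hv => hxU x hx v hv)
    have hw := hxU x⁻¹ (inv_mem hx) u hu
    have hw' := hinvU y⁻¹ (inv_mem hy) _ hw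
    rw [← hC.pr_self _ (hC.S0_mem _ hm u (hUC hu)), apply_mul, apply_mul, apply_mul, hC.pr_S0 y hy, ← hxpr x hx,
      hC.pr_S0 _ (inv_mem hy)]
    rw [show π y (pr (π x (π y⁻¹ (pr (π x⁻¹ u))))) = pr (π x (π y (π y⁻¹ (pr (π x⁻¹ u))))) from key _ hw',
      apply_apply_inv, hxpr x hx, apply_apply_inv, hC.pr_self u (hUC hu)]
  obtain ⟨c', hc', hcs⟩ := hX.gen s₁ hs₁
  exact hs₁n (mem_fixC.mpr ⟨hs₁, fun u hu => by rw [← hcs]; exact (mem_fixC.mp (hcl _ hc')).2 u hu⟩)

/-- The non-abelian layer with centre fixed by `a`. -/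
theorem out (h : Layer ρ π E D S mk a r o S0)
    (hcand : ∀ s ∈ S0, ∀ v, ρ a v = v → ρ s v - v ∈ Cand) (hab : ∃ e ∈ E, ∃ f ∈ E, ρ (e * f) ≠ ρ (f * e))
    (hD : ∀ d ∈ D, ρ (a * d * a⁻¹) = ρ d)
    (hx : (∀ v, ρ a v = v → v ∈ Cand) ∨ ∃ X2, Below ρ π D a S0 X2 Cand) :
    GoodAt ρ E a Cand ∨
      ((∃ s ∈ S0, ∃ v, ρ s (ρ a v - v) ≠ ρ a v - v) ∧ TOut ρ E a r Cand ((o : ZMod p) ≠ 0)) := by
  classical
  by_contra hcon
  push Not at hcon
  obtain ⟨hgood, hout⟩ := hcon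
  have P := h.pair
  obtain ⟨s₀, hs₀, m, hsm⟩ := h.exists_nontriv_moved
  set v := π s₀ (π a m - m) - (π a m - m) with hv
  obtain ⟨e, he, hev⟩ := P.mk_surj v
  obtain ⟨f, hf, hne⟩ : ∃ f ∈ E, ρ (e * f) ≠ ρ (f * e) := by
    by_contra! hc
    refine hsm (sub_eq_zero.mp ?_)
    rw [← hv, ← hev]
    exact (P.mk_eq_zero e he).mpr (P.center_le hab e he hc)
  obtain ⟨L, hL, W, hW⟩ := P.exists_weight (P.comm_mem he hf) (fun h0 => hne (by
    rw [show e * f = e * f * e⁻¹ * f⁻¹ * (f * e) by group, map_mul, h0, one_mul]))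
  obtain ⟨K, -, hKβ⟩ := Kap.nonempty_of_pc P W he hf hW
  rw [hev] at hKβ
  obtain ⟨C0, pr, hC⟩ := h.exists_compl K.β (K.alt P)
    (P.form_inv K.W K.β K.hζ K.hβ fun d hd => K.W.ev_congr (P.norm_D a d hd) hd (hD d hd))
    (fun s hs => P.form_inv K.W K.β K.hζ K.hβ (h.weight_fix_S0 K hs))
  have hs₀n : s₀ ∉ fixC π S0 C0 := by
    intro hfx
    apply hKβ
    have hu : π a m - m ∈ LinearMap.range (π a - 1) := ⟨m, rfl⟩
    have h1 : pr v = 0 := by
      rw [hv, map_sub pr, hC.pr_S0 s₀ hs₀, (mem_fixC.mp hfx).2 _ (hC.pr_mem _ hu), sub_self]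
    have h2 := hC.pr_ker v
    rw [h1, sub_zero] at h2
    rw [h2, LinearMap.zero_apply]
  obtain ⟨i, hin, hio⟩ := h.exists_power hs₀ hs₀n
  obtain ⟨hU₀, hUt₀, -⟩ := h.piece K hC (S0.pow_mem hs₀ i) hin hio
  refine hout ?_ ?_
  · obtain ⟨y, -, hy⟩ := exists_moved_above hU₀ hD h.hr h.ha h.hrp h.hro hUt₀ P
    exact ⟨_, S0.pow_mem hs₀ i, y, hy⟩
  -- no isotropic witness
  have hiso : ∀ t ∈ S0, t ∉ fixC π S0 C0 → t ^ o ∈ fixC π S0 C0 → ∀ U' ≤ movedBy π C0 t,
      (∀ m ∈ U', π a m ∈ U') → (∀ m ∈ U', π t m ∈ U') → (∀ u ∈ U', ∀ w ∈ U', K.β u w = 0) → U' = ⊥ := by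
    intro t ht htn hto U' hle hUa hUt hiso
    by_contra hne
    obtain ⟨-, hPt, hUC⟩ := h.piece K hC ht htn hto
    exact hgood (h.good_of_isotropic hcand hD K hC (hle.trans hUC) (Submodule.exists_mem_ne_zero_of_ne_bot hne)
      hUa hiso (Or.inr ⟨t, ht, hUt, fun u hu => hPt.fpf u (hle hu)⟩))
  -- the spaces of fixed vectors
  have hT : ∀ (t : X), t ∈ S0 → t ∉ fixC π S0 C0 → t ^ o ∈ fixC π S0 C0 → ∀ c₁ c₂ : ZMod p,
      (∀ y ∈ K.Y, ρ a y = y → (c₁ • (1 : Module.End (ZMod p) V) + c₂ • ρ t) y ∈ Cand) →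
      (∀ U' ≤ movedBy π C0 t, (∀ m ∈ U', π a m ∈ U') → (∀ m ∈ U', π t m ∈ U') →
        (∀ u ∈ U', ∀ w ∈ U', K.β u w = 0) → U' = ⊥) →
      (∃ y ∈ K.Y, ρ a y = y ∧ (c₁ • (1 : Module.End (ZMod p) V) + c₂ • ρ t) y ≠ 0) →
      TOut ρ E a r Cand ((o : ZMod p) ≠ 0) := by
    intro t ht htn hto c₁ c₂ hc hi hne
    obtain ⟨hU, hUt, -⟩ := h.piece K hC ht htn hto
    set σ : Module.End (ZMod p) V := c₁ • 1 + c₂ • ρ t with hσ
    have hYa := K.invY_a P hD
    have hYt := K.invY_t P (h.hS0D t ht)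
    have hta : ∀ y, ρ a (σ y) = σ (ρ a y) := fun y => by
      simp only [hσ, LinearMap.add_apply, LinearMap.smul_apply, Module.End.one_apply, map_add, map_smul]
      rw [← apply_mul ρ a, h.hS0a t ht, apply_mul]
    obtain ⟨y, hy, hay, hsy⟩ := hne
    refine ⟨K.Y.map (σ ∘ₗ trOp ρ a r), ?_, ?_, ?_, ?_, ?_⟩
    · intro hb
      have hm : σ (trOp ρ a r y) ∈ K.Y.map (σ ∘ₗ trOp ρ a r) := ⟨y, hy, rfl⟩
      rw [hb, Submodule.mem_bot, trOp_apply, tr, Finset.sum_congr rfl fun i _ => pow_apply_eq hay i,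
        Finset.sum_const, Finset.card_range, ← Nat.cast_smul_eq_nsmul (ZMod p), map_smul] at hm
      exact hsy ((smul_eq_zero.mp hm).resolve_left h.hrp)
    · rintro _ ⟨z, hz, rfl⟩
      exact hc _ (trOp_mem hYa hz) (by rw [trOp_apply]; exact apply_tr h.ha z)
    · rintro _ ⟨z, hz, rfl⟩
      rw [LinearMap.comp_apply, hta, trOp_apply, apply_tr h.ha z]
    · intro Rd hRd hnle
      obtain ⟨_, ⟨z, hz, rfl⟩, hzR⟩ := SetLike.not_le_iff_exists.mp hnle
      refine finrank_moved_ge (K := K) hU hD h.hr h.ha h.hrp (exists_fixed_above hU hD h.hr h.ha h.hrp h.hro hUt P).2.1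
        P Rd hRd ?_ hzR
      simp only [hσ, LinearMap.comp_apply, LinearMap.add_apply, LinearMap.smul_apply, Module.End.one_apply]
      exact add_mem (K.Y.smul_mem _ (trOp_mem hYa hz)) (K.Y.smul_mem _ (hYt _ (trOp_mem hYa hz)))
    · intro hop l hl
      have := pure_above hU hD h.hr h.ha h.hrp h.hro hUt hop P c₁ c₂ hi l (fun b hb => (hl b hb).imp_left
        fun hb0 y hy => hb0 _ ⟨y, hy, rfl⟩)
      rintro _ ⟨z, hz, rfl⟩
      exact this z hz
  by_cases hmoves : ∃ t ∈ S0, t ∉ fixC π S0 C0 ∧ t ^ o ∈ fixC π S0 C0 ∧ ∃ y ∈ K.Y, ρ a y = y ∧ ρ t y ≠ y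
  · obtain ⟨t, ht, htn, hto, y, hy, hay, hty⟩ := hmoves
    refine hT t ht htn hto (-1) 1 (fun z _ haz => ?_) (hiso t ht htn hto) ⟨y, hy, hay, fun h0 => hty ?_⟩
    · have := hcand t ht z haz
      simpa [sub_eq_neg_add] using this
    · simp only [neg_smul, one_smul, LinearMap.add_apply, LinearMap.neg_apply, Module.End.one_apply,
        neg_add_eq_zero] at h0
      exact h0.symm
  push Not at hmoves
  by_cases hfree : ∀ y ∈ K.Y, ρ a y = y → y ∈ Cand
  · obtain ⟨y, hy, hay, hy0⟩ := (exists_fixed_above hU₀ hD h.hr h.ha h.hrp h.hro hUt₀ P).1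
    refine hT _ (S0.pow_mem hs₀ i) hin hio 1 0 (fun z hz haz => by simpa using hfree z hz haz) ?_
      ⟨y, hy, hay, by simpa using hy0⟩
    intro U' hle hUa _ hisoU
    by_contra hne'
    exact hgood (h.good_of_isotropic hcand hD K hC (hle.trans (h.piece K hC (S0.pow_mem hs₀ i) hin hio).2.2)
      (Submodule.exists_mem_ne_zero_of_ne_bot hne') hUa hisoU (Or.inl hfree))
  rcases hx with hall | ⟨X2, hX⟩
  · exact absurd (fun y _ hay => hall y hay) hfree
  exfalso
  have hxfix : ∀ x ∈ X2, ∀ d ∈ D, K.W.ev (x * d * x⁻¹) = K.W.ev d := by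
    intro x hxX d hd
    by_contra hne'
    -- a fixed lift
    let R0 : Subgroup X :=
      { carrier := {d | d ∈ D ∧ ρ d = 1}
        one_mem' := ⟨one_mem _, map_one _⟩
        mul_mem' := fun {x y} hx hy => ⟨D.mul_mem hx.1 hy.1, by rw [map_mul, hx.2, hy.2, one_mul]⟩
        inv_mem' := fun {x} hx => ⟨inv_mem hx.1, by
          have := map_mul ρ x x⁻¹
          rw [mul_inv_cancel, map_one, hx.2, one_mul] at this
          exact this.symm⟩ }
    have hR0 : ∀ y ∈ R0, a * y * a⁻¹ ∈ R0 := fun y hy => ⟨P.norm_D a y hy.1, by rw [hD y hy.1, hy.2]⟩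
    haveI : Fact r.Prime := ⟨h.hr⟩
    obtain ⟨z0, hz0, hfix0⟩ := Cfsg.Agent.FPFPower.exists_fixed_in_coset (p := r) (k := 1) (MulAut.conj a)
      (by rw [pow_one, ← map_pow, h.ha, map_one]) R0 hR0
      (fun hdv => h.hr.coprime_iff_not_dvd.mp h.hrE.symm
        (hdv.trans (Subgroup.card_dvd_of_le fun y hy => P.D_le hy.1)))
      (a := d) ⟨D.mul_mem (inv_mem hd) (P.norm_D a d hd), by
        show ρ (d⁻¹ * (a * d * a⁻¹)) = 1
        rw [map_mul, hD d hd, ← map_mul, inv_mul_cancel, map_one]⟩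
    change a * (d * z0) * a⁻¹ = d * z0 at hfix0
    set d' := d * z0
    have hd' : d' ∈ D := D.mul_mem hd hz0.1
    have hρ : ρ d' = ρ d := by rw [map_mul, hz0.2, mul_one]
    set z := x * d' * x⁻¹ * d'⁻¹ with hz
    have hzD : z ∈ D := D.mul_mem (P.norm_D x d' hd') (inv_mem hd')
    have hevz : K.W.ev z ≠ 1 := by
      intro h1
      apply hne'
      have h2 := K.W.ev_mul hzD hd'
      rw [h1, one_mul, hz, inv_mul_cancel_right, K.W.ev_congr hd' hd hρ] at h2
      rw [← h2]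
      exact K.W.ev_congr (P.norm_D x d hd) (P.norm_D x d' hd') (by rw [map_mul, map_mul, map_mul, map_mul, hρ])
    refine hfree fun y hy hay => ?_
    set Y1 := K.Y ⊓ LinearMap.ker (ρ a - 1) with hY1
    have hY1m : ∀ w, w ∈ Y1 ↔ w ∈ K.Y ∧ ρ a w = w := fun w => by simp [Y1, sub_eq_zero]
    have hinv : ∀ w ∈ Y1, (ρ z - 1) w ∈ Y1 := fun w hw => by
      obtain ⟨hwY, hwa⟩ := (hY1m w).mp hw
      refine (hY1m _).mpr ⟨sub_mem (K.invY_E P (P.D_le hzD) w hwY) hwY, ?_⟩
      simp only [LinearMap.sub_apply, Module.End.one_apply, map_sub, hwa]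
      rw [← apply_mul, show a * z = a * z * a⁻¹ * a by group, map_mul, hD z hzD, Module.End.mul_apply, hwa]
    let φ : Y1 →ₗ[ZMod p] Y1 := (ρ z - 1).restrict hinv
    have hφ : Function.Injective φ := by
      rw [← LinearMap.ker_eq_bot, LinearMap.ker_eq_bot']
      intro w hw
      exact Subtype.ext (K.fixes P hzD hevz ((hY1m _).mp w.2).1 (sub_eq_zero.mp (congrArg Subtype.val hw)))
    obtain ⟨w1, hw1⟩ := (LinearMap.injective_iff_surjective.mp hφ) ⟨y, (hY1m y).mpr ⟨hy, hay⟩⟩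
    obtain ⟨w2, rfl⟩ := (LinearMap.injective_iff_surjective.mp hφ) w1
    have hc := hX.zcand x hxX d' hd' (by rw [← mul_inv_eq_iff_eq_mul]; exact hfix0) (w2 : V) ((hY1m _).mp w2.2).2
    have e : (φ (φ w2) : V) = y := congrArg Subtype.val hw1
    rw [← e]
    exact hc
  refine h.no_small hD K hC (fun t ht htn hto => ?_) hX hxfix hs₀ hs₀n
  obtain ⟨hU, hUt, -⟩ := h.piece K hC ht htn hto
  obtain ⟨ho2, hn⟩ := (exists_fixed_above hU hD h.hr h.ha h.hrp h.hro hUt P).2.2 (fun y hy hay => hmoves t ht htn hto y hy hay)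
  exact ⟨ho2, hn, hiso t ht htn hto⟩

end Layer

end Cfsg.Agent.TurullOne
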