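/-
The layer after the first moved one: the space of fixed vectors found there makes some element ready,
or an element from below moves a good fixed vector.
-/
import Mathlib
import Cfsg.Agent.TurullOne.LayerCase

set_option autoImplicit false
set_option linter.style.haveILetI false
set_option linter.unusedSectionVars false
set_option maxHeartbeats 800000

namespace Cfsg.Agent.TurullOne

open Module Finset

universe v

variable {X : Type*} [Group X] [Finite X] {p q : ℕ} [Fact p.Prime] [Fact q.Prime]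
variable {V : Type v} [AddCommGroup V] [Module (ZMod p) V] [FiniteDimensional (ZMod p) V]
variable {M : Type v} [AddCommGroup M] [Module (ZMod q) M] [FiniteDimensional (ZMod q) M]
variable {ρ : X →* Module.End (ZMod p) V} {π : X →* Module.End (ZMod q) M} {E D S : Subgroup X} {mk : X → M}
variable {a : X} {r : ℕ}

/-- In a non-abelian layer a fixed element outside the radical is ready as soon as `a` moves enough. -/
theorem Pair.ready_of_dim (P : Pair ρ π E D S mk) (hr : r.Prime) (ha : a ^ r = 1) (hrq : (r : ZMod q) ≠ 0)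
    (hrE : (Nat.card E).Coprime r) {T : Submodule (ZMod q) M}
    (hdim : ∀ Rd : Submodule (ZMod q) M, (∀ s ∈ S, ∀ v ∈ Rd, π s v ∈ Rd) → ¬ T ≤ Rd →
      r ≤ finrank (ZMod q) (LinearMap.range (Rd.mkQ ∘ₗ (π a - 1))))
    {t : X} (ht : t ∈ E) (hat : a * t = t * a) (htT : mk t ∈ T) {e : X} (he : e ∈ E)
    (hne : ρ (t * e) ≠ ρ (e * t)) : Ready ρ a E t := by
  classical
  rcases P.ready_or_fix_center hr ha hrE ht with hR | hfixD
  · exact hR
  obtain ⟨L, hL, W, hWa, hWt⟩ := P.exists_fixed_weight ht he hne hfixD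
  obtain ⟨β, ζ, hζ, hβ⟩ := P.exists_form W ht he hWt
  have hβt : β (mk t) (mk e) ≠ 0 := fun h0 => hWt (by rw [hβ t ht e he, h0]; simp)
  have halt := P.form_alt W β hζ hβ
  have hinva := P.form_inv W β hζ hβ hWa
  have hinvS : ∀ s ∈ S, ∀ u w, β (π s u) (π s w) = β u w := fun s hs =>
    P.form_inv W β hζ hβ fun d hd => W.ev_congr (P.norm_D s d hd) hd (by
      rw [map_mul, P.S_cent s hs d hd, ← map_mul, mul_inv_cancel_right])
  set Rd := LinearMap.ker β with hRd
  have hRinv : ∀ x : X, (∀ u w, β (π x u) (π x w) = β u w) → ∀ v ∈ Rd, π x v ∈ Rd := fun x hx v hv => by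
    rw [hRd, LinearMap.mem_ker] at hv ⊢
    refine LinearMap.ext fun w => ?_
    rw [← apply_apply_inv π x w, hx, hv]; rfl
  have hge := hdim Rd (fun s hs => hRinv s (hinvS s hs)) fun hle => hβt (by
    rw [LinearMap.mem_ker.mp (hle htT), LinearMap.zero_apply])
  -- the form on the quotient
  have hflip : ∀ m, Rd ≤ LinearMap.ker (β m) := fun m z hz => by
    rw [LinearMap.mem_ker]
    have h0 := halt (z + m)
    simp only [map_add, LinearMap.add_apply, halt, LinearMap.mem_ker.mp hz, LinearMap.zero_apply, add_zero,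
      zero_add] at h0
    exact h0
  let β₁ : M →ₗ[ZMod q] (M ⧸ Rd) →ₗ[ZMod q] ZMod q :=
    { toFun := fun m => Rd.liftQ (β m) (hflip m)
      map_add' := fun x y => Submodule.linearMap_qext _ (LinearMap.ext fun z => by simp)
      map_smul' := fun c x => Submodule.linearMap_qext _ (LinearMap.ext fun z => by simp) }
  let β' : (M ⧸ Rd) →ₗ[ZMod q] (M ⧸ Rd) →ₗ[ZMod q] ZMod q := Rd.liftQ β₁ fun z hz => by
    rw [LinearMap.mem_ker]
    refine Submodule.linearMap_qext _ (LinearMap.ext fun w => ?_)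
    show β z w = 0
    rw [LinearMap.mem_ker.mp hz, LinearMap.zero_apply]
  have hβ' : ∀ u w, β' (Rd.mkQ u) (Rd.mkQ w) = β u w := fun u w => rfl
  let A : Module.End (ZMod q) (M ⧸ Rd) := Rd.mapQ Rd (π a) fun v hv => hRinv a hinva v hv
  have hA : ∀ u, A (Rd.mkQ u) = Rd.mkQ (π a u) := fun u => rfl
  set N := LinearMap.range (Rd.mkQ ∘ₗ (π a - 1)) with hN
  have hAN : ∀ x ∈ N, A x ∈ N := by
    rintro _ ⟨u, rfl⟩
    exact ⟨π a u, by simp only [LinearMap.comp_apply, LinearMap.sub_apply, Module.End.one_apply, hA, map_sub]⟩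
  let T' : Module.End (ZMod q) N := A.restrict hAN
  let βN : N →ₗ[ZMod q] N →ₗ[ZMod q] ZMod q := (β'.compl₂ N.subtype).comp N.subtype
  have hpow : ∀ (i : ℕ) (x : N) (u : M), (x : M ⧸ Rd) = Rd.mkQ u → ((T' ^ i) x : M ⧸ Rd) = Rd.mkQ (π (a ^ i) u) := by
    intro i x u hxu
    induction i with
    | zero => simpa using hxu
    | succ i ih =>
      rw [pow_succ', pow_succ', apply_mul, Module.End.mul_apply, ← hA, ← ih]
      rfl
  obtain ⟨v, hv0, hviso⟩ := exists_isotropic βN (fun x => by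
      obtain ⟨u, hu⟩ := Rd.mkQ_surjective (x : M ⧸ Rd)
      show β' (x : M ⧸ Rd) x = 0
      rw [← hu, hβ', halt]) T' hr
    (LinearMap.ext fun x => Subtype.ext (by
      obtain ⟨u, hu⟩ := Rd.mkQ_surjective (x : M ⧸ Rd)
      rw [hpow r x u hu.symm, ha, map_one]; exact hu))
    (fun x y => by
      obtain ⟨u, hu⟩ := Rd.mkQ_surjective (x : M ⧸ Rd)
      obtain ⟨w, hw⟩ := Rd.mkQ_surjective (y : M ⧸ Rd)
      show β' (A x) (A y) = β' x y
      rw [← hu, ← hw, hA, hA, hβ', hβ', hinva])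
    (fun x hx => by
      obtain ⟨u, hu⟩ := x.2
      set v₀ := π a u - u with hv₀
      have hxv : (x : M ⧸ Rd) = Rd.mkQ v₀ := hu.symm
      have hfix : ∀ i : ℕ, Rd.mkQ (π (a ^ i) v₀) = Rd.mkQ v₀ := fun i => by
        rw [← hpow i x v₀ hxv, ← hxv]
        induction i with
        | zero => simp
        | succ i ih => rw [pow_succ, Module.End.mul_apply, hx, ih]
      have hsum : ∑ i ∈ range r, π (a ^ i) v₀ = 0 := by
        rw [Finset.sum_congr rfl fun i _ => (show π (a ^ i) v₀ = π (a ^ (i + 1)) u - π (a ^ i) u by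
          rw [hv₀, map_sub, ← apply_mul, ← pow_succ]), Finset.sum_range_sub (fun i => π (a ^ i) u), ha, pow_zero,
          sub_self]
      have h1 := congrArg Rd.mkQ hsum
      rw [map_sum, map_zero, Finset.sum_congr rfl fun i _ => hfix i, Finset.sum_const, Finset.card_range,
        ← Nat.cast_smul_eq_nsmul (ZMod q), ← hxv] at h1
      exact Subtype.ext ((smul_eq_zero.mp h1).resolve_left hrq))
    hge
  obtain ⟨u, hu⟩ := v.2
  have hvu : (v : M ⧸ Rd) = Rd.mkQ (π a u - u) := hu.symm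
  refine P.ready_of_isotropic hr ha hrE ht hat W hWa β hζ hβ ⟨_, hβt⟩ (v := π a u - u) ⟨u, rfl⟩ ?_ fun i l => ?_
  · by_contra! hrad
    refine hv0 (Subtype.ext ?_)
    rw [hvu, Submodule.mkQ_apply, ZeroMemClass.coe_zero, Submodule.Quotient.mk_eq_zero, hRd, LinearMap.mem_ker]
    exact LinearMap.ext hrad
  · have := hviso i l
    change β' ((T' ^ i) v : N) ((T' ^ l) v : N) = 0 at this
    rwa [hpow i v _ hvu, hpow l v _ hvu, hβ'] at this

/-- In an abelian layer purity of the fixed vectors gives readiness. -/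
theorem Pair.ready_of_pure (P : Pair ρ π E D S mk) (hab : ∀ e ∈ E, ∀ f ∈ E, ρ (e * f) = ρ (f * e))
    (hr : r.Prime) (ha : a ^ r = 1) (hrE : (Nat.card E).Coprime r) {T : Submodule (ZMod q) M} (hT : T ≠ ⊥)
    (hpure : ∀ l : M →ₗ[ZMod q] ZMod q,
      (∀ b ∈ S, (∀ t ∈ T, l (π b t) = 0) ∨ ∀ v, l (π b (π a v - v)) = 0) → ∀ t ∈ T, l t = 0)
    {Lift : Set X} (hlift : ∀ t ∈ T, ∃ x ∈ E, x ∈ Lift ∧ a * x = x * a ∧ mk x = t) :
    ∃ x ∈ E, x ∈ Lift ∧ a * x = x * a ∧ mk x ∈ T ∧ Ready ρ a E x := by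
  classical
  by_contra! hnr
  obtain ⟨t₁, ht₁T, ht₁0⟩ := Submodule.exists_mem_ne_zero_of_ne_bot hT
  obtain ⟨t, ht, htL, hat, rfl⟩ := hlift t₁ ht₁T
  have hnE : ∀ x ∈ E, a * x * a⁻¹ ∈ E := fun x hx => P.norm_E a x hx
  have hkey : ∀ x ∈ E, x ∈ Lift → a * x = x * a → mk x ∈ T → ∀ e ∈ E,
      (ρ x - 1) * (ρ (e⁻¹ * (a * e * a⁻¹)) - 1) = 0 := by
    intro x hx hxL hxa hxT e he
    refine LinearMap.ext fun v => ?_
    by_contra hne
    refine hnr x hx hxL hxa hxT ⟨commSub a E, commSub_le hnE, ⊤, abFpf_commSub hr ha hnE hrE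
      (fun _ _ _ _ => trivial) (fun _ _ => trivial) (fun b hb c hc y _ => by rw [hab b hb c hc]),
      fun _ _ => trivial, fun b hb y _ => by rw [hab x hx b (commSub_le hnE hb)], _,
      sub_mem_mv (mem_commSub he) (Submodule.mem_top (x := v)), fun heq => hne ?_⟩
    simp only [Module.End.mul_apply, LinearMap.sub_apply, Module.End.one_apply, LinearMap.zero_apply]
    rw [heq, sub_self]
  have hcommE : ∀ x ∈ ρ '' (E : Set X), ∀ y ∈ ρ '' (E : Set X), x * y = y * x := by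
    rintro _ ⟨x, hx, rfl⟩ _ ⟨y, hy, rfl⟩
    rw [← map_mul, ← map_mul, hab x hx y hy]
  obtain ⟨L, hL, φ, hφ⟩ := exists_char_ne (ρ '' (E : Set X)) hcommE (Weight.mem (ρ := ρ) t ht)
    (N := Nat.card E) (Weight.card_ne_zero P le_rfl)
    (by rw [← map_pow, orderOf_dvd_iff_pow_eq_one.mp (Subgroup.orderOf_dvd_natCard E ht), map_one])
    (P.rho_inj ht ht₁0)
  let W : Weight ρ E L := ⟨φ⟩
  have hWt : W.ev t ≠ 1 := by rwa [W.ev_eq ht]
  have hevmk : ∀ e ∈ E, ∀ f ∈ E, mk e = mk f → W.ev e = W.ev f := by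
    intro e he f hf hef
    refine W.ev_congr he hf ?_
    have hd : e⁻¹ * f ∈ D := by
      rw [← P.mk_eq_zero _ (E.mul_mem (inv_mem he) hf), P.mk_mul _ (inv_mem he) _ hf, P.mk_inv he, hef,
        neg_add_cancel]
    conv_rhs => rw [show f = e * (e⁻¹ * f) by group, map_mul, P.elem hab _ hd, mul_one]
  choose sec hsecE hsec using P.mk_surj
  have hevq : ∀ e ∈ E, W.ev e ^ q = 1 := fun e he => by
    rw [← W.ev_pow he, ← W.ev_one]
    exact hevmk _ (E.pow_mem he q) _ (one_mem _) (by rw [(P.mk_eq_zero _ (E.pow_mem he q)).mpr (P.pow_mem he), P.mk_one])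
  set ζ := W.ev t with hζdef
  have hζ : IsPrimitiveRoot ζ q := by
    have := IsPrimitiveRoot.orderOf ζ
    rwa [orderOf_eq_prime (hevq t ht) hWt] at this
  let lg : M → ZMod q := fun m => ((hζ.eq_pow_of_pow_eq_one (hevq _ (hsecE m))).choose : ZMod q)
  have hlg : ∀ m, ζ ^ (lg m).val = W.ev (sec m) := fun m => by
    have hs := (hζ.eq_pow_of_pow_eq_one (hevq _ (hsecE m))).choose_spec
    show ζ ^ ((((hζ.eq_pow_of_pow_eq_one (hevq _ (hsecE m))).choose : ℕ) : ZMod q)).val = _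
    rw [ZMod.val_natCast_of_lt hs.1]
    exact hs.2
  have hlg1 : ∀ m, lg m = 0 ↔ W.ev (sec m) = 1 := fun m => by
    rw [← hlg m, hζ.pow_eq_one_iff_dvd]
    constructor
    · intro h; simp [h]
    · intro h; exact (ZMod.val_eq_zero _).mp (Nat.eq_zero_of_dvd_of_lt h (ZMod.val_lt _))
  have hlgadd : ∀ m m', lg (m + m') = lg m + lg m' := fun m m' => by
    refine ZMod.val_injective q (hζ.pow_inj (ZMod.val_lt _) (ZMod.val_lt _) ?_)
    rw [hlg, ZMod.val_add, ← pow_eq_pow_mod _ hζ.pow_eq_one, pow_add, hlg, hlg, ← W.ev_mul (hsecE _) (hsecE _)]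
    exact hevmk _ (hsecE _) _ (E.mul_mem (hsecE _) (hsecE _)) (by rw [P.mk_mul _ (hsecE _) _ (hsecE _), hsec, hsec, hsec])
  let l : M →ₗ[ZMod q] ZMod q := (AddMonoidHom.mk' lg hlgadd).toZModLinearMap q
  have hl : ∀ e ∈ E, (l (mk e) = 0 ↔ W.ev e = 1) := fun e he => by
    show lg (mk e) = 0 ↔ _
    rw [hlg1, hevmk _ (hsecE _) _ he (hsec _)]
  have hlt := hpure l (fun b _ => ?_) (mk t) ht₁T
  · exact hWt ((hl t ht).mp hlt)
  by_contra hcon
  push Not at hcon
  obtain ⟨⟨t', ht'T, ht'⟩, v, hv⟩ := hcon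
  obtain ⟨x, hx, hxL, hxa, rfl⟩ := hlift t' ht'T
  obtain ⟨e, he, rfl⟩ := P.mk_surj v
  set g := e⁻¹ * (a * e * a⁻¹) with hg
  have hgE : g ∈ E := E.mul_mem (inv_mem he) (hnE e he)
  have hmkg : mk g = π a (mk e) - mk e := by
    rw [hg, P.mk_mul _ (inv_mem he) _ (hnE e he), P.mk_inv he, P.mk_conj a e he]; abel
  rw [← P.mk_conj b x hx, Ne, hl _ (P.norm_E b x hx)] at ht'
  rw [← hmkg, ← P.mk_conj b g hgE, Ne, hl _ (P.norm_E b g hgE)] at hv
  have hop : (ρ (b * x * b⁻¹) - 1) * (ρ (b * g * b⁻¹) - 1) = 0 := by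
    have h0 := congrArg (fun z => ρ b * z * ρ b⁻¹) (hkey x hx hxL hxa ht'T e he)
    simp only [mul_zero, zero_mul] at h0
    have hbb : ρ b⁻¹ * ρ b = 1 := by rw [← map_mul, inv_mul_cancel, map_one]
    have hbb' : ρ b * ρ b⁻¹ = 1 := by rw [← map_mul, mul_inv_cancel, map_one]
    have hconj : ∀ y : X, ρ (b * y * b⁻¹) - 1 = ρ b * (ρ y - 1) * ρ b⁻¹ := fun y => by
      rw [map_mul, map_mul, mul_sub, sub_mul, mul_one, hbb']
    rw [hconj, hconj, ← h0]
    simp only [mul_assoc]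
    rw [← mul_assoc (ρ b⁻¹) (ρ b), hbb, one_mul, hg]
    simp only [mul_assoc]
  have h1 : (W.ev (b * x * b⁻¹) - 1) * (W.ev (b * g * b⁻¹) - 1) = 0 := by
    rw [W.ev_eq (P.norm_E b x hx), W.ev_eq (P.norm_E b g hgE), ← map_one W.φ, ← map_sub, ← map_sub, ← map_mul,
      ← map_zero W.φ]
    congr 1
    exact Subtype.ext hop
  rcases mul_eq_zero.mp h1 with h | h
  · exact ht' (sub_eq_zero.mp h)
  · exact hv (sub_eq_zero.mp h)

/-- In an abelian layer an element from below moving what `a` moves gives a good vector. -/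
theorem Pair.moved_of_univ (P : Pair ρ π E D S mk) (hab : ∀ e ∈ E, ∀ f ∈ E, ρ (e * f) = ρ (f * e))
    (hr : r.Prime) (ha : a ^ r = 1) (hrp : (r : ZMod p) ≠ 0) (hrE : (Nat.card E).Coprime r) {s : X}
    (has : a * s = s * a) {N : ℕ} (hsN : s ^ N = 1) (hNr : ¬ r ∣ N) (hNp : (N : ZMod p) ≠ 0) {u : M}
    (hmove : π s (π a u - u) ≠ π a u - u) :
    ∃ B : Subgroup X, B ≤ E ∧ ∃ Y : Submodule (ZMod p) V, AbFpf ρ a B Y ∧ ∃ w : V, ρ a w = w ∧
      ρ s (ρ s w - w) - (ρ s w - w) ∈ mv ρ B Y ∧ ρ s (ρ s w - w) - (ρ s w - w) ≠ 0 := by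
  have hn : ∀ x ∈ E, a * x * a⁻¹ ∈ E := fun x hx => P.norm_E a x hx
  have hle := commSub_le hn
  have hB : AbFpf ρ a (commSub a E) ⊤ :=
    abFpf_commSub hr ha hn hrE (fun _ _ _ _ => trivial) (fun _ _ => trivial)
      (fun b hb c hc y _ => by rw [hab b hb c hc])
  obtain ⟨e, he, rfl⟩ := P.mk_surj u
  set b := e⁻¹ * (a * e * a⁻¹) with hb
  have hbB : b ∈ commSub a E := mem_commSub he
  have hmkb : mk b = π a (mk e) - mk e := by
    rw [hb, P.mk_mul _ (inv_mem he) _ (hn e he), P.mk_inv he, P.mk_conj a e he]; abel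
  obtain ⟨v, hv⟩ : ∃ v, ρ (s * b * s⁻¹) v ≠ ρ b v := by
    by_contra! hall
    apply hmove
    have hsb := P.norm_E s b (hle hbB)
    have h1 : s * b * s⁻¹ * b⁻¹ ∈ D := P.ker_le _ (E.mul_mem hsb (inv_mem (hle hbB))) (by
      rw [map_mul, show ρ (s * b * s⁻¹) = ρ b from LinearMap.ext hall, ← map_mul, mul_inv_cancel, map_one])
    rw [← P.mk_eq_zero _ (E.mul_mem hsb (inv_mem (hle hbB))), P.mk_mul _ hsb _ (inv_mem (hle hbB)),
      P.mk_conj s b (hle hbB), P.mk_inv (hle hbB), add_neg_eq_zero, hmkb] at h1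
    exact h1
  have hsB := conj_commSub (a := a) has fun x hx => P.norm_E s x hx
  obtain ⟨w, haw, hw, hw', hne⟩ := hB.exists_moved hr ha hrp (Weight.card_ne_zero P hle)
    hsB (fun _ _ => trivial) has hsN hNr hbB (Submodule.mem_top (x := v)) hv
  refine ⟨commSub a E, hle, ⊤, hB, w, haw,
    Submodule.sub_mem _ (apply_mem_mv hsB (fun _ _ => Submodule.mem_top) hw') hw', fun h0 => hne ?_⟩
  set z := ρ s w - w with hz
  have hfix : ρ s z = z := sub_eq_zero.mp h0
  have hiter : ∀ m : ℕ, (ρ s ^ m) w = w + (m : ZMod p) • z := by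
    intro m
    induction m with
    | zero => simp
    | succ m ih =>
      rw [pow_succ', Module.End.mul_apply, ih, map_add, map_smul, hfix, Nat.cast_succ, add_smul, one_smul,
        show ρ s w = w + z by rw [hz]; abel]
      abel
  have h2 := hiter N
  rw [← map_pow, hsN, map_one, Module.End.one_apply, left_eq_add] at h2
  exact (smul_eq_zero.mp h2).resolve_left hNp

end Cfsg.Agent.TurullOne
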