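/-
The nilpotent residual of a subgroup, its iterates, and elementary facts on normalisers.
-/
import Mathlib

set_option autoImplicit false
set_option linter.unusedSectionVars false

namespace Cfsg.Agent.TurullOne

variable {Γ : Type*} [Group Γ] [Finite Γ] {Γ' : Type*} [Group Γ'] [Finite Γ']

theorem nconj {H : Subgroup Γ} {x y : Γ} (hx : x ∈ Subgroup.normalizer (H : Set Γ)) (hy : y ∈ H) :
    x * y * x⁻¹ ∈ H :=
  (Subgroup.mem_normalizer_iff.mp hx y).mp hy

theorem mem_nz {H : Subgroup Γ} {x : Γ} (h : ∀ y ∈ H, x * y * x⁻¹ ∈ H) :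
    x ∈ Subgroup.normalizer (H : Set Γ) := by
  refine Subgroup.mem_normalizer_iff.mpr fun y => ⟨h y, fun hy => ?_⟩
  let f : H → H := fun z => ⟨x * z * x⁻¹, h z z.2⟩
  have hf : Function.Surjective f := Finite.surjective_of_injective fun z w e =>
    Subtype.ext (mul_left_cancel (mul_right_cancel (congrArg Subtype.val e)))
  obtain ⟨z, hz⟩ := hf ⟨_, hy⟩
  have e : x * (z : Γ) * x⁻¹ = x * y * x⁻¹ := congrArg Subtype.val hz
  rw [← mul_left_cancel (mul_right_cancel e)]
  exact z.2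

theorem nz_le {H K : Subgroup Γ} (h : ∀ x ∈ K, ∀ y ∈ H, x * y * x⁻¹ ∈ H) :
    K ≤ Subgroup.normalizer (H : Set Γ) := fun x hx => mem_nz (h x hx)

theorem mem_nz_inf {H K : Subgroup Γ} {x : Γ} (hH : x ∈ Subgroup.normalizer (H : Set Γ))
    (hK : x ∈ Subgroup.normalizer (K : Set Γ)) : x ∈ Subgroup.normalizer ((H ⊓ K : Subgroup Γ) : Set Γ) :=
  mem_nz fun _ hy => ⟨nconj hH hy.1, nconj hK hy.2⟩

theorem mem_nz_sup {H K : Subgroup Γ} {x : Γ} (hH : x ∈ Subgroup.normalizer (H : Set Γ))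
    (hK : x ∈ Subgroup.normalizer (K : Set Γ)) : x ∈ Subgroup.normalizer ((H ⊔ K : Subgroup Γ) : Set Γ) := by
  refine mem_nz fun y hy => ?_
  rw [Subgroup.sup_eq_closure] at hy ⊢
  induction hy using Subgroup.closure_induction with
  | mem z hz => exact Subgroup.subset_closure (hz.imp (nconj hH) (nconj hK))
  | one => simp
  | mul y z _ _ hy hz =>
    rw [show x * (y * z) * x⁻¹ = x * y * x⁻¹ * (x * z * x⁻¹) by group]
    exact mul_mem hy hz
  | inv y _ hy =>
    rw [show x * y⁻¹ * x⁻¹ = (x * y * x⁻¹)⁻¹ by group]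
    exact inv_mem hy

theorem mem_nz_closure {S : Set Γ} {x : Γ} (h : ∀ y ∈ S, x * y * x⁻¹ ∈ Subgroup.closure S) :
    x ∈ Subgroup.normalizer (Subgroup.closure S : Set Γ) := by
  refine mem_nz fun y hy => ?_
  induction hy using Subgroup.closure_induction with
  | mem z hz => exact h z hz
  | one => simp
  | mul y z _ _ hy hz =>
    rw [show x * (y * z) * x⁻¹ = x * y * x⁻¹ * (x * z * x⁻¹) by group]
    exact mul_mem hy hz
  | inv y _ hy =>
    rw [show x * y⁻¹ * x⁻¹ = (x * y * x⁻¹)⁻¹ by group]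
    exact inv_mem hy

/-- The nilpotent residual. -/
def res (H : Subgroup Γ) : Subgroup Γ := ⨅ k, H.lowerCentralSeries k

theorem res_le (H : Subgroup Γ) : res H ≤ H := iInf_le _ 0

theorem res_eventually (H : Subgroup Γ) : ∃ K, ∀ k, K ≤ k → H.lowerCentralSeries k = res H := by
  obtain ⟨K, hK⟩ := WellFoundedLT.antitone_chain_condition (H.lowerCentralSeries_antitone)
  refine ⟨K, fun k hk => le_antisymm (le_iInf fun l => ?_) (iInf_le _ k)⟩
  rcases le_total k l with hkl | hlk
  · exact ((hK l (hk.trans hkl)).symm.trans (hK k hk)).ge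
  · exact H.lowerCentralSeries_antitone hlk

theorem res_mono {H K : Subgroup Γ} (h : H ≤ K) : res H ≤ res K :=
  iInf_mono fun k => Subgroup.lowerCentralSeries_mono k h

theorem res_map (f : Γ →* Γ') (H : Subgroup Γ) : (res H).map f = res (H.map f) := by
  obtain ⟨K, hK⟩ := res_eventually H
  obtain ⟨K', hK'⟩ := res_eventually (H.map f)
  rw [← hK (max K K') (le_max_left _ _), ← hK' (max K K') (le_max_right _ _), Subgroup.map_lowerCentralSeries]

theorem commutator_res (H : Subgroup Γ) : ⁅res H, H⁆ = res H := by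
  obtain ⟨K, hK⟩ := res_eventually H
  conv_lhs => rw [← hK K le_rfl]
  rw [← Subgroup.lowerCentralSeries_succ, hK _ (Nat.le_succ K)]

theorem le_normalizer_res (H : Subgroup Γ) : H ≤ Subgroup.normalizer (res H : Set Γ) :=
  fun x hx => mem_nz fun y hy => by
    rw [res, Subgroup.mem_iInf] at hy ⊢
    exact fun k => nconj (H.self_le_normalizer_lowerCentralSeries k hx) (hy k)

theorem mem_nz_res {H : Subgroup Γ} {x : Γ} (hx : x ∈ Subgroup.normalizer (H : Set Γ)) :
    x ∈ Subgroup.normalizer (res H : Set Γ) := by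
  refine mem_nz fun y hy => ?_
  have hle : H.map (MulAut.conj x).toMonoidHom ≤ H := by
    rintro _ ⟨z, hz, rfl⟩
    exact nconj hx hz
  have := Subgroup.mem_map_of_mem (MulAut.conj x).toMonoidHom hy
  rw [res_map] at this
  exact res_mono hle this

theorem iterate_res_mono {H K : Subgroup Γ} (h : H ≤ K) (i : ℕ) : res^[i] H ≤ res^[i] K := by
  induction i with
  | zero => exact h
  | succ i ih => rw [Function.iterate_succ_apply', Function.iterate_succ_apply']; exact res_mono ih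

theorem iterate_res_map (f : Γ →* Γ') (H : Subgroup Γ) (i : ℕ) :
    (res^[i] H).map f = res^[i] (H.map f) := by
  induction i with
  | zero => rfl
  | succ i ih => rw [Function.iterate_succ_apply', Function.iterate_succ_apply', res_map, ih]

theorem mem_nz_iterate_res {H : Subgroup Γ} {x : Γ} (hx : x ∈ Subgroup.normalizer (H : Set Γ)) (i : ℕ) :
    x ∈ Subgroup.normalizer ((res^[i] H : Subgroup Γ) : Set Γ) := by
  induction i with
  | zero => exact hx
  | succ i ih => rw [Function.iterate_succ_apply']; exact mem_nz_res ih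

theorem iterate_res_antitone (H : Subgroup Γ) : Antitone fun i => res^[i] H :=
  antitone_nat_of_succ_le fun i => by rw [Function.iterate_succ_apply']; exact res_le _

theorem iterate_res_le (H : Subgroup Γ) (i : ℕ) : res^[i] H ≤ H := iterate_res_antitone H (Nat.zero_le i)

theorem le_normalizer_iterate_res (H : Subgroup Γ) (i : ℕ) :
    H ≤ Subgroup.normalizer ((res^[i] H : Subgroup Γ) : Set Γ) :=
  fun _ hx => mem_nz_iterate_res (Subgroup.le_normalizer hx) i

/-- Commutators of elements of coprime order lie in the residual. -/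
theorem commutator_mem_res {H : Subgroup Γ} {u s : Γ} (hu : u ∈ H) (hs : s ∈ H) {m n : ℕ} (hum : u ^ m = 1)
    (hsn : s ^ n = 1) (hcop : m.Coprime n) : u * s * u⁻¹ * s⁻¹ ∈ res H := by
  set c := u * s * u⁻¹ * s⁻¹ with hc
  rw [res, Subgroup.mem_iInf]
  intro k
  induction k with
  | zero => exact mul_mem (mul_mem (mul_mem hu hs) (inv_mem hu)) (inv_mem hs)
  | succ k ih =>
    set L := H.lowerCentralSeries (k + 1) with hL
    have hnorm : ∀ x ∈ H, ∀ y ∈ L, x * y * x⁻¹ ∈ L := fun x hx y hy =>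
      nconj (H.self_le_normalizer_lowerCentralSeries (k + 1) hx) hy
    -- `c` is central modulo `L`
    have hcent : ∀ y ∈ H.lowerCentralSeries k, ∀ x ∈ H, y * x * y⁻¹ * x⁻¹ ∈ L := fun y hy x hx => by
      rw [hL, Subgroup.lowerCentralSeries_succ]
      exact Subgroup.commutator_mem_commutator hy hx
    have hpow : ∀ i : ℕ, u ^ i * s * (u ^ i)⁻¹ * s⁻¹ * (c ^ i)⁻¹ ∈ L := by
      intro i
      induction i with
      | zero => simp [one_mem]
      | succ i ihi =>
        have h1 : (u * (c ^ i) * u⁻¹ * (c ^ i)⁻¹) ∈ L := by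
          have := hcent (c ^ i) (pow_mem ih i) u hu
          rw [show u * c ^ i * u⁻¹ * (c ^ i)⁻¹ = (c ^ i * u * (c ^ i)⁻¹ * u⁻¹)⁻¹ by group]
          exact inv_mem this
        have h2 := hnorm u hu _ ihi
        have hci : c ^ i ∈ H := pow_mem (H.lowerCentralSeries_le_self k ih) i
        have e : u ^ (i + 1) * s * (u ^ (i + 1))⁻¹ * s⁻¹ * (c ^ (i + 1))⁻¹
            = u * (u ^ i * s * (u ^ i)⁻¹ * s⁻¹ * (c ^ i)⁻¹) * u⁻¹ * ((u * (c ^ i) * u⁻¹ * (c ^ i)⁻¹)
              * (c ^ i * ((u * s * u⁻¹ * s⁻¹) * c⁻¹) * (c ^ i)⁻¹)) := by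
          rw [pow_succ', pow_succ c]; group
        rw [e, ← hc, mul_inv_cancel, mul_one, mul_inv_cancel, mul_one]
        exact mul_mem h2 h1
    have hpow' : ∀ i : ℕ, u * s ^ i * u⁻¹ * (s ^ i)⁻¹ * (c ^ i)⁻¹ ∈ L := by
      intro i
      induction i with
      | zero => simp [one_mem]
      | succ i ihi =>
        have h1 : s ^ i * c * (s ^ i)⁻¹ * c⁻¹ ∈ L := by
          rw [show s ^ i * c * (s ^ i)⁻¹ * c⁻¹ = (c * s ^ i * c⁻¹ * (s ^ i)⁻¹)⁻¹ by group]
          exact inv_mem (hcent c ih _ (pow_mem hs i))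
        have h3 : (u * s ^ i * u⁻¹ * (s ^ i)⁻¹ * (c ^ i)⁻¹) * (c ^ i * (s ^ i * c * (s ^ i)⁻¹ * c⁻¹) * (c ^ i)⁻¹) ∈ L :=
          mul_mem ihi (hnorm _ (pow_mem (H.lowerCentralSeries_le_self k ih) i) _ h1)
        convert h3 using 1
        rw [pow_succ, pow_succ c, hc]; group
    have h1 : c ^ m ∈ L := by
      have := hpow m
      rw [hum, one_mul, inv_one, mul_one, mul_inv_cancel, one_mul] at this
      exact inv_mem_iff.mp this
    have h2 : c ^ n ∈ L := by
      have := hpow' n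
      rw [hsn, mul_one, mul_inv_cancel, inv_one, mul_one, one_mul] at this
      exact inv_mem_iff.mp this
    obtain ⟨e, he⟩ : ∃ e : ℤ × ℤ, (m : ℤ) * e.1 + (n : ℤ) * e.2 = 1 :=
      ⟨(Nat.gcdA m n, Nat.gcdB m n), by rw [← Nat.gcd_eq_gcd_ab, hcop]; rfl⟩
    rw [← zpow_one c, ← he, zpow_add, zpow_mul, zpow_mul, zpow_natCast, zpow_natCast]
    exact mul_mem (zpow_mem h1 _) (zpow_mem h2 _)

theorem exists_chain_of_iterate_res {G : Type*} [Group G] [Finite G] {m : ℕ}
    (h : res^[m] (⊤ : Subgroup G) = ⊥) :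
    ∃ F : Fin (m + 1) → Subgroup G, F 0 = ⊥ ∧ F (Fin.last m) = ⊤ ∧ Monotone F ∧ (∀ i, (F i).Normal) ∧
      ∀ i : Fin m, ∃ k : ℕ, (F i.succ).lowerCentralSeries k ≤ F i.castSucc := by
  refine ⟨fun i => res^[m - i] ⊤, by simpa using h, by simp, fun i j hij => ?_, fun i => ?_, fun i => ?_⟩
  · exact iterate_res_antitone _ (Nat.sub_le_sub_left hij m)
  · exact ⟨fun y hy x => nconj (le_normalizer_iterate_res ⊤ _ (Subgroup.mem_top x)) hy⟩
  · obtain ⟨K, hK⟩ := res_eventually (res^[m - (i.succ : ℕ)] (⊤ : Subgroup G))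
    refine ⟨K, ?_⟩
    show _ ≤ res^[m - (i.castSucc : ℕ)] ⊤
    rw [hK K le_rfl, ← Function.iterate_succ_apply' res, Fin.val_succ, Fin.val_castSucc]
    exact le_of_eq (congrArg (fun l => res^[l] (⊤ : Subgroup G)) (by omega))

theorem iterate_res_eq_bot_of_chain {G : Type*} [Group G] [Finite G] {m : ℕ}
    (F : Fin (m + 1) → Subgroup G) (h0 : F 0 = ⊥) (hlast : F (Fin.last m) = ⊤)
    (hF : ∀ i : Fin m, ∃ k : ℕ, (F i.succ).lowerCentralSeries k ≤ F i.castSucc) :
    res^[m] (⊤ : Subgroup G) = ⊥ := by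
  have hstep : ∀ j (hj : j ≤ m), res^[j] (⊤ : Subgroup G) ≤ F ⟨m - j, by omega⟩ := by
    intro j
    induction j with
    | zero => intro _; rw [show (⟨m - 0, _⟩ : Fin (m + 1)) = Fin.last m from Fin.ext (by simp), hlast]; exact le_rfl
    | succ j ih =>
      intro hj
      obtain ⟨k, hk⟩ := hF ⟨m - (j + 1), by omega⟩
      rw [Function.iterate_succ_apply']
      refine (iInf_le _ k).trans ((Subgroup.lowerCentralSeries_mono k ?_).trans hk)
      refine (ih (by omega)).trans (le_of_eq (congrArg F (Fin.ext ?_)))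
      simp only [Fin.val_succ]; omega
  refine le_bot_iff.mp ((hstep m le_rfl).trans (le_of_eq ?_))
  rw [← h0]; exact congrArg F (Fin.ext (by simp))

end Cfsg.Agent.TurullOne
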