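/-
The representation of the normalizer of an elementary abelian section on the section.
-/
import Mathlib
import Cfsg.Agent.FPFPower.Basic
import Cfsg.Agent.TurullOne.Residual
import Cfsg.Agent.TurullOne.Reps

set_option autoImplicit false
set_option linter.style.haveILetI false
set_option linter.unusedSectionVars false

namespace Cfsg.Agent.TurullOne

open Module

universe u

variable {Γ : Type u} [Group Γ] [Finite Γ]

/-- The normalizer of a section. -/
def nz (P D : Subgroup Γ) : Subgroup Γ := Subgroup.normalizer (P : Set Γ) ⊓ Subgroup.normalizer (D : Set Γ)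

/-- A section `P/D` as a module over `ZMod q` for its normalizer. -/
structure Rep (P D : Subgroup Γ) (q : ℕ) where
  of ::
  V : Type u
  [grp : AddCommGroup V]
  [mod : Module (ZMod q) V]
  [fin : Finite V]
  π : ↥(nz P D) →* Module.End (ZMod q) V
  mk : Γ → V
  mk_mul : ∀ e ∈ P, ∀ f ∈ P, mk (e * f) = mk e + mk f
  mk_surj : ∀ v, ∃ e ∈ P, mk e = v
  mk_eq_zero : ∀ e ∈ P, (mk e = 0 ↔ e ∈ D)
  mk_conj : ∀ x : ↥(nz P D), ∀ e ∈ P, mk (x * e * (x : Γ)⁻¹) = π x (mk e)

attribute [instance] Rep.grp Rep.mod Rep.fin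

theorem nonempty_rep_of_map {P D : Subgroup Γ} {q : ℕ} {V : Type u} [AddCommGroup V] [Module (ZMod q) V]
    [Finite V] (mk : Γ → V) (hmul : ∀ e ∈ P, ∀ f ∈ P, mk (e * f) = mk e + mk f)
    (hsurj : ∀ v, ∃ e ∈ P, mk e = v) (hzero : ∀ e ∈ P, (mk e = 0 ↔ e ∈ D)) : Nonempty (Rep P D q) := by
  classical
  choose sec hsecP hsec using hsurj
  have hwd : ∀ x : ↥(nz P D), ∀ e ∈ P, ∀ f ∈ P, mk e = mk f →
      mk (x * e * (x : Γ)⁻¹) = mk (x * f * (x : Γ)⁻¹) := by
    intro x e he f hf hef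
    have hd : f⁻¹ * e ∈ D := by
      rw [← hzero _ (P.mul_mem (inv_mem hf) he)]
      refine add_left_cancel (a := mk f) ?_
      rw [← hmul f hf _ (P.mul_mem (inv_mem hf) he), mul_inv_cancel_left, add_zero, hef]
    have hd' : (x : Γ) * (f⁻¹ * e) * (x : Γ)⁻¹ ∈ D := nconj x.2.2 hd
    have hdP := nconj x.2.1 (P.mul_mem (inv_mem hf) he)
    rw [show (x : Γ) * e * (x : Γ)⁻¹ = x * f * (x : Γ)⁻¹ * (x * (f⁻¹ * e) * (x : Γ)⁻¹) by group,
      hmul _ (nconj x.2.1 hf) _ hdP, (hzero _ hdP).mpr hd', add_zero]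
  let cj : ↥(nz P D) → V →ₗ[ZMod q] V := fun x =>
    (AddMonoidHom.mk' (fun v => mk (x * sec v * (x : Γ)⁻¹)) fun v w => by
      rw [hwd x _ (hsecP _) _ (P.mul_mem (hsecP v) (hsecP w)) (by rw [hmul _ (hsecP v) _ (hsecP w), hsec, hsec, hsec]),
        ← hmul _ (nconj x.2.1 (hsecP v)) _ (nconj x.2.1 (hsecP w))]
      refine congrArg mk ?_
      group).toZModLinearMap q
  have hconj : ∀ x : ↥(nz P D), ∀ e ∈ P, mk (x * e * (x : Γ)⁻¹) = cj x (mk e) := fun x e he =>
    hwd x e he _ (hsecP _) (hsec _).symm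
  exact ⟨
    { V := V
      π :=
        { toFun := cj
          map_one' := LinearMap.ext fun v => by
            obtain ⟨e, he, rfl⟩ : ∃ e ∈ P, mk e = v := ⟨sec v, hsecP v, hsec v⟩
            rw [← hconj 1 e he, Module.End.one_apply]; simp
          map_mul' := fun x y => LinearMap.ext fun v => by
            obtain ⟨e, he, rfl⟩ : ∃ e ∈ P, mk e = v := ⟨sec v, hsecP v, hsec v⟩
            rw [Module.End.mul_apply, ← hconj y e he, ← hconj x _ (nconj y.2.1 he), ← hconj (x * y) e he]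
            refine congrArg mk ?_
            push_cast
            group }
      mk := mk
      mk_mul := fun e he f hf => hmul e he f hf
      mk_surj := fun v => ⟨sec v, hsecP v, hsec v⟩
      mk_eq_zero := hzero
      mk_conj := hconj }⟩

theorem nonempty_rep {P D : Subgroup Γ} {q : ℕ} (hle : D ≤ P)
    (hcomm : ∀ x ∈ P, ∀ y ∈ P, x * y * x⁻¹ * y⁻¹ ∈ D) (hpow : ∀ x ∈ P, x ^ q ∈ D) : Nonempty (Rep P D q) := by
  classical
  haveI hnorm : (D.subgroupOf P).Normal := ⟨fun d hd x => by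
    rw [Subgroup.mem_subgroupOf] at hd ⊢
    have h := mul_mem (hcomm x x.2 d (hle hd)) hd
    rw [inv_mul_cancel_right] at h
    simpa using h⟩
  set Q := ↥P ⧸ D.subgroupOf P
  let gq : Group Q := inferInstance
  letI : CommGroup Q := { gq with
    mul_comm := fun z w => by
      induction z using QuotientGroup.induction_on with | _ x => ?_
      induction w using QuotientGroup.induction_on with | _ y => ?_
      show ((x * y : P) : Q) = ((y * x : P) : Q)
      refine QuotientGroup.eq.mpr ?_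
      rw [Subgroup.mem_subgroupOf]
      have h := hcomm _ (inv_mem y.2) _ (inv_mem x.2)
      simpa [mul_assoc] using h }
  letI : Module (ZMod q) (Additive Q) := AddCommGroup.zmodModule fun v => by
    refine Additive.toMul.injective ?_
    rw [toMul_nsmul, toMul_zero]
    induction Additive.toMul v using QuotientGroup.induction_on with | _ x => ?_
    rw [← QuotientGroup.mk_pow, QuotientGroup.eq_one_iff, Subgroup.mem_subgroupOf]
    exact hpow x x.2
  let mk : Γ → Additive Q := fun x => if h : x ∈ P then Additive.ofMul ((⟨x, h⟩ : P) : Q) else 0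
  have hmk : ∀ (x : Γ) (h : x ∈ P), mk x = Additive.ofMul ((⟨x, h⟩ : P) : Q) := fun x h => dif_pos h
  have hmul : ∀ e ∈ P, ∀ f ∈ P, mk (e * f) = mk e + mk f := fun e he f hf => by
    rw [hmk e he, hmk f hf, hmk _ (P.mul_mem he hf)]; rfl
  have hsurj : ∀ v, ∃ e ∈ P, mk e = v := fun v => by
    obtain ⟨x, hx⟩ := QuotientGroup.mk_surjective (Additive.toMul v)
    exact ⟨x, x.2, by rw [hmk _ x.2]; exact congrArg Additive.ofMul hx⟩
  have hzero : ∀ e ∈ P, (mk e = 0 ↔ e ∈ D) := fun e he => by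
    rw [hmk e he, ofMul_eq_zero, QuotientGroup.eq_one_iff, Subgroup.mem_subgroupOf]
  exact nonempty_rep_of_map mk hmul hsurj hzero

namespace Rep

variable {P D : Subgroup Γ} {q : ℕ} (R : Rep P D q)

theorem mk_one : R.mk 1 = 0 := by
  have h := R.mk_mul 1 (one_mem _) 1 (one_mem _)
  rw [mul_one, left_eq_add] at h
  exact h

theorem mk_inv {e : Γ} (he : e ∈ P) : R.mk e⁻¹ = - R.mk e := by
  refine eq_neg_of_add_eq_zero_left ?_
  rw [← R.mk_mul _ (inv_mem he) _ he, inv_mul_cancel, R.mk_one]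

theorem mk_comm {x : ↥(nz P D)} {e : Γ} (he : e ∈ P) :
    R.mk ((x : Γ) * e * (x : Γ)⁻¹ * e⁻¹) = R.π x (R.mk e) - R.mk e := by
  rw [R.mk_mul _ (nconj x.2.1 he) _ (inv_mem he), R.mk_conj x e he, R.mk_inv he, sub_eq_add_neg]

theorem fix_iff (x : ↥(nz P D)) :
    R.π x = 1 ↔ ∀ e ∈ P, (x : Γ) * e * (x : Γ)⁻¹ * e⁻¹ ∈ D := by
  have key : ∀ e ∈ P, ((x : Γ) * e * (x : Γ)⁻¹ * e⁻¹ ∈ D ↔ R.π x (R.mk e) = R.mk e) := fun e he => by
    rw [← R.mk_eq_zero _ (P.mul_mem (nconj x.2.1 he) (inv_mem he)), R.mk_comm he, sub_eq_zero]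
  constructor
  · intro h e he
    rw [key e he, h, Module.End.one_apply]
  · intro h
    refine LinearMap.ext fun v => ?_
    obtain ⟨e, he, rfl⟩ := R.mk_surj v
    exact (key e he).mp (h e he)

/-- A fixed vector has a fixed representative. -/
theorem exists_fixed_lift {r : ℕ} (hr : r.Prime) (hle : D ≤ P) (hD : ¬ r ∣ Nat.card D) (a : ↥(nz P D))
    (ha : (a : Γ) ^ r = 1) {v : R.V} (hv : R.π a v = v) :
    ∃ c ∈ P, (a : Γ) * c = c * a ∧ R.mk c = v := by
  obtain ⟨e, he, rfl⟩ := R.mk_surj v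
  haveI : Fact r.Prime := ⟨hr⟩
  have hd : e⁻¹ * ((a : Γ) * e * (a : Γ)⁻¹) ∈ D := by
    have h1 := P.mul_mem (inv_mem he) (nconj a.2.1 he)
    rw [← R.mk_eq_zero _ h1, R.mk_mul _ (inv_mem he) _ (nconj a.2.1 he), R.mk_inv he, R.mk_conj a e he, hv,
      neg_add_cancel]
  obtain ⟨z, hz, hfix⟩ := Cfsg.Agent.FPFPower.exists_fixed_in_coset (p := r) (k := 1) (MulAut.conj (a : Γ))
    (by rw [pow_one, ← map_pow, ha, map_one]) D (fun y hy => nconj a.2.2 hy) hD (a := e) hd
  change (a : Γ) * (e * z) * (a : Γ)⁻¹ = e * z at hfix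
  refine ⟨e * z, P.mul_mem he (hle hz), mul_inv_eq_iff_eq_mul.mp hfix, ?_⟩
  rw [R.mk_mul e he z (hle hz), (R.mk_eq_zero z (hle hz)).mpr hz, add_zero]

/-- The image of a subgroup in the section. -/
def img [Fact q.Prime] (H : Subgroup Γ) : Submodule (ZMod q) R.V :=
  Submodule.span (ZMod q) (R.mk '' (P ⊓ H : Subgroup Γ))

theorem mem_img [Fact q.Prime] {H : Subgroup Γ} {v : R.V} (hv : v ∈ R.img H) :
    ∃ e ∈ P, e ∈ H ∧ R.mk e = v := by
  induction hv using Submodule.span_induction with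
  | mem v hv => obtain ⟨e, he, rfl⟩ := hv; exact ⟨e, he.1, he.2, rfl⟩
  | zero => exact ⟨1, one_mem _, one_mem _, R.mk_one⟩
  | add u w _ _ hu hw =>
    obtain ⟨x, hx, hxH, rfl⟩ := hu
    obtain ⟨y, hy, hyH, rfl⟩ := hw
    exact ⟨x * y, P.mul_mem hx hy, H.mul_mem hxH hyH, R.mk_mul x hx y hy⟩
  | smul c u _ hu =>
    obtain ⟨x, hx, hxH, rfl⟩ := hu
    refine ⟨x ^ c.val, P.pow_mem hx _, H.pow_mem hxH _, ?_⟩
    have hp : ∀ n : ℕ, R.mk (x ^ n) = (n : ZMod q) • R.mk x := by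
      intro n
      induction n with
      | zero => simp [R.mk_one]
      | succ n ih => rw [pow_succ, R.mk_mul _ (P.pow_mem hx n) _ hx, ih, Nat.cast_succ, add_smul, one_smul]
    rw [hp, ZMod.natCast_zmod_val]

theorem mk_mem_img [Fact q.Prime] {H : Subgroup Γ} {e : Γ} (he : e ∈ P) (heH : e ∈ H) :
    R.mk e ∈ R.img H := Submodule.subset_span ⟨e, ⟨he, heH⟩, rfl⟩

end Rep

section Linear

variable {X X' : Type*} [Group X] [Group X'] {F : Type*} [Field F] {V : Type*} [AddCommGroup V] [Module F V]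
variable {ρ : X →* Module.End F V} {ρ' : X' →* Module.End F V} {a : X}

theorem mv_map (f : X →* X') (hf : ∀ x, ρ' (f x) = ρ x) (B : Subgroup X) (Y : Submodule F V) :
    mv ρ' (B.map f) Y = mv ρ B Y := by
  refine congrArg (Submodule.span F) (Set.ext fun v => ⟨?_, ?_⟩)
  · rintro ⟨_, ⟨b, hb, rfl⟩, y, hy, rfl⟩
    exact ⟨b, hb, y, hy, by rw [hf]⟩
  · rintro ⟨b, hb, y, hy, rfl⟩
    exact ⟨f b, ⟨b, hb, rfl⟩, y, hy, by rw [hf]⟩

theorem AbFpf.map (f : X →* X') (hf : ∀ x, ρ' (f x) = ρ x) {B : Subgroup X} {Y : Submodule F V}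
    (h : AbFpf ρ a B Y) : AbFpf ρ' (f a) (B.map f) Y := by
  refine ⟨?_, ?_, fun y hy => by rw [hf]; exact h.ainv y hy, ?_, ?_⟩
  · rintro _ ⟨b, hb, rfl⟩
    exact ⟨_, h.norm b hb, by simp⟩
  · rintro _ ⟨b, hb, rfl⟩ y hy
    rw [hf]; exact h.inv b hb y hy
  · rintro _ ⟨b, hb, rfl⟩ _ ⟨c, hc, rfl⟩ y hy
    rw [← map_mul, ← map_mul, hf, hf]; exact h.comm b hb c hc y hy
  · rintro _ ⟨b, hb, rfl⟩ hfix y hy
    rw [hf]
    refine h.fpf b hb (fun z hz => ?_) y hy
    have e := hfix z hz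
    rw [← map_inv, ← map_mul, ← map_mul, hf, hf] at e
    exact e

/-- A fixed vector in the span of the commutators with a group of invertible order is zero. -/
theorem eq_zero_of_fixed_span [Finite X] {S : Subgroup X} (hS : (Nat.card S : F) ≠ 0) {v : V}
    (hv : v ∈ Submodule.span F {x | ∃ s ∈ S, ∃ m, ρ s m - m = x}) (hfix : ∀ s ∈ S, ρ s v = v) : v = 0 := by
  classical
  letI : Fintype S := Fintype.ofFinite S
  let t : Module.End F V := ∑ s : S, ρ (s : X)
  have ht : ∀ m, t m = ∑ s : S, ρ (s : X) m := fun m => LinearMap.sum_apply _ _ _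
  have hle : Submodule.span F {x | ∃ s ∈ S, ∃ m, ρ s m - m = x} ≤ LinearMap.ker t := by
    rw [Submodule.span_le]
    rintro _ ⟨s, hs, m, rfl⟩
    rw [SetLike.mem_coe, LinearMap.mem_ker, map_sub, sub_eq_zero, ht, ht,
      ← Equiv.sum_comp (Equiv.mulRight (⟨s, hs⟩ : S)) (fun x : S => ρ (x : X) m)]
    exact Finset.sum_congr rfl fun x _ => by simp
  have h0 := LinearMap.mem_ker.mp (hle hv)
  rw [ht, Finset.sum_congr rfl fun (s : S) _ => hfix s s.2, Finset.sum_const, Finset.card_univ,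
    ← Nat.cast_smul_eq_nsmul F, ← Nat.card_eq_fintype_card] at h0
  exact (smul_eq_zero.mp h0).resolve_left hS

end Linear

end Cfsg.Agent.TurullOne
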