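/-
A chain of invariant sections of prime exponent, one for each step of the residual series.
-/
import Mathlib
import Cfsg.Agent.Coprime.Action
import Cfsg.Agent.TurullOne.Sec

set_option autoImplicit false
set_option linter.style.haveILetI false
set_option linter.unusedSectionVars false
set_option maxHeartbeats 400000

namespace Cfsg.Agent.TurullOne

universe u

variable {Γ : Type u} [Group Γ] [Finite Γ]

/-- `x` centralises the section `P/D`. -/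
def Triv (P D : Subgroup Γ) (x : Γ) : Prop := ∀ y ∈ P, x * y * x⁻¹ * y⁻¹ ∈ D

/-- The elements of the normalizer centralising a section. -/
def kerSec (P D : Subgroup Γ) : Subgroup Γ where
  carrier := {x | x ∈ nz P D ∧ Triv P D x}
  one_mem' := ⟨one_mem _, fun y _ => by simp⟩
  mul_mem' := fun {x z} hx hz => ⟨mul_mem hx.1 hz.1, fun y hy => by
    rw [show x * z * y * (x * z)⁻¹ * y⁻¹ = x * (z * y * z⁻¹ * y⁻¹) * x⁻¹ * (x * y * x⁻¹ * y⁻¹) by group]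
    exact mul_mem (nconj hx.1.2 (hz.2 y hy)) (hx.2 y hy)⟩
  inv_mem' := fun {x} hx => ⟨inv_mem hx.1, fun y hy => by
    rw [show x⁻¹ * y * x⁻¹⁻¹ * y⁻¹ = x⁻¹ * (x * y * x⁻¹ * y⁻¹)⁻¹ * x⁻¹⁻¹ by group]
    exact nconj (inv_mem hx.1.2) (inv_mem (hx.2 y hy))⟩

theorem mem_kerSec {P D : Subgroup Γ} {x : Γ} : x ∈ kerSec P D ↔ x ∈ nz P D ∧ Triv P D x := Iff.rfl

theorem nz_le_normalizer_kerSec (P D : Subgroup Γ) :
    nz P D ≤ Subgroup.normalizer (kerSec P D : Set Γ) :=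
  fun g hg => mem_nz fun x hx => ⟨mul_mem (mul_mem hg hx.1) (inv_mem hg), fun y hy => by
    have h := nconj hg.2 (hx.2 (g⁻¹ * y * g) (by simpa using nconj (inv_mem hg.1) hy))
    convert h using 1
    group⟩

theorem mem_sup_norm {S N : Subgroup Γ} (h : S ≤ Subgroup.normalizer (N : Set Γ)) {x : Γ} (hx : x ∈ S ⊔ N) :
    ∃ s ∈ S, ∃ z ∈ N, x = s * z := by
  rw [Subgroup.sup_eq_closure] at hx
  induction hx using Subgroup.closure_induction with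
  | mem y hy =>
    rcases hy with hy | hy
    · exact ⟨y, hy, 1, one_mem _, by simp⟩
    · exact ⟨1, one_mem _, y, hy, by simp⟩
  | one => exact ⟨1, one_mem _, 1, one_mem _, by simp⟩
  | mul y w _ _ hy hw =>
    obtain ⟨s, hs, z, hz, rfl⟩ := hy
    obtain ⟨t, ht, z', hz', rfl⟩ := hw
    refine ⟨s * t, S.mul_mem hs ht, t⁻¹ * z * t * z', N.mul_mem ?_ hz', by group⟩
    simpa using nconj (inv_mem (h ht)) hz
  | inv y _ hy =>
    obtain ⟨s, hs, z, hz, rfl⟩ := hy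
    exact ⟨s⁻¹, inv_mem hs, s * z⁻¹ * s⁻¹, nconj (h hs) (inv_mem hz), by group⟩

theorem sylow_sup_eq_top {H : Type*} [Group H] [Finite H] {p : ℕ} [Fact p.Prime] (P : Sylow p H) (N : Subgroup H)
    [N.Normal] (h : ∀ x : H, ∃ k : ℕ, x ^ p ^ k ∈ N) : (P : Subgroup H) ⊔ N = ⊤ := by
  rw [← Subgroup.index_eq_one]
  have hN : IsPGroup p (H ⧸ N) := fun z => by
    induction z using QuotientGroup.induction_on with | _ x => ?_
    obtain ⟨k, hk⟩ := h x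
    exact ⟨k, by rw [← QuotientGroup.mk_pow, QuotientGroup.eq_one_iff]; exact hk⟩
  obtain ⟨k, hk⟩ := hN.exists_card_eq
  have h1 := Subgroup.index_dvd_of_le (le_sup_left : (P : Subgroup H) ≤ (P : Subgroup H) ⊔ N)
  have h2 := Subgroup.index_dvd_of_le (le_sup_right : N ≤ (P : Subgroup H) ⊔ N)
  rw [show N.index = p ^ k from hk] at h2
  obtain ⟨l, -, hl⟩ := (Nat.dvd_prime_pow Fact.out).mp h2
  rw [hl] at h1 ⊢
  rcases Nat.eq_zero_or_pos l with rfl | hlpos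
  · simp
  · exact absurd ((dvd_pow_self p hlpos.ne').trans h1) P.not_dvd_index

theorem exists_pow_coprime {p : ℕ} (hp : p.Prime) (x : Γ) :
    ∃ k : ℕ, (orderOf (x ^ p ^ k)).Coprime p := by
  obtain ⟨k, u, hu, he⟩ := Nat.exists_eq_pow_mul_and_not_dvd (orderOf_pos x).ne' p hp.ne_one
  refine ⟨k, Nat.Coprime.coprime_dvd_left (orderOf_dvd_of_pow_eq_one (n := u) ?_)
    ((hp.coprime_iff_not_dvd.mpr hu).symm)⟩
  rw [← pow_mul, ← he, pow_orderOf_eq_one]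

theorem eq_one_or_mem_of_coprime {N : Subgroup Γ} {x : Γ} {m n : ℕ} (hm : x ^ m ∈ N) (hn : x ^ n ∈ N)
    (h : m.Coprime n) : x ∈ N := by
  obtain ⟨e, he⟩ : ∃ e : ℤ × ℤ, (m : ℤ) * e.1 + (n : ℤ) * e.2 = 1 :=
    ⟨(Nat.gcdA m n, Nat.gcdB m n), by rw [← Nat.gcd_eq_gcd_ab, h]; rfl⟩
  rw [← zpow_one x, ← he, zpow_add, zpow_mul, zpow_mul, zpow_natCast, zpow_natCast]
  exact mul_mem (zpow_mem hm _) (zpow_mem hn _)

theorem res_iterate_le_mul {L L' N : Subgroup Γ} (hL'L : L' ≤ L) (hN : L ≤ Subgroup.normalizer (N : Set Γ))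
    (h : ∀ x ∈ L, ∃ y ∈ L', ∃ z ∈ N, x = y * z) (i : ℕ) :
    ∀ x ∈ res^[i] L, ∃ y ∈ res^[i] L', ∃ z ∈ N, x = y * z := by
  haveI : (N.subgroupOf L).Normal := ⟨fun d hd x => by
    rw [Subgroup.mem_subgroupOf] at hd ⊢
    exact nconj (hN x.2) hd⟩
  set f := QuotientGroup.mk' (N.subgroupOf L)
  have hL' : (L'.subgroupOf L).map f = (⊤ : Subgroup L).map f := by
    refine le_antisymm (Subgroup.map_mono le_top) ?_
    rintro _ ⟨x, -, rfl⟩
    obtain ⟨y, hy, z, hz, e⟩ := h x x.2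
    refine ⟨⟨y, hL'L hy⟩, Subgroup.mem_subgroupOf.mpr hy, ?_⟩
    refine QuotientGroup.eq.mpr (Subgroup.mem_subgroupOf.mpr ?_)
    simpa [e] using hz
  intro x hx
  rw [show L = (⊤ : Subgroup L).map L.subtype by rw [← MonoidHom.range_eq_map, Subgroup.range_subtype],
    ← iterate_res_map] at hx
  obtain ⟨x, hx, rfl⟩ := hx
  have hfx := Subgroup.mem_map_of_mem f hx
  rw [iterate_res_map, ← hL', ← iterate_res_map] at hfx
  obtain ⟨y, hy, e⟩ := hfx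
  have hz := QuotientGroup.eq.mp e
  rw [Subgroup.mem_subgroupOf] at hz
  have hy' := Subgroup.mem_map_of_mem L.subtype hy
  rw [iterate_res_map, Subgroup.map_subgroupOf_eq_of_le hL'L] at hy'
  exact ⟨_, hy', _, hz, by simp⟩

/-- A chief factor of `N` above `K0`. -/
structure Chief (a : Γ) (L N K0 N0 : Subgroup Γ) (ℓ : ℕ) : Prop where
  prime : ℓ.Prime
  le : N0 ≤ N
  ge : N ⊓ K0 ≤ N0
  proper : ¬ N ≤ N0
  norm : L ≤ nz N N0
  anorm : a ∈ nz N N0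
  le_L : N ≤ L
  comm : ∀ x ∈ N, ∀ y ∈ N, x * y * x⁻¹ * y⁻¹ ∈ N0
  pow : ∀ x ∈ N, x ^ ℓ ∈ N0
  max : ∀ K : Subgroup Γ, N0 ≤ K → K ≤ N → L ≤ Subgroup.normalizer (K : Set Γ) →
    a ∈ Subgroup.normalizer (K : Set Γ) → ¬ N ≤ K → K ≤ N0

theorem exists_chief {a : Γ} {L N K0 : Subgroup Γ} [Group.IsSolvable N] (hle : N ≤ L)
    (hN : L ≤ Subgroup.normalizer (N : Set Γ)) (haN : a ∈ Subgroup.normalizer (N : Set Γ))
    (hK : L ≤ Subgroup.normalizer (K0 : Set Γ)) (haK : a ∈ Subgroup.normalizer (K0 : Set Γ))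
    (hnle : ¬ N ≤ K0) : ∃ N0 ℓ, Chief a L N K0 N0 ℓ := by
  classical
  obtain ⟨N0, -, hmax⟩ := Finite.exists_le_maximal (a := N ⊓ K0)
    (p := fun K : Subgroup Γ => N ⊓ K0 ≤ K ∧ K ≤ N ∧ ¬ N ≤ K ∧ L ≤ Subgroup.normalizer (K : Set Γ) ∧
      a ∈ Subgroup.normalizer (K : Set Γ))
    ⟨le_rfl, inf_le_left, fun h => hnle (h.trans inf_le_right), fun x hx => mem_nz_inf (hN hx) (hK hx),
      mem_nz_inf haN haK⟩
  obtain ⟨hge, hle0, hpr, hnorm, hanorm⟩ := hmax.1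
  have hmax' : ∀ K : Subgroup Γ, N0 ≤ K → K ≤ N → L ≤ Subgroup.normalizer (K : Set Γ) →
      a ∈ Subgroup.normalizer (K : Set Γ) → ¬ N ≤ K → K ≤ N0 := fun K h1 h2 h3 h4 h5 =>
    hmax.2 ⟨hge.trans h1, h2, h5, h3, h4⟩ h1
  haveI : (N0.subgroupOf N).Normal := ⟨fun d hd x => by
    rw [Subgroup.mem_subgroupOf] at hd ⊢
    exact nconj (hnorm (hle x.2)) hd⟩
  set f := QuotientGroup.mk' (N0.subgroupOf N)
  obtain ⟨x₀, hx₀, hx₀0⟩ := SetLike.not_le_iff_exists.mp hpr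
  haveI : Nontrivial (↥N ⧸ N0.subgroupOf N) := ⟨⟨f ⟨x₀, hx₀⟩, 1, fun e => hx₀0 (by
    simpa [f, Subgroup.mem_subgroupOf] using e)⟩⟩
  haveI : Group.IsSolvable (↥N ⧸ N0.subgroupOf N) := Group.isSolvable_of_surjective (QuotientGroup.mk'_surjective _)
  -- a proper invariant set of generators lies in `N0`
  have hgen : ∀ (T : Set Γ) (K : Subgroup (↥N ⧸ N0.subgroupOf N)), K ≠ ⊤ →
      (∀ t ∈ T, ∃ h : t ∈ N, f ⟨t, h⟩ ∈ K) → (∀ x ∈ L, ∀ t ∈ T, x * t * x⁻¹ ∈ T) →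
      (∀ t ∈ T, a * t * a⁻¹ ∈ T) → ∀ t ∈ T, t ∈ N0 := by
    intro T K hK hT hTL hTa t ht
    have hnT : ∀ x : Γ, x ∈ Subgroup.normalizer (N0 : Set Γ) → (∀ t ∈ T, x * t * x⁻¹ ∈ T) →
        x ∈ Subgroup.normalizer (Subgroup.closure (T ∪ N0) : Set Γ) := fun x hx hxT =>
      mem_nz_closure fun y hy => Subgroup.subset_closure (hy.imp (hxT y) (nconj hx))
    refine hmax' (Subgroup.closure (T ∪ N0)) (fun z hz => Subgroup.subset_closure (Or.inr hz)) ?_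
      (fun x hx => hnT x (hnorm hx) (hTL x hx)) (hnT a hanorm hTa) ?_ (Subgroup.subset_closure (Or.inl ht))
    · rw [Subgroup.closure_le]
      rintro z (hz | hz)
      · exact (hT z hz).1
      · exact hle0 hz
    · intro hall
      apply hK
      rw [eq_top_iff]
      intro z _
      obtain ⟨x, rfl⟩ := QuotientGroup.mk'_surjective _ z
      have hcl : Subgroup.closure (T ∪ N0) ≤ (K.comap f).map N.subtype := by
        rw [Subgroup.closure_le]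
        rintro z (hz | hz)
        · obtain ⟨hzN, hzK⟩ := hT z hz
          exact ⟨⟨z, hzN⟩, hzK, rfl⟩
        · refine ⟨⟨z, hle0 hz⟩, ?_, rfl⟩
          rw [SetLike.mem_coe, Subgroup.mem_comap, show f ⟨z, hle0 hz⟩ = 1 by
            simpa [f, Subgroup.mem_subgroupOf] using hz]
          exact one_mem _
      obtain ⟨y, hy, e⟩ := hcl (hall x.2)
      rw [← Subtype.ext (show (y : Γ) = (x : Γ) from e)]
      exact hy
  have hcomm : ∀ x ∈ N, ∀ y ∈ N, x * y * x⁻¹ * y⁻¹ ∈ N0 := by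
    intro x hx y hy
    refine hgen {t | ∃ x ∈ N, ∃ y ∈ N, x * y * x⁻¹ * y⁻¹ = t} (_root_.commutator _)
      (Group.IsSolvable.commutator_lt_top_of_nontrivial _).ne ?_ ?_ ?_ _ ⟨x, hx, y, hy, rfl⟩
    · rintro _ ⟨x, hx, y, hy, rfl⟩
      refine ⟨mul_mem (mul_mem (mul_mem hx hy) (inv_mem hx)) (inv_mem hy), ?_⟩
      have : f ⟨x * y * x⁻¹ * y⁻¹, mul_mem (mul_mem (mul_mem hx hy) (inv_mem hx)) (inv_mem hy)⟩
          = f ⟨x, hx⟩ * f ⟨y, hy⟩ * (f ⟨x, hx⟩)⁻¹ * (f ⟨y, hy⟩)⁻¹ := by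
        rw [← map_inv, ← map_inv, ← map_mul, ← map_mul, ← map_mul]; rfl
      rw [this]
      exact Subgroup.commutator_mem_commutator (Subgroup.mem_top _) (Subgroup.mem_top _)
    · rintro g hg _ ⟨x, hx, y, hy, rfl⟩
      exact ⟨_, nconj (hN hg) hx, _, nconj (hN hg) hy, by group⟩
    · rintro _ ⟨x, hx, y, hy, rfl⟩
      exact ⟨_, nconj haN hx, _, nconj haN hy, by group⟩
  have hc : ∀ z w : ↥N ⧸ N0.subgroupOf N, z * w = w * z := by
    intro z w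
    obtain ⟨x, rfl⟩ := QuotientGroup.mk'_surjective _ z
    obtain ⟨y, rfl⟩ := QuotientGroup.mk'_surjective _ w
    rw [← map_mul, ← map_mul]
    refine QuotientGroup.eq.mpr (Subgroup.mem_subgroupOf.mpr ?_)
    have := hcomm _ (inv_mem y.2) _ (inv_mem x.2)
    simpa [mul_assoc] using this
  obtain ⟨ℓ, hℓ, hdvd⟩ := Nat.exists_prime_and_dvd
    (Finite.one_lt_card (α := ↥N ⧸ N0.subgroupOf N)).ne'
  haveI : Fact ℓ.Prime := ⟨hℓ⟩
  let pw : (↥N ⧸ N0.subgroupOf N) →* (↥N ⧸ N0.subgroupOf N) :=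
    { toFun := fun z => z ^ ℓ
      map_one' := one_pow _
      map_mul' := fun z w => (show Commute z w from hc z w).mul_pow ℓ }
  have hpw : pw.range ≠ ⊤ := by
    intro h
    obtain ⟨z, hz⟩ := exists_prime_orderOf_dvd_card' ℓ hdvd
    have hinj : Function.Injective pw := Finite.injective_iff_surjective.mpr (MonoidHom.range_eq_top.mp h)
    have : z = 1 := hinj (by rw [map_one]; show z ^ ℓ = 1; rw [← hz, pow_orderOf_eq_one])
    rw [this, orderOf_one] at hz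
    exact hℓ.one_lt.ne hz
  refine ⟨N0, ℓ, hℓ, hle0, hge, hpr, fun x hx => ⟨hN hx, hnorm hx⟩, ⟨haN, hanorm⟩, hle, hcomm, ?_, hmax'⟩
  intro x hx
  refine hgen {t | ∃ x ∈ N, x ^ ℓ = t} pw.range hpw ?_ ?_ ?_ _ ⟨x, hx, rfl⟩
  · rintro _ ⟨x, hx, rfl⟩
    exact ⟨pow_mem hx ℓ, f ⟨x, hx⟩, (map_pow f (⟨x, hx⟩ : N) ℓ).symm⟩
  · rintro g hg _ ⟨x, hx, rfl⟩
    exact ⟨_, nconj (hN hg) hx, by rw [conj_pow]⟩
  · rintro _ ⟨x, hx, rfl⟩
    exact ⟨_, nconj haN hx, by rw [conj_pow]⟩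

/-- Some element of order prime to `ℓ` moves a chief factor that is moved. -/
theorem Chief.exists_coprime_moving {a : Γ} {L N K0 N0 : Subgroup Γ} {ℓ : ℕ} (h : Chief a L N K0 N0 ℓ)
    {M' M'' : Subgroup Γ} (hM' : M' ≤ L) (hM'' : M'' ≤ M') (hcov : ∀ x ∈ M', ∃ y ∈ M'', ∃ z ∈ N, x = y * z)
    (hnL : L ≤ Subgroup.normalizer (M' : Set Γ)) (hna : a ∈ Subgroup.normalizer (M' : Set Γ)) {m : Γ} (hm : m ∈ M')
    (hmoved : ¬ Triv N N0 m) : ∃ x ∈ M'', (orderOf x).Coprime ℓ ∧ ¬ Triv N N0 x := by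
  classical
  haveI : Fact ℓ.Prime := ⟨h.prime⟩
  obtain ⟨R⟩ := nonempty_rep h.le h.comm h.pow
  by_contra! hall
  let act : M'' →* (Module.End (ZMod ℓ) R.V)ˣ :=
    (R.π.comp (Subgroup.inclusion ((hM''.trans hM').trans h.norm))).toHomUnits
  have hG : IsPGroup ℓ act.range := by
    rintro ⟨_, x, rfl⟩
    obtain ⟨k, hk⟩ := exists_pow_coprime h.prime (x : Γ)
    refine ⟨k, Subtype.ext ?_⟩
    show act x ^ ℓ ^ k = 1
    rw [← map_pow]
    refine Units.ext ?_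
    exact (R.fix_iff _).mpr (hall _ (M''.pow_mem x.2 _) hk)
  obtain ⟨v, hv, hv0⟩ : ∃ v : R.V, (∀ g : act.range, g • v = v) ∧ v ≠ 0 := by
    obtain ⟨x₀, hx₀, hx₀0⟩ := SetLike.not_le_iff_exists.mp h.proper
    have hne : R.mk x₀ ≠ 0 := fun e => hx₀0 ((R.mk_eq_zero x₀ hx₀).mp e)
    have hdvd : ℓ ∣ Nat.card R.V := by
      have hord : addOrderOf (R.mk x₀) = ℓ :=
        addOrderOf_eq_prime (by rw [← Nat.cast_smul_eq_nsmul (ZMod ℓ), ZMod.natCast_self, zero_smul]) hne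
      have h2 := addOrderOf_dvd_natCard (R.mk x₀)
      rwa [hord] at h2
    obtain ⟨b, hb, hb0⟩ := hG.exists_fixed_point_of_prime_dvd_card_of_fixed_point R.V hdvd (a := 0)
      (fun g => smul_zero g)
    exact ⟨b, hb, hb0.symm⟩
  have hfix : ∀ x (hx : x ∈ M'), R.π ⟨x, h.norm (hM' hx)⟩ v = v := by
    intro x hx
    obtain ⟨y, hy, z, hz, e⟩ := hcov x hx
    rw [show (⟨x, h.norm (hM' hx)⟩ : ↥(nz N N0)) = ⟨y, h.norm (hM' (hM'' hy))⟩ * ⟨z, h.norm (h.le_L hz)⟩ from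
      Subtype.ext e, map_mul, (R.fix_iff ⟨z, _⟩).mpr (h.comm z hz), mul_one]
    exact hv ⟨act ⟨y, hy⟩, ⟨y, hy⟩, rfl⟩
  let Fx : Subgroup Γ :=
    { carrier := {e | e ∈ N ∧ ∀ x (hx : x ∈ M'), R.π ⟨x, h.norm (hM' hx)⟩ (R.mk e) = R.mk e}
      one_mem' := ⟨one_mem _, fun x hx => by rw [R.mk_one, map_zero]⟩
      mul_mem' := fun {e f} he hf => ⟨N.mul_mem he.1 hf.1, fun x hx => by
        rw [R.mk_mul _ he.1 _ hf.1, map_add, he.2 x hx, hf.2 x hx]⟩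
      inv_mem' := fun {e} he => ⟨inv_mem he.1, fun x hx => by rw [R.mk_inv he.1, map_neg, he.2 x hx]⟩ }
  have hFn : ∀ g : ↥(nz N N0), (g : Γ) ∈ Subgroup.normalizer (M' : Set Γ) →
      (g : Γ) ∈ Subgroup.normalizer (Fx : Set Γ) := by
    intro g hg
    refine mem_nz fun e he => ⟨nconj g.2.1 he.1, fun x hx => ?_⟩
    have hx' : (g : Γ)⁻¹ * x * g ∈ M' := by simpa using nconj (inv_mem hg) hx
    rw [R.mk_conj g e he.1, ← apply_mul, show (⟨x, h.norm (hM' hx)⟩ : ↥(nz N N0)) * g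
      = g * ⟨(g : Γ)⁻¹ * x * g, h.norm (hM' hx')⟩ from Subtype.ext (by push_cast; group), apply_mul, he.2 _ hx']
  have hN0 : N0 ≤ Fx := fun e he => ⟨h.le he, fun x hx => by rw [(R.mk_eq_zero e (h.le he)).mpr he, map_zero]⟩
  obtain ⟨e, he, rfl⟩ := R.mk_surj v
  by_cases hall' : N ≤ Fx
  · refine hmoved fun y hy => ?_
    have := (hall' hy).2 m hm
    rw [← sub_eq_zero, ← R.mk_comm hy, R.mk_eq_zero] at this
    · exact this
    · exact mul_mem (nconj (h.norm (hM' hm)).1 hy) (inv_mem hy)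
  · exact hv0 ((R.mk_eq_zero e he).mpr (h.max Fx hN0 (fun z hz => hz.1) (fun g hg => hFn ⟨g, h.norm hg⟩ (hnL hg))
      (hFn ⟨a, h.anorm⟩ hna) hall' ⟨he, hfix⟩))

/-- An invariant Sylow subgroup covering a chief factor, with the Frattini argument. -/
theorem Chief.exists_sylow {a : Γ} {r : ℕ} (hr : r.Prime) (ha : a ^ r = 1) {L N K0 N0 : Subgroup Γ} {ℓ : ℕ}
    (h : Chief a L N K0 N0 ℓ) [Group.IsSolvable N] (hrN : ¬ r ∣ Nat.card N) :
    ∃ Q : Subgroup Γ, Q ≤ N ∧ IsPGroup ℓ Q ∧ a ∈ Subgroup.normalizer (Q : Set Γ) ∧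
      (∀ x ∈ N, ∃ y ∈ Q, ∃ z ∈ N0, x = y * z) ∧
      ∀ x ∈ L, ∃ y ∈ L ⊓ Subgroup.normalizer (Q : Set Γ), ∃ z ∈ N, x = y * z := by
  haveI : Fact ℓ.Prime := ⟨h.prime⟩
  obtain ⟨P, hP⟩ := Cfsg.Agent.Coprime.exists_invariant_sylow ℓ (A := Subgroup.zpowers a) (K := N)
    (Subgroup.zpowers_le.mpr h.anorm.1) (by
      rw [Nat.card_zpowers]
      exact Nat.Coprime.coprime_dvd_left (orderOf_dvd_of_pow_eq_one ha) ((hr.coprime_iff_not_dvd.mpr hrN))) (Or.inr inferInstance)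
  set Q := (P : Subgroup N).map N.subtype with hQ
  refine ⟨Q, Subgroup.map_subtype_le _, P.2.map _, hP (Subgroup.mem_zpowers a), fun x hx => ?_, fun g hg => ?_⟩
  · haveI : (N0.subgroupOf N).Normal := ⟨fun d hd y => by
      rw [Subgroup.mem_subgroupOf] at hd ⊢
      exact nconj (h.norm (h.le_L y.2)).2 hd⟩
    have htop := sylow_sup_eq_top P (N0.subgroupOf N) fun y => ⟨1, by
      rw [pow_one, Subgroup.mem_subgroupOf]; simpa using h.pow y y.2⟩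
    have hxm : (⟨x, hx⟩ : N) ∈ (P : Subgroup N) ⊔ N0.subgroupOf N := by
      rw [htop]; exact Subgroup.mem_top _
    obtain ⟨y, hy, z, hz, e⟩ := Subgroup.mem_sup_of_normal_right.mp hxm
    exact ⟨y, ⟨y, hy, rfl⟩, z, hz, (congrArg Subtype.val e).symm⟩
  · let f : N →* N :=
      { toFun := fun y => ⟨g * y * g⁻¹, nconj (h.norm hg).1 y.2⟩
        map_one' := Subtype.ext (by simp)
        map_mul' := fun y z => Subtype.ext (by simp) }
    have hf : Function.Injective f := fun y z e =>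
      Subtype.ext (mul_left_cancel (mul_right_cancel (congrArg Subtype.val e)))
    let P2 : Sylow ℓ N := Sylow.ofCard ((P : Subgroup N).map f)
      (by rw [Subgroup.card_map_of_injective hf, P.card_eq_multiplicity])
    obtain ⟨n, hn⟩ := MulAction.exists_smul_eq N P P2
    have hy : g⁻¹ * n ∈ Subgroup.normalizer (Q : Set Γ) := by
      refine mem_nz ?_
      rintro _ ⟨y, hy, rfl⟩
      have h1 : MulAut.conj n • y ∈ ((P2 : Sylow ℓ N) : Subgroup N) := by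
        rw [← hn, Sylow.coe_subgroup_smul]
        exact Subgroup.smul_mem_pointwise_smul y (MulAut.conj n) _ hy
      obtain ⟨y', hy', e⟩ := h1
      refine ⟨y', hy', ?_⟩
      have e' : g * (y' : Γ) * g⁻¹ = (n : Γ) * y * (n : Γ)⁻¹ := congrArg Subtype.val e
      show (y' : Γ) = _
      rw [show (g⁻¹ * (n : Γ)) * ((N.subtype) y) * (g⁻¹ * (n : Γ))⁻¹ = g⁻¹ * ((n : Γ) * y * (n : Γ)⁻¹) * g by
        simp [mul_assoc], ← e']
      group
    refine ⟨(n : Γ)⁻¹ * g, ⟨L.mul_mem (L.inv_mem (h.le_L n.2)) hg, by simpa using (Subgroup.normalizer (Q : Set Γ)).inv_mem hy⟩,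
      ((n : Γ)⁻¹ * g)⁻¹ * n * ((n : Γ)⁻¹ * g), ?_, by group⟩
    simpa using nconj (inv_mem (h.norm (L.mul_mem (L.inv_mem (h.le_L n.2)) hg)).1) n.2

end Cfsg.Agent.TurullOne
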