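/-
Each step of the residual series gives one further invariant section below.
-/
import Mathlib
import Cfsg.Agent.TurullOne.Weak

set_option autoImplicit false
set_option linter.style.haveILetI false
set_option linter.unusedSectionVars false
set_option maxHeartbeats 400000

namespace Cfsg.Agent.TurullOne

universe u

variable {Γ : Type u} [Group Γ] [Finite Γ]

/-- A section moved by an element of order prime to `p` of the `i`-th residual of `L`. -/
structure State (G0 : Subgroup Γ) (a : Γ) (i : ℕ) (L P D : Subgroup Γ) (p : ℕ) : Prop where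
  prime : p.Prime
  pgroup : IsPGroup p P
  P_le : P ≤ G0
  L_le : L ≤ G0
  aL : a ∈ Subgroup.normalizer (L : Set Γ)
  aP : a ∈ nz P D
  hL : L ≤ nz P D
  D_le : D ≤ P
  D_norm : P ≤ Subgroup.normalizer (D : Set Γ)
  proper : ¬ P ≤ D
  act : ∃ x ∈ res^[i] L, (orderOf x).Coprime p ∧ ¬ Triv P D x

/-- Invariant sections, each normalised by and moved by those below. -/
structure Weak (G0 : Subgroup Γ) (a : Γ) (m : ℕ) (P D : ℕ → Subgroup Γ) (q : ℕ → ℕ) : Prop where
  prime : ∀ k ≤ m, (q k).Prime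
  pgroup : ∀ k ≤ m, IsPGroup (q k) (P k)
  le_G0 : ∀ k ≤ m, P k ≤ G0
  D_le : ∀ k ≤ m, D k ≤ P k
  proper : ∀ k ≤ m, ¬ P k ≤ D k
  anorm : ∀ k ≤ m, a ∈ nz (P k) (D k)
  norm : ∀ i k, i ≤ k → k ≤ m → P i ≤ nz (P k) (D k)
  ne : ∀ k < m, q k ≠ q (k + 1)
  ker : ∀ k < m, ∀ x ∈ P k, Triv (P (k + 1)) (D (k + 1)) x → x ∈ D k

/-- The residual just above moves a chief factor. -/
theorem moved_of_residual {a : Γ} {L N K0 N0 : Subgroup Γ} {ℓ p : ℕ} (h : Chief a L N K0 N0 ℓ) (hp : p.Prime)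
    (hne : ℓ ≠ p) (i : ℕ) (hN : N ≤ res^[i + 1] L)
    (hM : ∀ x ∈ res^[i + 1] L, ∃ k : ℕ, x ^ p ^ k ∈ N) : ∃ m ∈ res^[i] L, ¬ Triv N N0 m := by
  classical
  haveI : Fact p.Prime := ⟨hp⟩
  by_contra! hall
  set M := res^[i + 1] L with hMdef
  set M' := res^[i] L with hM'def
  have hMM' : M ≤ M' := iterate_res_antitone L (Nat.le_succ i)
  have hML : M ≤ L := iterate_res_le L (i + 1)
  have hM'M : M' ≤ Subgroup.normalizer (M : Set Γ) :=
    (iterate_res_le L i).trans (le_normalizer_iterate_res L (i + 1))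
  haveI : (N.subgroupOf M).Normal := ⟨fun d hd x => by
    rw [Subgroup.mem_subgroupOf] at hd ⊢
    exact nconj (h.norm (hML x.2)).1 hd⟩
  let S : Sylow p M := default
  set Sm := (S : Subgroup M).map M.subtype with hSm
  have hSM : Sm ≤ M := Subgroup.map_subtype_le _
  have hcov : ∀ x ∈ M, ∃ s ∈ Sm, ∃ y ∈ N, x = s * y := by
    intro x hx
    have htop := sylow_sup_eq_top S (N.subgroupOf M) fun z => by
      obtain ⟨k, hk⟩ := hM z z.2
      exact ⟨k, by rw [Subgroup.mem_subgroupOf]; simpa using hk⟩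
    have hxm : (⟨x, hx⟩ : M) ∈ (S : Subgroup M) ⊔ N.subgroupOf M := by rw [htop]; exact Subgroup.mem_top _
    obtain ⟨s, hs, y, hy, e⟩ := Subgroup.mem_sup_of_normal_right.mp hxm
    exact ⟨s, ⟨s, hs, rfl⟩, y, hy, (congrArg Subtype.val e).symm⟩
  set Y0 := Sm ⊔ N0 with hY0
  have hSN0 : Sm ≤ Subgroup.normalizer (N0 : Set Γ) := fun x hx => (h.norm (hML (hSM hx))).2
  -- `N` is central modulo `N0`
  have hcen : ∀ y ∈ N, ∀ m ∈ M', y * m * y⁻¹ * m⁻¹ ∈ N0 := fun y hy m hm => by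
    rw [show y * m * y⁻¹ * m⁻¹ = (m * y * m⁻¹ * y⁻¹)⁻¹ by group]
    exact inv_mem (hall m hm y hy)
  have hNY : ∀ y ∈ N, y ∈ Subgroup.normalizer (Y0 : Set Γ) := fun y hy => by
    refine mem_nz fun w hw => ?_
    obtain ⟨s, hs, z, hz, rfl⟩ := mem_sup_norm hSN0 hw
    rw [show y * (s * z) * y⁻¹ = (y * s * y⁻¹ * s⁻¹) * s * (y * z * y⁻¹) by group]
    refine mul_mem (mul_mem ?_ (Subgroup.mem_sup_left hs)) (Subgroup.mem_sup_right (nconj (h.norm (h.le_L hy)).2 hz))
    exact Subgroup.mem_sup_right (hcen y hy s (hMM' (hSM hs)))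
  -- the elements of `p`-power order of `M` lie in `Y0`
  have hel : ∀ x ∈ M, ∀ k : ℕ, x ^ p ^ k = 1 → x ∈ Y0 := by
    intro x hx k hk
    obtain ⟨s, hs, y, hy, rfl⟩ := hcov x hx
    have hpw : ∀ j : ℕ, (s * y) ^ j * (y ^ j)⁻¹ ∈ Y0 := by
      intro j
      induction j with
      | zero => simp [one_mem]
      | succ j ih =>
        rw [show (s * y) ^ (j + 1) * (y ^ (j + 1))⁻¹
          = ((s * y) ^ j * (y ^ j)⁻¹) * (y ^ j * s * (y ^ j)⁻¹) by rw [pow_succ, pow_succ]; group]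
        exact mul_mem ih (nconj (hNY _ (N.pow_mem hy j)) (Subgroup.mem_sup_left hs))
    refine eq_one_or_mem_of_coprime (N := Y0) (m := p ^ k) (n := ℓ) (by rw [hk]; exact one_mem _) ?_
      (Nat.Coprime.pow_left k ((Nat.coprime_primes hp h.prime).mpr hne.symm))
    have := mul_mem (hpw ℓ) (Subgroup.mem_sup_right (h.pow y hy) : y ^ ℓ ∈ Y0)
    rwa [inv_mul_cancel_right] at this
  have hle : M ≤ Y0 := by
    rw [show M = ⁅M, M'⁆ by rw [hMdef, Function.iterate_succ_apply', commutator_res]]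
    rw [Subgroup.commutator_le]
    intro x hx m hm
    obtain ⟨s, hs, y, hy, rfl⟩ := hcov x hx
    obtain ⟨k, hk⟩ := (S.2.map M.subtype) ⟨s, hs⟩
    have hk' : s ^ p ^ k = 1 := by simpa using congrArg Subtype.val hk
    rw [commutatorElement_def, show s * y * m * (s * y)⁻¹ * m⁻¹
      = (s * (y * m * y⁻¹ * m⁻¹) * s⁻¹) * (s * (m * s⁻¹ * m⁻¹)) by group]
    refine mul_mem (Subgroup.mem_sup_right (nconj (hSN0 hs) (hcen y hy m hm)))
      (mul_mem (Subgroup.mem_sup_left hs) (hel _ (nconj (hM'M hm) (inv_mem (hSM hs))) k ?_))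
    rw [conj_pow, inv_pow, hk', inv_one, mul_one, mul_inv_cancel]
  refine h.proper fun y hy => ?_
  obtain ⟨s, hs, z, hz, e⟩ := mem_sup_norm hSN0 (hle (hN hy))
  obtain ⟨k, hk⟩ := (S.2.map M.subtype) ⟨s, hs⟩
  have hsN : s ∈ N := by
    have : s = y * z⁻¹ := by rw [e, mul_inv_cancel_right]
    rw [this]
    exact N.mul_mem hy (inv_mem (h.le hz))
  have hs0 : s ∈ N0 := eq_one_or_mem_of_coprime (m := p ^ k) (n := ℓ)
    (by rw [show s ^ p ^ k = 1 by simpa using congrArg Subtype.val hk]; exact one_mem _) (h.pow s hsN)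
    (Nat.Coprime.pow_left k ((Nat.coprime_primes hp h.prime).mpr hne.symm))
  rw [e]
  exact mul_mem hs0 hz

/-- One step down. -/
theorem State.step {G0 : Subgroup Γ} {a : Γ} {r : ℕ} (hr : r.Prime) (ha : a ^ r = 1) [Group.IsSolvable G0]
    (hrG : ¬ r ∣ Nat.card G0) {i : ℕ} {L P D : Subgroup Γ} {p : ℕ} (hS : State G0 a i L P D p) :
    ∃ (Q DQ L' : Subgroup Γ) (ℓ : ℕ), ℓ.Prime ∧ ℓ ≠ p ∧ IsPGroup ℓ Q ∧ Q ≤ L ∧ L' ≤ L ∧
      a ∈ Subgroup.normalizer (L' : Set Γ) ∧ a ∈ nz Q DQ ∧ L' ≤ nz Q DQ ∧ DQ ≤ Q ∧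
      Q ≤ Subgroup.normalizer (DQ : Set Γ) ∧ ¬ Q ≤ DQ ∧ (∀ x ∈ Q, Triv P D x → x ∈ DQ) ∧
      ∀ i', i = i' + 1 → State G0 a i' L' Q DQ ℓ := by
  classical
  set M := res^[i] L with hMdef
  have hMn : L ≤ Subgroup.normalizer (M : Set Γ) := le_normalizer_iterate_res L i
  have hMa : a ∈ Subgroup.normalizer (M : Set Γ) := mem_nz_iterate_res hS.aL i
  set N1 := Subgroup.closure {x | x ∈ M ∧ (orderOf x).Coprime p} with hN1
  have hN1M : N1 ≤ M := by rw [hN1, Subgroup.closure_le]; exact fun x hx => hx.1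
  have hN1L : N1 ≤ L := hN1M.trans (iterate_res_le L i)
  have hN1n : ∀ g, g ∈ Subgroup.normalizer (M : Set Γ) → g ∈ Subgroup.normalizer (N1 : Set Γ) := fun g hg =>
    mem_nz_closure fun y hy => Subgroup.subset_closure ⟨nconj hg hy.1, by
      rw [show g * y * g⁻¹ = MulAut.conj g y from rfl, MulEquiv.orderOf_eq]; exact hy.2⟩
  haveI : Group.IsSolvable N1 :=
    Group.isSolvable_of_isSolvable_injective (f := Subgroup.inclusion (hN1L.trans hS.L_le)) (Subgroup.inclusion_injective _)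
  set C0 := kerSec P D ⊓ L with hC0
  have hnle : ¬ N1 ≤ C0 := by
    obtain ⟨x, hx, hxc, hxt⟩ := hS.act
    exact fun hle => hxt (mem_kerSec.mp (hle (Subgroup.subset_closure ⟨hx, hxc⟩)).1).2
  obtain ⟨N0, ℓ, h⟩ := exists_chief (a := a) hN1L (fun g hg => hN1n g (hMn hg)) (hN1n a hMa)
    (fun g hg => mem_nz_inf (nz_le_normalizer_kerSec P D (hS.hL hg)) (Subgroup.le_normalizer hg))
    (mem_nz_inf (nz_le_normalizer_kerSec P D hS.aP) hS.aL) hnle
  have hℓp : ℓ ≠ p := by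
    intro e
    refine h.proper ?_
    rw [hN1, Subgroup.closure_le]
    intro x hx
    exact eq_one_or_mem_of_coprime (m := orderOf x) (n := ℓ) (by rw [pow_orderOf_eq_one]; exact one_mem _)
      (h.pow x (Subgroup.subset_closure hx)) (by rw [e]; exact hx.2)
  obtain ⟨Q, hQN, hQp, hQa, hcov, hfrat⟩ := h.exists_sylow hr ha
    fun hd => hrG (hd.trans (Subgroup.card_dvd_of_le (hN1L.trans hS.L_le)))
  set L' := L ⊓ Subgroup.normalizer (Q : Set Γ) with hL'
  have hL'a : a ∈ Subgroup.normalizer (L' : Set Γ) :=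
    mem_nz fun y hy => ⟨nconj hS.aL hy.1, (Subgroup.normalizer (Q : Set Γ)).mul_mem ((Subgroup.normalizer (Q : Set Γ)).mul_mem hQa hy.2) (inv_mem hQa)⟩
  have hQD : ¬ Q ≤ Q ⊓ N0 := by
    intro hle
    refine h.proper fun x hx => ?_
    obtain ⟨y, hy, z, hz, rfl⟩ := hcov x hx
    exact mul_mem (hle hy).2 hz
  have haQ : a ∈ nz Q (Q ⊓ N0) := ⟨hQa, mem_nz_inf hQa h.anorm.2⟩
  have hL'Q : L' ≤ nz Q (Q ⊓ N0) := fun x hx => ⟨hx.2, mem_nz_inf hx.2 (h.norm hx.1).2⟩
  have hQn : Q ≤ Subgroup.normalizer ((Q ⊓ N0 : Subgroup Γ) : Set Γ) := fun x hx =>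
    mem_nz_inf (Subgroup.le_normalizer hx) (h.norm (h.le_L (hQN hx))).2
  refine ⟨Q, Q ⊓ N0, L', ℓ, h.prime, hℓp, hQp, hQN.trans hN1L, inf_le_left, hL'a, haQ, hL'Q, inf_le_left, hQn, hQD,
    fun x hx ht => ⟨hx, h.ge ⟨hQN hx, ⟨hS.hL (hN1L (hQN hx)), ht⟩, hN1L (hQN hx)⟩⟩, fun i' hi' => ?_⟩
  refine ⟨h.prime, hQp, (hQN.trans hN1L).trans hS.L_le, inf_le_left.trans hS.L_le, hL'a, haQ, hL'Q, inf_le_left,
    hQn, hQD, ?_⟩
  subst hi'
  obtain ⟨m, hm, hmv⟩ := moved_of_residual h hS.prime hℓp i' hN1M fun x hx => by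
    obtain ⟨k, hk⟩ := exists_pow_coprime hS.prime x
    exact ⟨k, Subgroup.subset_closure ⟨pow_mem hx _, hk⟩⟩
  obtain ⟨x, hx, hxc, hxt⟩ := h.exists_coprime_moving (M' := res^[i'] L) (M'' := res^[i'] L') (iterate_res_le L i')
    (iterate_res_mono inf_le_left i') (res_iterate_le_mul inf_le_left (fun g hg => (h.norm hg).1) hfrat i')
    (le_normalizer_iterate_res L i') (mem_nz_iterate_res hS.aL i') hm hmv
  refine ⟨x, hx, hxc, fun ht => hxt fun y hy => ?_⟩
  obtain ⟨y', hy', z, hz, rfl⟩ := hcov y hy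
  have hxL' : x ∈ L' := iterate_res_le _ i' hx
  have hxn := h.norm hxL'.1
  rw [show x * (y' * z) * x⁻¹ * (y' * z)⁻¹
    = (x * y' * x⁻¹ * y'⁻¹) * (y' * ((x * z * x⁻¹) * z⁻¹) * y'⁻¹) by group]
  exact mul_mem (ht y' hy').2 (nconj (h.norm (h.le_L (hQN hy'))).2 (mul_mem (nconj hxn.2 hz) (inv_mem hz)))

/-- The sections below a state. -/
theorem State.exists_weak {G0 : Subgroup Γ} {a : Γ} {r : ℕ} (hr : r.Prime) (ha : a ^ r = 1) [Group.IsSolvable G0]
    (hrG : ¬ r ∣ Nat.card G0) : ∀ (i : ℕ) {L P D : Subgroup Γ} {p : ℕ}, State G0 a i L P D p →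
      ∃ (Ps Ds : ℕ → Subgroup Γ) (qs : ℕ → ℕ), Weak G0 a (i + 1) Ps Ds qs ∧ (∀ k ≤ i, Ps k ≤ L) ∧
        Ps (i + 1) = P ∧ Ds (i + 1) = D ∧ qs (i + 1) = p := by
  intro i
  induction i with
  | zero =>
    intro L P D p hS
    obtain ⟨Q, DQ, L', ℓ, hℓ, hne, hQp, hQL, -, -, haQ, -, hDQ, hQn, hQD, hker, -⟩ := hS.step hr ha hrG
    refine ⟨fun k => if k = 0 then Q else P, fun k => if k = 0 then DQ else D, fun k => if k = 0 then ℓ else p,
      ⟨?_, ?_, ?_, ?_, ?_, ?_, ?_, ?_, ?_⟩, ?_, rfl, rfl, rfl⟩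
    all_goals intro k
    · intro _; split_ifs with h; exacts [hℓ, hS.prime]
    · intro _; by_cases h : k = 0; exacts [by rw [if_pos h, if_pos h]; exact hQp, by rw [if_neg h, if_neg h]; exact hS.pgroup]
    · intro _; split_ifs with h; exacts [hQL.trans hS.L_le, hS.P_le]
    · intro _; split_ifs with h; exacts [hDQ, hS.D_le]
    · intro _; split_ifs with h; exacts [hQD, hS.proper]
    · intro _; split_ifs with h; exacts [haQ, hS.aP]
    · intro j hkj hj
      rcases Nat.eq_zero_or_pos j with rfl | hjp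
      · obtain rfl : k = 0 := by omega
        simp only [if_true]
        exact le_inf Subgroup.le_normalizer hQn
      · obtain rfl : j = 1 := by omega
        by_cases h : k = 0 <;> simp only [h, if_true, if_false, one_ne_zero]
        exacts [hQL.trans hS.hL, le_inf Subgroup.le_normalizer hS.D_norm]
    · intro hk; obtain rfl : k = 0 := by omega
      simpa using hne
    · intro hk; obtain rfl : k = 0 := by omega
      simpa using hker
    · intro hk; obtain rfl : k = 0 := by omega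
      simpa using hQL
  | succ i ih =>
    intro L P D p hS
    obtain ⟨Q, DQ, L', ℓ, hℓ, hne, hQp, hQL, hL'L, -, -, -, -, -, -, hker, hnext⟩ := hS.step hr ha hrG
    obtain ⟨Ps, Ds, qs, hW, hle, hPs, hDs, hqs⟩ := ih (hnext i rfl)
    have hleL : ∀ k ≤ i + 1, Ps k ≤ L := fun k hk => by
      rcases Nat.lt_or_eq_of_le hk with h | rfl
      · exact (hle k (by omega)).trans hL'L
      · rw [hPs]; exact hQL
    have hsame : ∀ {α : Type u} (f : ℕ → α) (x : α) (k : ℕ), k ≤ i + 1 →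
        (if k ≤ i + 1 then f k else x) = f k := fun f x k hk => if_pos hk
    refine ⟨fun k => if k ≤ i + 1 then Ps k else P, fun k => if k ≤ i + 1 then Ds k else D,
      fun k => if k ≤ i + 1 then qs k else p, ⟨?_, ?_, ?_, ?_, ?_, ?_, ?_, ?_, ?_⟩, ?_, by simp, by simp, by simp⟩
    all_goals intro k
    · intro _; split_ifs with h; exacts [hW.prime k h, hS.prime]
    · intro _; by_cases h : k ≤ i + 1; exacts [by rw [if_pos h, if_pos h]; exact hW.pgroup k h, by rw [if_neg h, if_neg h]; exact hS.pgroup]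
    · intro _; split_ifs with h; exacts [hW.le_G0 k h, hS.P_le]
    · intro _; split_ifs with h; exacts [hW.D_le k h, hS.D_le]
    · intro _; split_ifs with h; exacts [hW.proper k h, hS.proper]
    · intro _; split_ifs with h; exacts [hW.anorm k h, hS.aP]
    · intro j hkj hj
      by_cases h : j ≤ i + 1
      · simp only [h, hkj.trans h, if_true]
        exact hW.norm k j hkj h
      · by_cases hk : k ≤ i + 1 <;> simp only [h, hk, if_true, if_false]
        exacts [(hleL k hk).trans hS.hL, le_inf Subgroup.le_normalizer hS.D_norm]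
    · intro hk
      rcases Nat.lt_or_eq_of_le (Nat.le_of_lt_succ hk) with h | rfl
      · simp only [show k ≤ i + 1 by omega, show k + 1 ≤ i + 1 by omega, if_true]
        exact hW.ne k (by omega)
      · simp only [le_refl, if_true, show ¬ (i + 1 + 1 ≤ i + 1) by omega, if_false, hqs]
        exact hne
    · intro hk
      rcases Nat.lt_or_eq_of_le (Nat.le_of_lt_succ hk) with h | rfl
      · simp only [show k ≤ i + 1 by omega, show k + 1 ≤ i + 1 by omega, if_true]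
        exact hW.ker k (by omega)
      · simp only [le_refl, if_true, show ¬ (i + 1 + 1 ≤ i + 1) by omega, if_false, hPs, hDs]
        exact hker
    · intro hk
      simp only [hk, if_true]
      exact hleL k hk

/-- The top of the chain. -/
theorem exists_weak {G0 : Subgroup Γ} {a : Γ} {r : ℕ} (hr : r.Prime) (ha : a ^ r = 1) [Group.IsSolvable G0]
    (hrG : ¬ r ∣ Nat.card G0) (haG : a ∈ Subgroup.normalizer (G0 : Set Γ)) {n : ℕ}
    (hne : res^[n + 2] G0 ≠ ⊥) : ∃ (P D : ℕ → Subgroup Γ) (q : ℕ → ℕ), Weak G0 a (n + 2) P D q := by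
  classical
  set N := res^[n + 2] G0 with hN
  have hNG : N ≤ G0 := iterate_res_le G0 _
  haveI : Group.IsSolvable N :=
    Group.isSolvable_of_isSolvable_injective (f := Subgroup.inclusion hNG) (Subgroup.inclusion_injective _)
  obtain ⟨N0, p, h⟩ := exists_chief (a := a) (K0 := ⊥) hNG (le_normalizer_iterate_res G0 _)
    (mem_nz_iterate_res haG _) (fun x _ => mem_nz fun y hy => by simp [Subgroup.mem_bot.mp hy])
    (mem_nz fun y hy => by simp [Subgroup.mem_bot.mp hy]) fun hle => hne (le_bot_iff.mp hle)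
  obtain ⟨m, hm, hmv⟩ : ∃ m ∈ res^[n + 1] G0, ¬ Triv N N0 m := by
    by_contra! hall
    refine h.proper ?_
    rw [show N = ⁅N, res^[n + 1] G0⁆ by rw [hN, Function.iterate_succ_apply', commutator_res], Subgroup.commutator_le]
    intro x hx y hy
    rw [commutatorElement_def, show x * y * x⁻¹ * y⁻¹ = (y * x * y⁻¹ * x⁻¹)⁻¹ by group]
    exact inv_mem (hall y hy x hx)
  obtain ⟨P, hPN, hPp, hPa, hcov, hfrat⟩ := h.exists_sylow hr ha fun hd =>
    hrG (hd.trans (Subgroup.card_dvd_of_le hNG))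
  set L := G0 ⊓ Subgroup.normalizer (P : Set Γ) with hL
  obtain ⟨x, hx, hxc, hxt⟩ := h.exists_coprime_moving (M' := res^[n + 1] G0) (M'' := res^[n + 1] L)
    (iterate_res_le G0 _) (iterate_res_mono inf_le_left _)
    (res_iterate_le_mul inf_le_left (fun g hg => (h.norm hg).1) hfrat _)
    (le_normalizer_iterate_res G0 _) (mem_nz_iterate_res haG _) hm hmv
  obtain ⟨Ps, Ds, qs, hW, -⟩ := State.exists_weak hr ha hrG (n + 1) (L := L) (P := P) (D := P ⊓ N0) (p := p)
    ⟨h.prime, hPp, hPN.trans hNG, inf_le_left,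
      mem_nz fun y hy => ⟨nconj haG hy.1, (Subgroup.normalizer (P : Set Γ)).mul_mem ((Subgroup.normalizer (P : Set Γ)).mul_mem hPa hy.2) (inv_mem hPa)⟩,
      ⟨hPa, mem_nz_inf hPa h.anorm.2⟩, fun g hg => ⟨hg.2, mem_nz_inf hg.2 (h.norm hg.1).2⟩, inf_le_left,
      fun g hg => mem_nz_inf (Subgroup.le_normalizer hg) (h.norm (hNG (hPN hg))).2,
      fun hle => h.proper fun y hy => by
        obtain ⟨y', hy', z, hz, rfl⟩ := hcov y hy
        exact mul_mem (hle hy').2 hz,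
      x, hx, hxc, fun ht => hxt fun y hy => by
        obtain ⟨y', hy', z, hz, rfl⟩ := hcov y hy
        have hxn := h.norm (iterate_res_le L _ hx).1
        rw [show x * (y' * z) * x⁻¹ * (y' * z)⁻¹
          = (x * y' * x⁻¹ * y'⁻¹) * (y' * ((x * z * x⁻¹) * z⁻¹) * y'⁻¹) by group]
        exact mul_mem (ht y' hy').2 (nconj (h.norm (hNG (hPN hy'))).2 (mul_mem (nconj hxn.2 hz) (inv_mem hz)))⟩
  exact ⟨Ps, Ds, qs, hW⟩

end Cfsg.Agent.TurullOne
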