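/-
Minimal invariant subgroups inside the chain of sections: the layers are special groups, each
generated by commutators with the one below.
-/
import Mathlib
import Cfsg.Agent.TurullOne.WeakTower
import Cfsg.Agent.TurullOne.Form

set_option autoImplicit false
set_option linter.style.haveILetI false
set_option linter.unusedSectionVars false
set_option maxHeartbeats 400000

namespace Cfsg.Agent.TurullOne

open Module

universe u

variable {Γ : Type u} [Group Γ] [Finite Γ]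

theorem ncomm {H : Subgroup Γ} {g y : Γ} (hg : g ∈ Subgroup.normalizer (H : Set Γ)) (hy : y ∈ H) :
    g * y * g⁻¹ * y⁻¹ ∈ H := H.mul_mem (nconj hg hy) (H.inv_mem hy)

/-- The layers after minimisation. -/
structure Tower (G0 : Subgroup Γ) (a : Γ) (m : ℕ) (P D : ℕ → Subgroup Γ) (q : ℕ → ℕ) : Prop where
  prime : ∀ k ≤ m, (q k).Prime
  pgroup : ∀ k ≤ m, IsPGroup (q k) (P k)
  le_G0 : ∀ k ≤ m, P k ≤ G0
  D_le : ∀ k ≤ m, D k ≤ P k
  proper : ∀ k ≤ m, ¬ P k ≤ D k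
  anorm : ∀ k ≤ m, a ∈ nz (P k) (D k)
  norm : ∀ i k, i ≤ k → k ≤ m → P i ≤ nz (P k) (D k)
  comm : ∀ k ≤ m, ∀ x ∈ P k, ∀ y ∈ P k, x * y * x⁻¹ * y⁻¹ ∈ D k
  pow : ∀ k ≤ m, ∀ x ∈ P k, x ^ q k ∈ D k
  ne : ∀ k < m, q k ≠ q (k + 1)
  gen_comm : ∀ k < m, P (k + 1) ≤ Subgroup.closure {c | ∃ s ∈ P k, ∃ y ∈ P (k + 1), s * y * s⁻¹ * y⁻¹ = c}
  ker_le : ∀ k < m, ∀ x ∈ P k, Triv (P (k + 1)) (D (k + 1)) x → x ∈ D k
  S_cent : ∀ k, k + 1 < m → ∀ s ∈ P k, ∀ d ∈ D (k + 1), Triv (P (k + 2)) (D (k + 2)) (s * d * s⁻¹ * d⁻¹)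
  D_central : ∀ k < m, ∀ d ∈ D k, ∀ y ∈ P k, Triv (P (k + 1)) (D (k + 1)) (d * y * d⁻¹ * y⁻¹)
  center_le : ∀ k < m, (∃ e ∈ P k, ∃ f ∈ P k, ¬ Triv (P (k + 1)) (D (k + 1)) (e * f * e⁻¹ * f⁻¹)) →
    ∀ e ∈ P k, (∀ f ∈ P k, Triv (P (k + 1)) (D (k + 1)) (e * f * e⁻¹ * f⁻¹)) → e ∈ D k
  elem : ∀ k < m, (∀ e ∈ P k, ∀ f ∈ P k, Triv (P (k + 1)) (D (k + 1)) (e * f * e⁻¹ * f⁻¹)) →
    ∀ d ∈ D k, Triv (P (k + 1)) (D (k + 1)) d
  base : 0 < m → ∀ d ∈ D 0, Triv (P 1) (D 1) d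
  gen : ∀ k < m, ∀ H ≤ P k, (∀ x ∈ P k, ∃ h ∈ H, h⁻¹ * x ∈ D k) →
    ∀ e ∈ P k, ∃ h ∈ H, Triv (P (k + 1)) (D (k + 1)) (h⁻¹ * e)

/-- The iterated kernels, counted from the top. -/
def kd (P D : ℕ → Subgroup Γ) (m : ℕ) : ℕ → Subgroup Γ
  | 0 => D m
  | j + 1 => kerSec (P (m - j)) (kd P D m j) ⊓ P (m - (j + 1))

theorem Weak.kd_spec {G0 : Subgroup Γ} {a : Γ} {m : ℕ} {P D : ℕ → Subgroup Γ} {q : ℕ → ℕ}
    (W : Weak G0 a m P D q) : ∀ j ≤ m, kd P D m j ≤ D (m - j) ∧ a ∈ Subgroup.normalizer (kd P D m j : Set Γ) ∧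
      ∀ i ≤ m - j, P i ≤ Subgroup.normalizer (kd P D m j : Set Γ) := by
  intro j
  induction j with
  | zero => exact fun _ => ⟨le_rfl, (W.anorm m le_rfl).2, fun i hi x hx => (W.norm i m hi le_rfl hx).2⟩
  | succ j ih =>
    intro hj
    obtain ⟨h1, h2, h3⟩ := ih (by omega)
    have e : m - j = m - (j + 1) + 1 := by omega
    refine ⟨?_, ?_, fun i hi x hx => ?_⟩
    · rintro x ⟨hx1, hx2⟩
      refine W.ker _ (by omega) x hx2 ?_
      rw [← e]
      exact fun y hy => h1 (hx1.2 y hy)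
    · exact mem_nz_inf (nz_le_normalizer_kerSec _ _ ⟨(W.anorm _ (by omega)).1, h2⟩) (W.anorm _ (by omega)).1
    · exact mem_nz_inf
        (nz_le_normalizer_kerSec _ _ ⟨(W.norm i _ (by omega) (by omega) hx).1, h3 i (by omega) hx⟩)
        (W.norm i _ hi (by omega) hx).1

/-- `Y` is moved, modulo the kernel, by the layer chosen below. -/
def Moved (K X : ℕ → Subgroup Γ) : ℕ → Subgroup Γ → Prop
  | 0, Y => ¬ Y ≤ K 0
  | l + 1, Y => ∃ s ∈ X l, ∃ y ∈ Y, s * y * s⁻¹ * y⁻¹ ∉ K (l + 1)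

/-- `X l` is a minimal invariant moved subgroup of `P l`. -/
def IsMin (a : Γ) (P K X : ℕ → Subgroup Γ) (l : ℕ) : Prop :=
  X l ≤ P l ∧ a ∈ Subgroup.normalizer (X l : Set Γ) ∧ (∀ i < l, X i ≤ Subgroup.normalizer (X l : Set Γ)) ∧
    Moved K X l (X l) ∧ ∀ Y ≤ X l, a ∈ Subgroup.normalizer (Y : Set Γ) →
      (∀ i < l, X i ≤ Subgroup.normalizer (Y : Set Γ)) → Moved K X l Y → Y = X l

/-- The data of the minimisation. -/
structure Minim (G0 : Subgroup Γ) (a : Γ) (m : ℕ) (P D : ℕ → Subgroup Γ) (q : ℕ → ℕ) (K X : ℕ → Subgroup Γ) : Prop where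
  weak : Weak G0 a m P D q
  K_top : K m = D m
  K_le : ∀ k ≤ m, K k ≤ D k
  K_anorm : ∀ k ≤ m, a ∈ Subgroup.normalizer (K k : Set Γ)
  K_norm : ∀ i k, i ≤ k → k ≤ m → P i ≤ Subgroup.normalizer (K k : Set Γ)
  K_def : ∀ k < m, K k = kerSec (P (k + 1)) (K (k + 1)) ⊓ P k
  min : ∀ k ≤ m, IsMin a P K X k

theorem Weak.exists_minim {G0 : Subgroup Γ} {a : Γ} {m : ℕ} {P D : ℕ → Subgroup Γ} {q : ℕ → ℕ}
    (W : Weak G0 a m P D q) : ∃ K X : ℕ → Subgroup Γ, Minim G0 a m P D q K X := by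
  classical
  set K : ℕ → Subgroup Γ := fun k => kd P D m (m - k) with hK
  have hKle : ∀ k ≤ m, K k ≤ D k := fun k hk => by
    have := (W.kd_spec (m - k) (by omega)).1
    rwa [show m - (m - k) = k by omega] at this
  have hKdef : ∀ k < m, K k = kerSec (P (k + 1)) (K (k + 1)) ⊓ P k := fun k hk => by
    simp only [hK]
    rw [show m - k = m - (k + 1) + 1 by omega, kd, show m - (m - (k + 1)) = k + 1 by omega,
      show m - (m - (k + 1) + 1) = k by omega]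
  have hex : ∀ l ≤ m + 1, ∃ X : ℕ → Subgroup Γ, ∀ j < l, IsMin a P K X j := by
    intro l
    induction l with
    | zero => exact fun _ => ⟨fun _ => ⊥, fun j hj => absurd hj (Nat.not_lt_zero j)⟩
    | succ l ih =>
      intro hl
      obtain ⟨X, hX⟩ := ih (by omega)
      let Cn : Set (Subgroup Γ) := {Y | Y ≤ P l ∧ a ∈ Subgroup.normalizer (Y : Set Γ) ∧
        (∀ i < l, X i ≤ Subgroup.normalizer (Y : Set Γ)) ∧ Moved K X l Y}
      have hne : Cn.Nonempty := by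
        refine ⟨P l, le_rfl, (W.anorm l (by omega)).1,
          fun i hi x hx => (W.norm i l hi.le (by omega) ((hX i hi).1 hx)).1, ?_⟩
        cases l with
        | zero => exact fun hle => W.proper 0 (by omega) (hle.trans (hKle 0 (by omega)))
        | succ l =>
          obtain ⟨hXle, -, -, hmv, -⟩ := hX l (Nat.lt_succ_self l)
          obtain ⟨s, hs, hsK⟩ : ∃ s ∈ X l, s ∉ K l := by
            by_contra! hall
            cases l with
            | zero => exact hmv hall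
            | succ l =>
              obtain ⟨t, ht, y, hy, hne⟩ := hmv
              have hn := (W.kd_spec (m - (l + 1)) (by omega)).2.2 l (by omega) ((hX l (by omega)).1 ht)
              exact hne (mul_mem (nconj hn (hall y hy)) (inv_mem (hall y hy)))
          by_contra hcon
          refine hsK ?_
          rw [hKdef l (by omega)]
          refine ⟨⟨⟨(W.norm l (l + 1) (by omega) (by omega) (hXle hs)).1, ?_⟩, fun y hy => ?_⟩, hXle hs⟩
          · exact (W.kd_spec (m - (l + 1)) (by omega)).2.2 l (by omega) (hXle hs)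
          · by_contra hy'
            exact hcon ⟨s, hs, y, hy, hy'⟩
      obtain ⟨Z, hZ, hmin⟩ := WellFounded.has_min wellFounded_lt Cn hne
      have hmvd : ∀ Y, Moved K (Function.update X l Z) l Y ↔ Moved K X l Y := by
        intro Y
        cases l with
        | zero => exact Iff.rfl
        | succ l => simp only [Moved]; rw [Function.update_of_ne (Nat.succ_ne_self l).symm]
      refine ⟨Function.update X l Z, fun j hj => ?_⟩
      have hlow : ∀ i, i < l → Function.update X l Z i = X i := fun i hi => Function.update_of_ne (Nat.ne_of_lt hi) _ _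
      rcases Nat.lt_or_eq_of_le (Nat.le_of_lt_succ hj) with h | rfl
      · obtain ⟨h1, h2, h3, h4, h5⟩ := hX j h
        have hm : ∀ Y, Moved K (Function.update X l Z) j Y ↔ Moved K X j Y := by
          intro Y
          cases j with
          | zero => exact Iff.rfl
          | succ j => simp only [Moved]; rw [hlow j (by omega)]
        refine ⟨?_, ?_, ?_, ?_, ?_⟩
        · rw [hlow j h]; exact h1
        · rw [hlow j h]; exact h2
        · intro i hi; rw [hlow j h, hlow i (hi.trans h)]; exact h3 i hi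
        · rw [hm, hlow j h]; exact h4
        · intro Y hY ha hi hmv
          rw [hlow j h] at hY ⊢
          exact h5 Y hY ha (fun i hij => hlow i (hij.trans h) ▸ hi i hij) ((hm Y).mp hmv)
      · obtain ⟨z1, z2, z3, z4⟩ := hZ
        refine ⟨?_, ?_, ?_, ?_, ?_⟩
        · rw [Function.update_self]; exact z1
        · rw [Function.update_self]; exact z2
        · intro i hi; rw [Function.update_self, hlow i hi]; exact z3 i hi
        · rw [hmvd, Function.update_self]; exact z4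
        · intro Y hY ha hi hmv
          rw [Function.update_self] at hY ⊢
          exact eq_of_le_of_not_lt hY (hmin Y ⟨hY.trans z1, ha, fun i hij => hlow i hij ▸ hi i hij, (hmvd Y).mp hmv⟩)
  obtain ⟨X, hX⟩ := hex (m + 1) le_rfl
  refine ⟨K, X, W, by simp [hK, kd], hKle, fun k hk => (W.kd_spec (m - k) (by omega)).2.1,
    fun i k hik hk => (W.kd_spec (m - k) (by omega)).2.2 i (by omega), hKdef, fun k hk => hX k (by omega)⟩

/-- The Frattini subgroup of `X k` above the kernel. -/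
def fr (K X : ℕ → Subgroup Γ) (q : ℕ → ℕ) (k : ℕ) : Subgroup Γ :=
  Subgroup.closure ({c | ∃ x ∈ X k, ∃ y ∈ X k, x * y * x⁻¹ * y⁻¹ = c} ∪ {c | ∃ x ∈ X k, x ^ q k = c} ∪
    (K k ⊓ X k : Subgroup Γ))

/-- The kernel of the action on the next layer. -/
def kf (K X : ℕ → Subgroup Γ) (q : ℕ → ℕ) (k : ℕ) : Subgroup Γ := kerSec (X (k + 1)) (fr K X q (k + 1)) ⊓ X k

/-- In a `p`-group, commutators and `p`-th powers lie in every maximal subgroup. -/
theorem mem_coatom {H : Type*} [Group H] [Finite H] {p : ℕ} [Fact p.Prime] (hH : IsPGroup p H) {M : Subgroup H}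
    (hM : IsCoatom M) : (∀ x y : H, x * y * x⁻¹ * y⁻¹ ∈ M) ∧ ∀ x : H, x ^ p ∈ M := by
  haveI := hH.isNilpotent
  haveI hn : M.Normal := Subgroup.NormalizerCondition.normal_of_coatom M Group.normalizerCondition_of_isNilpotent hM
  set f := QuotientGroup.mk' M
  obtain ⟨x₀, hx₀⟩ : ∃ x₀, x₀ ∉ M := by
    by_contra! hall
    exact hM.1 (eq_top_iff.mpr fun x _ => hall x)
  haveI : Nontrivial (H ⧸ M) := ⟨⟨f x₀, 1, fun e => hx₀ (by simpa [f] using e)⟩⟩
  obtain ⟨k, hk⟩ := (hH.to_quotient M).exists_card_eq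
  have hdvd : p ∣ Nat.card (H ⧸ M) := by
    rw [hk]
    refine dvd_pow_self p fun h0 => ?_
    rw [h0, pow_zero] at hk
    exact Finite.one_lt_card.ne' hk
  obtain ⟨g, hg⟩ := exists_prime_orderOf_dvd_card' p hdvd
  have hall : ∀ z : H ⧸ M, z ∈ Subgroup.zpowers g := by
    intro z
    have htop : (Subgroup.zpowers g).comap f = ⊤ := by
      refine hM.2 _ (lt_of_le_of_ne (fun x hx => ?_) fun e => ?_)
      · rw [Subgroup.mem_comap, show f x = 1 by simpa [f] using hx]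
        exact one_mem _
      · obtain ⟨y, hy⟩ := QuotientGroup.mk'_surjective M g
        have hyM : y ∈ M := e ▸ Subgroup.mem_comap.mpr (hy ▸ Subgroup.mem_zpowers g)
        have : g = 1 := by rw [← hy]; simpa using hyM
        rw [this, orderOf_one] at hg
        exact (Fact.out : p.Prime).one_lt.ne hg
    obtain ⟨y, rfl⟩ := QuotientGroup.mk'_surjective M z
    exact Subgroup.mem_comap.mp (htop ▸ Subgroup.mem_top y)
  refine ⟨fun x y => ?_, fun x => ?_⟩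
  · rw [← QuotientGroup.eq_one_iff]
    obtain ⟨i, hi⟩ := Subgroup.mem_zpowers_iff.mp (hall (f x))
    obtain ⟨j, hj⟩ := Subgroup.mem_zpowers_iff.mp (hall (f y))
    show f (x * y * x⁻¹ * y⁻¹) = 1
    rw [map_mul, map_mul, map_mul, map_inv, map_inv, ← hi, ← hj]
    group
  · rw [← QuotientGroup.eq_one_iff]
    obtain ⟨i, hi⟩ := Subgroup.mem_zpowers_iff.mp (hall (f x))
    show f (x ^ p) = 1
    rw [map_pow, ← hi, ← zpow_natCast, ← zpow_mul, mul_comm, zpow_mul, zpow_natCast, ← hg, pow_orderOf_eq_one,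
      one_zpow]

namespace Minim

variable {G0 : Subgroup Γ} {a : Γ} {m : ℕ} {P D : ℕ → Subgroup Γ} {q : ℕ → ℕ} {K X : ℕ → Subgroup Γ}

theorem X_le (M : Minim G0 a m P D q K X) {k : ℕ} (hk : k ≤ m) : X k ≤ P k := (M.min k hk).1

theorem X_anorm (M : Minim G0 a m P D q K X) {k : ℕ} (hk : k ≤ m) : a ∈ Subgroup.normalizer (X k : Set Γ) :=
  (M.min k hk).2.1

theorem X_norm (M : Minim G0 a m P D q K X) {i k : ℕ} (hik : i ≤ k) (hk : k ≤ m) :
    X i ≤ Subgroup.normalizer (X k : Set Γ) := by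
  rcases Nat.lt_or_eq_of_le hik with h | rfl
  · exact (M.min k hk).2.2.1 i h
  · exact Subgroup.le_normalizer

theorem X_nK (M : Minim G0 a m P D q K X) {i k : ℕ} (hik : i ≤ k) (hk : k ≤ m) :
    X i ≤ Subgroup.normalizer (K k : Set Γ) := (M.X_le (hik.trans hk)).trans (M.K_norm i k hik hk)

theorem not_X_le (M : Minim G0 a m P D q K X) {k : ℕ} (hk : k ≤ m) : ¬ X k ≤ K k := by
  intro hle
  have h := (M.min k hk).2.2.2.1
  cases k with
  | zero => exact h hle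
  | succ k =>
    obtain ⟨s, hs, y, hy, hne⟩ := h
    exact hne (mul_mem (nconj (M.X_nK (Nat.le_succ k) hk hs) (hle hy)) (inv_mem (hle hy)))

theorem proper_fix (M : Minim G0 a m P D q K X) {k : ℕ} (hk : k + 1 ≤ m) {Y : Subgroup Γ} (hY : Y ≤ X (k + 1))
    (hne : Y ≠ X (k + 1)) (ha : a ∈ Subgroup.normalizer (Y : Set Γ))
    (hn : ∀ i < k + 1, X i ≤ Subgroup.normalizer (Y : Set Γ)) :
    ∀ s ∈ X k, ∀ y ∈ Y, s * y * s⁻¹ * y⁻¹ ∈ K (k + 1) := by
  intro s hs y hy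
  by_contra hc
  exact hne ((M.min _ hk).2.2.2.2 Y hY ha hn ⟨s, hs, y, hy, hc⟩)

theorem mem_K_of_fixed (M : Minim G0 a m P D q K X) {k : ℕ} (hk : k + 1 ≤ m) {s y : Γ} (hs : s ∈ X k)
    (hy : y ∈ X (k + 1)) {c : Γ} (hc : s * y * s⁻¹ * y⁻¹ = c) (hfix : s * c * s⁻¹ * c⁻¹ ∈ K (k + 1)) :
    c ∈ K (k + 1) := by
  set K' := K (k + 1)
  have hsK := M.X_nK (Nat.le_succ k) hk hs
  have hcX : c ∈ X (k + 1) := by
    rw [← hc]; exact mul_mem (nconj (M.X_norm (Nat.le_succ k) hk hs) hy) (inv_mem hy)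
  have hcK := M.X_nK le_rfl hk hcX
  have hf : ∀ j : ℕ, s * c ^ j * s⁻¹ * (c ^ j)⁻¹ ∈ K' := by
    intro j
    induction j with
    | zero => simp [one_mem]
    | succ j ih =>
      rw [show s * c ^ (j + 1) * s⁻¹ * (c ^ (j + 1))⁻¹
        = (s * c ^ j * s⁻¹ * (c ^ j)⁻¹) * (c ^ j * (s * c * s⁻¹ * c⁻¹) * (c ^ j)⁻¹) by rw [pow_succ]; group]
      exact mul_mem ih (nconj (pow_mem hcK j) hfix)
  have he : ∀ j : ℕ, s ^ j * y * (s ^ j)⁻¹ * y⁻¹ * (c ^ j)⁻¹ ∈ K' := by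
    intro j
    induction j with
    | zero => simp [one_mem]
    | succ j ih =>
      have e : s ^ (j + 1) * y * (s ^ (j + 1))⁻¹ * y⁻¹ * (c ^ (j + 1))⁻¹
          = s * (s ^ j * y * (s ^ j)⁻¹ * y⁻¹ * (c ^ j)⁻¹) * s⁻¹ * (s * c ^ j * s⁻¹ * (c ^ j)⁻¹) := by
        rw [pow_succ', pow_succ c j, ← hc]; group
      rw [e]
      exact mul_mem (nconj hsK ih) (hf j)
  obtain ⟨e, he'⟩ := M.weak.pgroup k (by omega) ⟨s, M.X_le (by omega) hs⟩
  have hse : s ^ q k ^ e = 1 := by simpa using congrArg Subtype.val he'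
  have h1 : c ^ q k ^ e ∈ K' := by
    have := he (q k ^ e)
    rw [hse, one_mul, inv_one, mul_one, mul_inv_cancel, one_mul] at this
    exact inv_mem_iff.mp this
  obtain ⟨e2, he2⟩ := M.weak.pgroup (k + 1) hk ⟨c, M.X_le hk hcX⟩
  refine eq_one_or_mem_of_coprime (m := q k ^ e) (n := q (k + 1) ^ e2) h1
    (by rw [show c ^ q (k + 1) ^ e2 = 1 by simpa using congrArg Subtype.val he2]; exact one_mem _) ?_
  exact Nat.Coprime.pow _ _ ((Nat.coprime_primes (M.weak.prime k (by omega)) (M.weak.prime _ hk)).mpr (M.weak.ne k hk))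

theorem gen_comm (M : Minim G0 a m P D q K X) {k : ℕ} (hk : k + 1 ≤ m) :
    X (k + 1) ≤ Subgroup.closure {c | ∃ s ∈ X k, ∃ y ∈ X (k + 1), s * y * s⁻¹ * y⁻¹ = c} := by
  set Y := Subgroup.closure {c | ∃ s ∈ X k, ∃ y ∈ X (k + 1), s * y * s⁻¹ * y⁻¹ = c}
  have hYX : Y ≤ X (k + 1) := by
    rw [Subgroup.closure_le]
    rintro _ ⟨s, hs, y, hy, rfl⟩
    exact mul_mem (nconj (M.X_norm (Nat.le_succ k) hk hs) hy) (inv_mem hy)
  have hn : ∀ g, g ∈ Subgroup.normalizer (X k : Set Γ) → g ∈ Subgroup.normalizer (X (k + 1) : Set Γ) →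
      g ∈ Subgroup.normalizer (Y : Set Γ) := fun g h1 h2 => mem_nz_closure (by
    rintro _ ⟨s, hs, y, hy, rfl⟩
    exact Subgroup.subset_closure ⟨_, nconj h1 hs, _, nconj h2 hy, by group⟩)
  by_contra hne
  have hne' : Y ≠ X (k + 1) := fun e => hne e.ge
  obtain ⟨s, hs, y, hy, hsy⟩ := (M.min _ hk).2.2.2.1
  refine hsy (M.mem_K_of_fixed hk hs hy rfl (M.proper_fix hk hYX hne' (hn a (M.X_anorm (by omega)) (M.X_anorm hk))
    (fun i hi x hx => hn x (M.X_norm (by omega) (by omega) hx) (M.X_norm (by omega) hk hx)) s hs _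
    (Subgroup.subset_closure ⟨s, hs, y, hy, rfl⟩)))

theorem fr_le (M : Minim G0 a m P D q K X) {k : ℕ} (_hk : k ≤ m) : fr K X q k ≤ X k := by
  rw [fr, Subgroup.closure_le]
  rintro _ ((⟨x, hx, y, hy, rfl⟩ | ⟨x, hx, rfl⟩) | h)
  · exact mul_mem (mul_mem (mul_mem hx hy) (inv_mem hx)) (inv_mem hy)
  · exact pow_mem hx _
  · exact h.2

theorem KX_le_fr {k : ℕ} : K k ⊓ X k ≤ fr K X q k := fun _ hx => Subgroup.subset_closure (Or.inr hx)

theorem fr_norm (M : Minim G0 a m P D q K X) {k : ℕ} (hk : k ≤ m) {g : Γ}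
    (h1 : g ∈ Subgroup.normalizer (X k : Set Γ)) (h2 : g ∈ Subgroup.normalizer (K k : Set Γ)) :
    g ∈ Subgroup.normalizer (fr K X q k : Set Γ) := mem_nz_closure (by
  rintro _ ((⟨x, hx, y, hy, rfl⟩ | ⟨x, hx, rfl⟩) | h)
  · exact Subgroup.subset_closure (Or.inl (Or.inl ⟨_, nconj h1 hx, _, nconj h1 hy, by group⟩))
  · exact Subgroup.subset_closure (Or.inl (Or.inr ⟨_, nconj h1 hx, by rw [conj_pow]⟩))
  · exact Subgroup.subset_closure (Or.inr (nconj (mem_nz_inf h2 h1) h)))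

theorem frattini (M : Minim G0 a m P D q K X) {k : ℕ} (hk : k ≤ m) {H : Subgroup Γ} (hH : H ≤ X k)
    (hK : K k ⊓ X k ≤ H) (h : X k ≤ H ⊔ fr K X q k) : H = X k := by
  haveI : Fact (q k).Prime := ⟨M.weak.prime k hk⟩
  have hXp : IsPGroup (q k) (X k) := (M.weak.pgroup k hk).to_le (M.X_le hk)
  by_contra hne
  have hne' : H.subgroupOf (X k) ≠ ⊤ := fun e => hne (le_antisymm hH (Subgroup.subgroupOf_eq_top.mp e))
  obtain hcon | ⟨Mx, hMx, hle⟩ := eq_top_or_exists_le_coatom (H.subgroupOf (X k))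
  · exact hne' hcon
  obtain ⟨hc, hp⟩ := mem_coatom hXp hMx
  have hall : H ⊔ fr K X q k ≤ Mx.map (X k).subtype := by
    refine sup_le (fun x hx => ⟨⟨x, hH hx⟩, hle (Subgroup.mem_subgroupOf.mpr hx), rfl⟩) ?_
    rw [fr, Subgroup.closure_le]
    rintro _ ((⟨x, hx, y, hy, rfl⟩ | ⟨x, hx, rfl⟩) | hxK)
    · exact ⟨⟨x, hx⟩ * ⟨y, hy⟩ * (⟨x, hx⟩)⁻¹ * (⟨y, hy⟩)⁻¹, hc _ _, rfl⟩
    · exact ⟨(⟨x, hx⟩ : X k) ^ q k, hp _, rfl⟩
    · exact ⟨⟨_, hxK.2⟩, hle (Subgroup.mem_subgroupOf.mpr (hK hxK)), rfl⟩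
  refine hMx.1 (eq_top_iff.mpr fun x _ => ?_)
  obtain ⟨y, hy, e⟩ := hall (h x.2)
  rwa [← Subtype.ext (show (y : Γ) = (x : Γ) from e)]

theorem fr_proper (M : Minim G0 a m P D q K X) {k : ℕ} (hk : k ≤ m) : ¬ X k ≤ fr K X q k := fun hle => by
  have := M.frattini hk inf_le_right le_rfl (hle.trans le_sup_right)
  exact M.not_X_le hk (this ▸ inf_le_left)

theorem proper_le_fr (M : Minim G0 a m P D q K X) {k : ℕ} (hk : k ≤ m) {Y : Subgroup Γ} (hY : Y ≤ X k)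
    (hne : Y ≠ X k) (ha : a ∈ Subgroup.normalizer (Y : Set Γ))
    (hn : ∀ i < k, X i ≤ Subgroup.normalizer (Y : Set Γ)) : Y ≤ fr K X q k := by
  cases k with
  | zero =>
    intro y hy
    refine KX_le_fr ⟨?_, hY hy⟩
    by_contra hc
    exact hne ((M.min 0 hk).2.2.2.2 Y hY ha hn fun hle => hc (hle hy))
  | succ k =>
    set D' := fr K X q (k + 1) with hD'
    let Fs : Subgroup Γ :=
      { carrier := {y | y ∈ X (k + 1) ∧ ∀ s ∈ X k, s * y * s⁻¹ * y⁻¹ ∈ K (k + 1)}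
        one_mem' := ⟨one_mem _, fun s _ => by simp [one_mem]⟩
        mul_mem' := fun {y z} hy hz => ⟨mul_mem hy.1 hz.1, fun s hs => by
          rw [show s * (y * z) * s⁻¹ * (y * z)⁻¹ = (s * y * s⁻¹ * y⁻¹) * (y * (s * z * s⁻¹ * z⁻¹) * y⁻¹) by group]
          exact mul_mem (hy.2 s hs) (nconj (M.X_nK le_rfl hk hy.1) (hz.2 s hs))⟩
        inv_mem' := fun {y} hy => ⟨inv_mem hy.1, fun s hs => by
          rw [show s * y⁻¹ * s⁻¹ * y⁻¹⁻¹ = y⁻¹ * (s * y * s⁻¹ * y⁻¹)⁻¹ * y⁻¹⁻¹ by group]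
          exact nconj (M.X_nK le_rfl hk (inv_mem hy.1)) (inv_mem (hy.2 s hs))⟩ }
    have hYD : Y ⊔ D' ≤ X (k + 1) := sup_le hY (M.fr_le hk)
    have hne2 : Y ⊔ D' ≠ X (k + 1) := by
      intro e
      have h1 : Y ⊔ (K (k + 1) ⊓ X (k + 1)) = X (k + 1) :=
        M.frattini hk (sup_le hY inf_le_right) le_sup_right (e.ge.trans (sup_le_sup_right le_sup_left _))
      have h2 : X (k + 1) ≤ Fs := h1.ge.trans (sup_le (fun y hy => ⟨hY hy, fun s hs => M.proper_fix hk hY hne ha hn s hs y hy⟩)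
        fun y hy => ⟨hy.2, fun s hs => mul_mem (nconj (M.X_nK (Nat.le_succ k) hk hs) hy.1) (inv_mem hy.1)⟩)
      obtain ⟨s, hs, y, hy, hsy⟩ := (M.min _ hk).2.2.2.1
      exact hsy ((h2 hy).2 s hs)
    have hfix := M.proper_fix hk hYD hne2 (mem_nz_sup ha (M.fr_norm hk (M.X_anorm hk) (M.K_anorm _ hk)))
      fun i hi x hx => mem_nz_sup (hn i hi hx) (M.fr_norm hk (M.X_norm hi.le hk hx) (M.X_nK hi.le hk hx))
    haveI : Fact (q (k + 1)).Prime := ⟨M.weak.prime _ hk⟩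
    obtain ⟨R⟩ := nonempty_rep (P := X (k + 1)) (D := D') (q := q (k + 1)) (M.fr_le hk)
      (fun x hx y hy => Subgroup.subset_closure (Or.inl (Or.inl ⟨x, hx, y, hy, rfl⟩)))
      (fun x hx => Subgroup.subset_closure (Or.inl (Or.inr ⟨x, hx, rfl⟩)))
    have hSn : X k ≤ nz (X (k + 1)) D' := fun x hx =>
      ⟨M.X_norm (Nat.le_succ k) hk hx, M.fr_norm hk (M.X_norm (Nat.le_succ k) hk hx) (M.X_nK (Nat.le_succ k) hk hx)⟩
    intro y hy
    rw [← R.mk_eq_zero y (hY hy)]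
    refine eq_zero_of_fixed_span (ρ := R.π) (S := (X k).subgroupOf (nz (X (k + 1)) D')) ?_ ?_ fun s hs => ?_
    · haveI : Fact (q k).Prime := ⟨M.weak.prime k (by omega)⟩
      exact natCast_ne_zero_of_isPGroup (q := q k)
        ((((M.weak.pgroup k (by omega)).to_le (M.X_le (by omega))).of_equiv (Subgroup.subgroupOfEquivOfLe hSn).symm))
        (M.weak.ne k hk).symm
    · have hsp : ∀ x ∈ X (k + 1), R.mk x ∈ Submodule.span (ZMod (q (k + 1)))
          {x | ∃ s ∈ (X k).subgroupOf (nz (X (k + 1)) D'), ∃ v, R.π s v - v = x} := by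
        intro x hx
        have hxc := M.gen_comm hk hx
        suffices x ∈ X (k + 1) ∧ R.mk x ∈ Submodule.span (ZMod (q (k + 1)))
          {x | ∃ s ∈ (X k).subgroupOf (nz (X (k + 1)) D'), ∃ v, R.π s v - v = x} from this.2
        clear hx
        induction hxc using Subgroup.closure_induction with
        | mem z hz =>
          obtain ⟨s, hs, w, hw, rfl⟩ := hz
          refine ⟨mul_mem (nconj (hSn hs).1 hw) (inv_mem hw), ?_⟩
          exact Submodule.subset_span ⟨⟨s, hSn hs⟩, Subgroup.mem_subgroupOf.mpr hs, R.mk w,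
            (R.mk_comm (x := ⟨s, hSn hs⟩) hw).symm⟩
        | one => exact ⟨one_mem _, by rw [R.mk_one]; exact zero_mem _⟩
        | mul z w _ _ hz hw => exact ⟨mul_mem hz.1 hw.1, by rw [R.mk_mul _ hz.1 _ hw.1]; exact add_mem hz.2 hw.2⟩
        | inv z _ hz => exact ⟨inv_mem hz.1, by rw [R.mk_inv hz.1]; exact neg_mem hz.2⟩
      exact hsp y (hY hy)
    · rw [← sub_eq_zero, ← R.mk_comm (hY hy), R.mk_eq_zero]
      · exact KX_le_fr ⟨hfix _ (Subgroup.mem_subgroupOf.mp hs) y (Subgroup.mem_sup_left hy),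
          ncomm s.2.1 (hY hy)⟩
      · exact mul_mem (nconj s.2.1 (hY hy)) (inv_mem (hY hy))

theorem X_le_nz (M : Minim G0 a m P D q K X) {i k : ℕ} (hik : i ≤ k) (hk : k ≤ m) :
    X i ≤ nz (X k) (fr K X q k) := fun _ hx =>
  ⟨M.X_norm hik hk hx, M.fr_norm hk (M.X_norm hik hk hx) (M.X_nK hik hk hx)⟩

theorem a_mem_nz (M : Minim G0 a m P D q K X) {k : ℕ} (hk : k ≤ m) : a ∈ nz (X k) (fr K X q k) :=
  ⟨M.X_anorm hk, M.fr_norm hk (M.X_anorm hk) (M.K_anorm k hk)⟩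

theorem kf_norm (M : Minim G0 a m P D q K X) {k : ℕ} (hk : k < m) :
    a ∈ Subgroup.normalizer (kf K X q k : Set Γ) ∧ ∀ i ≤ k, X i ≤ Subgroup.normalizer (kf K X q k : Set Γ) :=
  ⟨mem_nz_inf (nz_le_normalizer_kerSec _ _ (M.a_mem_nz hk)) (M.X_anorm hk.le),
    fun _ hi _ hx => mem_nz_inf (nz_le_normalizer_kerSec _ _ (M.X_le_nz (hi.trans (Nat.le_succ k)) hk hx))
      (M.X_norm hi hk.le hx)⟩

theorem KX_le_kf (M : Minim G0 a m P D q K X) {k : ℕ} (hk : k < m) : K k ⊓ X k ≤ kf K X q k := by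
  rintro x ⟨hxK, hxX⟩
  rw [M.K_def k hk] at hxK
  refine ⟨⟨M.X_le_nz (Nat.le_succ k) hk hxX, fun y hy => ?_⟩, hxX⟩
  exact KX_le_fr ⟨hxK.1.2 y (M.X_le hk hy), ncomm (M.X_norm (Nat.le_succ k) hk hxX) hy⟩

theorem triv_of_mem_kf {k : ℕ} {x : Γ} (hx : x ∈ kf K X q k) : Triv (X (k + 1)) (fr K X q (k + 1)) x := hx.1.2

theorem mem_kf (M : Minim G0 a m P D q K X) {k : ℕ} (hk : k < m) {x : Γ} (hx : x ∈ X k)
    (ht : Triv (X (k + 1)) (fr K X q (k + 1)) x) : x ∈ kf K X q k :=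
  ⟨⟨M.X_le_nz (Nat.le_succ k) hk hx, ht⟩, hx⟩

theorem kf_le (M : Minim G0 a m P D q K X) {k : ℕ} (hk : k < m) : kf K X q k ≤ fr K X q k := by
  refine M.proper_le_fr hk.le inf_le_right (fun e => ?_) (M.kf_norm hk).1 fun i hi => (M.kf_norm hk).2 i hi.le
  refine M.fr_proper hk ((M.gen_comm hk).trans ?_)
  rw [Subgroup.closure_le]
  rintro _ ⟨s, hs, y, hy, rfl⟩
  exact triv_of_mem_kf (e.ge hs) y hy

theorem D_central_K (M : Minim G0 a m P D q K X) {k : ℕ} (hk : k ≤ m) {d y : Γ} (hd : d ∈ fr K X q k)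
    (hy : y ∈ X k) : d * y * d⁻¹ * y⁻¹ ∈ K k ⊓ X k := by
  have hdX := M.fr_le hk hd
  refine ⟨(?_ : _ ∈ K k), ncomm (Subgroup.le_normalizer hdX) hy⟩
  have hne : fr K X q k ≠ X k := fun e => M.fr_proper hk e.ge
  cases k with
  | zero =>
    by_contra hc
    exact hne ((M.min 0 hk).2.2.2.2 _ (M.fr_le hk) (M.a_mem_nz hk).2 (fun i hi => absurd hi (Nat.not_lt_zero i))
      fun hle => hc (hle (Subgroup.subset_closure (Or.inl (Or.inl ⟨d, hdX, y, hy, rfl⟩)))))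
  | succ k =>
    have hfix := M.proper_fix hk (M.fr_le hk) hne (M.a_mem_nz hk).2 fun i hi x hx => (M.X_le_nz hi.le hk hx).2
    let Cd : Subgroup Γ :=
      { carrier := {c | c ∈ X (k + 1) ∧ ∀ d ∈ fr K X q (k + 1), c * d * c⁻¹ * d⁻¹ ∈ K (k + 1)}
        one_mem' := ⟨one_mem _, fun d _ => by simp [one_mem]⟩
        mul_mem' := fun {x z} hx hz => ⟨mul_mem hx.1 hz.1, fun d hd => by
          rw [show x * z * d * (x * z)⁻¹ * d⁻¹ = x * (z * d * z⁻¹ * d⁻¹) * x⁻¹ * (x * d * x⁻¹ * d⁻¹) by group]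
          exact mul_mem (nconj (M.X_nK le_rfl hk hx.1) (hz.2 d hd)) (hx.2 d hd)⟩
        inv_mem' := fun {x} hx => ⟨inv_mem hx.1, fun d hd => by
          rw [show x⁻¹ * d * x⁻¹⁻¹ * d⁻¹ = x⁻¹ * (x * d * x⁻¹ * d⁻¹)⁻¹ * x⁻¹⁻¹ by group]
          exact nconj (M.X_nK le_rfl hk (inv_mem hx.1)) (inv_mem (hx.2 d hd))⟩ }
    have hle : X (k + 1) ≤ Cd := (M.gen_comm hk).trans (by
      rw [Subgroup.closure_le]
      rintro _ ⟨s, hs, y, hy, rfl⟩
      refine ⟨mul_mem (nconj (M.X_norm (Nat.le_succ k) hk hs) hy) (inv_mem hy), fun d hd => ?_⟩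
      have hd1 : y⁻¹ * d * y ∈ fr K X q (k + 1) := by
        simpa using nconj (inv_mem (M.X_le_nz le_rfl hk hy).2) hd
      have hsn := M.X_nK (Nat.le_succ k) hk hs
      have h1 := hfix _ (inv_mem hs) _ hd1
      rw [inv_inv] at h1
      rw [show s * y * s⁻¹ * y⁻¹ * d * (s * y * s⁻¹ * y⁻¹)⁻¹ * d⁻¹
        = s * (y * (s⁻¹ * (y⁻¹ * d * y) * s * (y⁻¹ * d * y)⁻¹) * y⁻¹) * s⁻¹ * (s * d * s⁻¹ * d⁻¹) by group]
      exact mul_mem (nconj hsn (nconj (M.X_nK le_rfl hk hy) h1)) (hfix s hs d hd))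
    have := (hle hy).2 d hd
    rw [show d * y * d⁻¹ * y⁻¹ = (y * d * y⁻¹ * d⁻¹)⁻¹ by group]
    exact inv_mem this

theorem elem_kf (M : Minim G0 a m P D q K X) {k : ℕ} (hk : k < m)
    (hab : ∀ e ∈ X k, ∀ f ∈ X k, e * f * e⁻¹ * f⁻¹ ∈ kf K X q k) : fr K X q k ≤ kf K X q k := by
  cases k with
  | zero =>
    refine fun d hd => M.KX_le_kf hk ⟨?_, M.fr_le hk.le hd⟩
    by_contra hc
    exact M.fr_proper hk.le ((M.min 0 hk.le).2.2.2.2 _ (M.fr_le hk.le) (M.a_mem_nz hk.le).2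
      (fun i hi => absurd hi (Nat.not_lt_zero i)) fun hle => hc (hle hd)).ge
  | succ k =>
    have hXn : X (k + 1) ≤ Subgroup.normalizer (kf K X q (k + 1) : Set Γ) := (M.kf_norm hk).2 _ le_rfl
    have hmulpow : ∀ x ∈ X (k + 1), ∀ z ∈ X (k + 1), ∀ n : ℕ, (x * z) ^ n * (x ^ n * z ^ n)⁻¹ ∈ kf K X q (k + 1) := by
      intro x hx z hz n
      induction n with
      | zero => simp [one_mem]
      | succ n ih =>
        rw [show (x * z) ^ (n + 1) * (x ^ (n + 1) * z ^ (n + 1))⁻¹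
          = ((x * z) ^ n * (x ^ n * z ^ n)⁻¹) * (x ^ n * (z ^ n * x * (z ^ n)⁻¹ * x⁻¹) * (x ^ n)⁻¹) by
            rw [pow_succ, pow_succ, pow_succ]; group]
        exact mul_mem ih (nconj (pow_mem (hXn hx) n) (hab _ (pow_mem hz n) x hx))
    let Pw : Subgroup Γ :=
      { carrier := {x | x ∈ X (k + 1) ∧ x ^ q (k + 1) ∈ kf K X q (k + 1)}
        one_mem' := ⟨one_mem _, by simp [one_mem]⟩
        mul_mem' := fun {x z} hx hz => ⟨mul_mem hx.1 hz.1, by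
          have h := mul_mem (hmulpow x hx.1 z hz.1 (q (k + 1))) (mul_mem hx.2 hz.2)
          rwa [inv_mul_cancel_right] at h⟩
        inv_mem' := fun {x} hx => ⟨inv_mem hx.1, by rw [inv_pow]; exact inv_mem hx.2⟩ }
    have hne : fr K X q (k + 1) ≠ X (k + 1) := fun e => M.fr_proper hk.le e.ge
    have hle : X (k + 1) ≤ Pw := (M.gen_comm hk.le).trans (by
      rw [Subgroup.closure_le]
      rintro _ ⟨s, hs, y, hy, rfl⟩
      have hsy := nconj (M.X_norm (Nat.le_succ k) hk.le hs) hy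
      refine ⟨mul_mem hsy (inv_mem hy), ?_⟩
      have h := hmulpow _ hsy _ (inv_mem hy) (q (k + 1))
      have hd : y ^ q (k + 1) ∈ fr K X q (k + 1) := Subgroup.subset_closure (Or.inl (Or.inr ⟨y, hy, rfl⟩))
      have h2 : s * y ^ q (k + 1) * s⁻¹ * (y ^ q (k + 1))⁻¹ ∈ kf K X q (k + 1) :=
        M.KX_le_kf hk ⟨M.proper_fix hk.le (M.fr_le hk.le) hne (M.a_mem_nz hk.le).2
            (fun i hi x hx => (M.X_le_nz hi.le hk.le hx).2) s hs _ hd,
          ncomm (M.X_norm (Nat.le_succ k) hk.le hs) (pow_mem hy _)⟩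
      rw [conj_pow, inv_pow] at h
      have h3 := mul_mem h h2
      rwa [inv_mul_cancel_right] at h3)
    rw [fr, Subgroup.closure_le]
    rintro _ ((⟨x, hx, y, hy, rfl⟩ | ⟨x, hx, rfl⟩) | h)
    · exact hab x hx y hy
    · exact (hle hx).2
    · exact M.KX_le_kf hk h

theorem center_le_fr (M : Minim G0 a m P D q K X) {k : ℕ} (hk : k < m) {e₀ f₀ : Γ} (he₀ : e₀ ∈ X k) (hf₀ : f₀ ∈ X k)
    (hne : e₀ * f₀ * e₀⁻¹ * f₀⁻¹ ∉ kf K X q k) :
    ∀ e ∈ X k, (∀ f ∈ X k, e * f * e⁻¹ * f⁻¹ ∈ kf K X q k) → e ∈ fr K X q k := by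
  intro e he hec
  let Z : Subgroup Γ :=
    { carrier := {e | e ∈ X k ∧ ∀ f ∈ X k, e * f * e⁻¹ * f⁻¹ ∈ kf K X q k}
      one_mem' := ⟨one_mem _, fun f _ => by simp [one_mem]⟩
      mul_mem' := fun {x z} hx hz => ⟨mul_mem hx.1 hz.1, fun f hf => by
        rw [show x * z * f * (x * z)⁻¹ * f⁻¹ = x * (z * f * z⁻¹ * f⁻¹) * x⁻¹ * (x * f * x⁻¹ * f⁻¹) by group]
        exact mul_mem (nconj ((M.kf_norm hk).2 k le_rfl hx.1) (hz.2 f hf)) (hx.2 f hf)⟩
      inv_mem' := fun {x} hx => ⟨inv_mem hx.1, fun f hf => by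
        rw [show x⁻¹ * f * x⁻¹⁻¹ * f⁻¹ = x⁻¹ * (x * f * x⁻¹ * f⁻¹)⁻¹ * x⁻¹⁻¹ by group]
        exact nconj ((M.kf_norm hk).2 k le_rfl (inv_mem hx.1)) (inv_mem (hx.2 f hf))⟩ }
  have hn : ∀ g, g ∈ Subgroup.normalizer (X k : Set Γ) → g ∈ Subgroup.normalizer (kf K X q k : Set Γ) →
      g ∈ Subgroup.normalizer (Z : Set Γ) := fun g h1 h2 => mem_nz fun z hz => ⟨nconj h1 hz.1, fun f hf => by
    have h := nconj h2 (hz.2 (g⁻¹ * f * g) (by simpa using nconj (inv_mem h1) hf))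
    convert h using 1
    group⟩
  exact M.proper_le_fr hk.le (Y := Z) (fun z hz => hz.1) (fun h => hne ((h.ge he₀).2 f₀ hf₀))
    (hn a (M.X_anorm hk.le) (M.kf_norm hk).1)
    (fun i hi x hx => hn x (M.X_norm hi.le hk.le hx) ((M.kf_norm hk).2 i hi.le hx)) ⟨he, hec⟩

theorem tower (M : Minim G0 a m P D q K X) : Tower G0 a m X (fr K X q) q where
  prime := M.weak.prime
  pgroup k hk := (M.weak.pgroup k hk).to_le (M.X_le hk)
  le_G0 k hk := (M.X_le hk).trans (M.weak.le_G0 k hk)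
  D_le k hk := M.fr_le hk
  proper k hk := M.fr_proper hk
  anorm k hk := M.a_mem_nz hk
  norm i k hik hk := M.X_le_nz hik hk
  comm k _ x hx y hy := Subgroup.subset_closure (Or.inl (Or.inl ⟨x, hx, y, hy, rfl⟩))
  pow k _ x hx := Subgroup.subset_closure (Or.inl (Or.inr ⟨x, hx, rfl⟩))
  ne := M.weak.ne
  gen_comm k hk := M.gen_comm hk
  ker_le k hk x hx ht := M.kf_le hk (M.mem_kf hk hx ht)
  S_cent k hk s hs d hd := triv_of_mem_kf (M.KX_le_kf hk
    ⟨M.proper_fix hk.le (M.fr_le hk.le) (fun e => M.fr_proper hk.le e.ge) (M.a_mem_nz hk.le).2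
      (fun i hi x hx => (M.X_le_nz hi.le hk.le hx).2) s hs d hd,
      ncomm (M.X_norm (Nat.le_succ k) hk.le hs) (M.fr_le hk.le hd)⟩)
  D_central k hk d hd y hy := triv_of_mem_kf (M.KX_le_kf hk (M.D_central_K hk.le hd hy))
  center_le k hk := by
    rintro ⟨e₀, he₀, f₀, hf₀, hne⟩ e he hec
    exact M.center_le_fr hk he₀ hf₀ (fun h => hne (triv_of_mem_kf h)) e he fun f hf =>
      M.mem_kf hk (mul_mem (mul_mem (mul_mem he hf) (inv_mem he)) (inv_mem hf)) (hec f hf)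
  elem k hk hab d hd := triv_of_mem_kf (M.elem_kf hk (fun e he f hf =>
      M.mem_kf hk (mul_mem (mul_mem (mul_mem he hf) (inv_mem he)) (inv_mem hf)) (hab e he f hf)) hd)
  base h0 d hd := triv_of_mem_kf (M.KX_le_kf h0
    ⟨by
      by_contra hc
      exact M.fr_proper (Nat.zero_le m) ((M.min 0 (Nat.zero_le m)).2.2.2.2 _ (M.fr_le (Nat.zero_le m))
        (M.a_mem_nz (Nat.zero_le m)).2 (fun i hi => absurd hi (Nat.not_lt_zero i)) fun hle => hc (hle hd)).ge,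
      M.fr_le (Nat.zero_le m) hd⟩)
  gen k hk H hH hcov e he := by
    have hHn : H ≤ Subgroup.normalizer (kf K X q k : Set Γ) := hH.trans ((M.kf_norm hk).2 k le_rfl)
    have htop : H ⊔ kf K X q k = X k := M.frattini hk.le (sup_le hH inf_le_right)
      ((M.KX_le_kf hk).trans le_sup_right) fun x hx => by
      obtain ⟨h, hh, hd⟩ := hcov x hx
      rw [show x = h * (h⁻¹ * x) by group]
      exact mul_mem (Subgroup.mem_sup_left (Subgroup.mem_sup_left hh)) (Subgroup.mem_sup_right hd)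
    obtain ⟨h, hh, z, hz, rfl⟩ := mem_sup_norm hHn (htop.ge he)
    exact ⟨h, hh, by rw [inv_mul_cancel_left]; exact triv_of_mem_kf hz⟩

end Minim

theorem exists_tower {G0 : Subgroup Γ} {a : Γ} {r : ℕ} (hr : r.Prime) (ha : a ^ r = 1) [Group.IsSolvable G0]
    (hrG : ¬ r ∣ Nat.card G0) (haG : a ∈ Subgroup.normalizer (G0 : Set Γ)) {n : ℕ}
    (hne : res^[n + 2] G0 ≠ ⊥) : ∃ (P D : ℕ → Subgroup Γ) (q : ℕ → ℕ), Tower G0 a (n + 2) P D q := by
  obtain ⟨P, D, q, W⟩ := exists_weak hr ha hrG haG hne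
  obtain ⟨K, X, M⟩ := W.exists_minim
  exact ⟨X, _, q, M.tower⟩

end Cfsg.Agent.TurullOne
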