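/-
The representations of the layers of a tower and the elements fixed by `a` in the residual series of
the centralizer.
-/
import Mathlib
import Cfsg.Agent.TurullOne.Tower
import Cfsg.Agent.TurullOne.Second

set_option autoImplicit false
set_option linter.style.haveILetI false
set_option linter.unusedSectionVars false
set_option maxHeartbeats 400000

namespace Cfsg.Agent.TurullOne

open Module

universe u

variable {Γ : Type u} [Group Γ] [Finite Γ]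

/-- The group acting on the layers from `k` upwards. -/
def dom (a : Γ) (P : ℕ → Subgroup Γ) (k : ℕ) : Subgroup Γ :=
  Subgroup.closure ({a} ∪ {x | ∃ i ≤ k, x ∈ P i})

theorem mem_dom_a {a : Γ} {P : ℕ → Subgroup Γ} {k : ℕ} : a ∈ dom a P k :=
  Subgroup.subset_closure (Or.inl rfl)

theorem le_dom {a : Γ} {P : ℕ → Subgroup Γ} {i k : ℕ} (h : i ≤ k) : P i ≤ dom a P k :=
  fun _ hx => Subgroup.subset_closure (Or.inr ⟨i, h, hx⟩)

theorem dom_mono {a : Γ} {P : ℕ → Subgroup Γ} {i k : ℕ} (h : i ≤ k) : dom a P i ≤ dom a P k :=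
  Subgroup.closure_mono (Set.union_subset_union_right _ fun _ ⟨l, hl, hx⟩ => ⟨l, hl.trans h, hx⟩)

/-- The elements of `G0` fixed by `a`. -/
def fixG (G0 : Subgroup Γ) (a : Γ) : Subgroup Γ := G0 ⊓ Subgroup.centralizer {a}

theorem mem_fixG {G0 : Subgroup Γ} {a x : Γ} : x ∈ fixG G0 a ↔ x ∈ G0 ∧ a * x = x * a := by
  rw [fixG, Subgroup.mem_inf, Subgroup.mem_centralizer_singleton_iff]
  exact and_congr_right fun _ => eq_comm

/-- The standing hypotheses. -/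
structure Climb (G0 : Subgroup Γ) (a : Γ) (r n : ℕ) (P D : ℕ → Subgroup Γ) (q : ℕ → ℕ) : Prop where
  tower : Tower G0 a (n + 2) P D q
  hr : r.Prime
  ha : a ^ r = 1
  hrG : ¬ r ∣ Nat.card G0
  hC : res^[n] (fixG G0 a) = ⊥

/-- `a` fixes the `i`-th layer. -/
def Fixed (a : Γ) (P D : ℕ → Subgroup Γ) (i : ℕ) : Prop := Triv (P i) (D i) a

namespace Climb

variable {G0 : Subgroup Γ} {a : Γ} {r n : ℕ} {P D : ℕ → Subgroup Γ} {q : ℕ → ℕ}

theorem dom_le (h : Climb G0 a r n P D q) {k j : ℕ} (hkj : k ≤ j) (hj : j ≤ n + 2) :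
    dom a P k ≤ nz (P j) (D j) := by
  rw [dom, Subgroup.closure_le]
  rintro x (hx | ⟨i, hi, hx⟩)
  · rw [Set.mem_singleton_iff] at hx
    rw [hx]
    exact h.tower.anorm j hj
  · exact h.tower.norm i j (hi.trans hkj) hj hx

theorem le_nz (h : Climb G0 a r n P D q) {k j : ℕ} (hkj : k ≤ j) (hj : j ≤ n + 2) :
    P k ≤ nz (P j) (D j) := h.tower.norm k j hkj hj

theorem exists_rep (h : Climb G0 a r n P D q) {k : ℕ} (hk : k ≤ n + 2) : Nonempty (Rep (P k) (D k) (q k)) :=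
  nonempty_rep (h.tower.D_le k hk) (h.tower.comm k hk) (h.tower.pow k hk)

theorem coprime_card (h : Climb G0 a r n P D q) {k : ℕ} (hk : k ≤ n + 2) : ¬ r ∣ Nat.card (P k) :=
  fun hd => h.hrG (hd.trans (Subgroup.card_dvd_of_le (h.tower.le_G0 k hk)))

theorem natCast_r_ne (h : Climb G0 a r n P D q) {k : ℕ} (hk : k ≤ n + 2) : (r : ZMod (q k)) ≠ 0 := by
  intro h0
  haveI : Fact (q k).Prime := ⟨h.tower.prime k hk⟩
  rw [ZMod.natCast_eq_zero_iff] at h0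
  have e := (Nat.prime_dvd_prime_iff_eq (h.tower.prime k hk) h.hr).mp h0
  obtain ⟨l, hl⟩ := (h.tower.pgroup k hk).exists_card_eq
  apply h.coprime_card hk
  rw [hl, ← e]
  refine dvd_pow_self _ fun hl0 => h.tower.proper k hk fun x hx => ?_
  rw [hl0, pow_zero] at hl
  rw [Subgroup.eq_bot_of_card_eq _ hl, Subgroup.mem_bot] at hx
  rw [hx]; exact one_mem _

theorem exists_fixed_lift (h : Climb G0 a r n P D q) {k : ℕ} (hk : k ≤ n + 2) (R : Rep (P k) (D k) (q k)) {v : R.V}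
    (hv : R.π ⟨a, h.tower.anorm k hk⟩ v = v) : ∃ c ∈ P k, c ∈ fixG G0 a ∧ R.mk c = v := by
  obtain ⟨c, hc, hac, e⟩ := R.exists_fixed_lift h.hr (h.tower.D_le k hk)
    (fun hd => h.coprime_card hk (hd.trans (Subgroup.card_dvd_of_le (h.tower.D_le k hk)))) ⟨a, h.tower.anorm k hk⟩
    h.ha hv
  exact ⟨c, hc, mem_fixG.mpr ⟨h.tower.le_G0 k hk hc, hac⟩, e⟩

theorem R_le_fix (i : ℕ) : res^[i] (fixG G0 a) ≤ fixG G0 a := iterate_res_le _ i

theorem a_comm {i : ℕ} {x : Γ} (hx : x ∈ res^[i] (fixG G0 a)) : a * x = x * a :=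
  (mem_fixG.mp (R_le_fix i hx)).2

theorem conj_R {i : ℕ} {c x : Γ} (hc : c ∈ fixG G0 a) (hx : x ∈ res^[i] (fixG G0 a)) :
    c * x * c⁻¹ ∈ res^[i] (fixG G0 a) := nconj (le_normalizer_iterate_res _ i hc) hx

theorem comm_R {i : ℕ} {x c : Γ} (hx : x ∈ res^[i] (fixG G0 a)) (hc : c ∈ fixG G0 a) :
    x * c * x⁻¹ * c⁻¹ ∈ res^[i] (fixG G0 a) := by
  rw [show x * c * x⁻¹ * c⁻¹ = x * (c * x⁻¹ * c⁻¹) by group]
  exact mul_mem hx (conj_R hc (inv_mem hx))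

theorem orderOf_pow (h : Climb G0 a r n P D q) {k : ℕ} (hk : k ≤ n + 2) {x : Γ} (hx : x ∈ P k) :
    ∃ e : ℕ, x ^ q k ^ e = 1 := by
  obtain ⟨e, he⟩ := h.tower.pgroup k hk ⟨x, hx⟩
  exact ⟨e, by simpa using congrArg Subtype.val he⟩

theorem comm_succ (h : Climb G0 a r n P D q) {i l l' : ℕ} (hl : l ≤ n + 2) (hl' : l' ≤ n + 2) (hne : q l' ≠ q l)
    {x u : Γ} (hx : x ∈ res^[i] (fixG G0 a)) (hxP : x ∈ P l') (hu : u ∈ res^[i] (fixG G0 a)) (huP : u ∈ P l) :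
    x * u * x⁻¹ * u⁻¹ ∈ res^[i + 1] (fixG G0 a) := by
  obtain ⟨e, he⟩ := h.orderOf_pow hl' hxP
  obtain ⟨e', he'⟩ := h.orderOf_pow hl huP
  rw [Function.iterate_succ_apply']
  exact commutator_mem_res hx hu he he'
    (Nat.Coprime.pow _ _ ((Nat.coprime_primes (h.tower.prime l' hl') (h.tower.prime l hl)).mpr hne))

/-- A covering of the generators of a layer covers the layer. -/
theorem cover_of_gens (h : Climb G0 a r n P D q) {k : ℕ} (hk : k + 1 ≤ n + 2) (H : Subgroup Γ)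
    (hg : ∀ s ∈ P k, ∀ y ∈ P (k + 1), ∃ w ∈ H, w ∈ P (k + 1) ∧ w⁻¹ * (s * y * s⁻¹ * y⁻¹) ∈ D (k + 1)) :
    ∀ y ∈ P (k + 1), ∃ w ∈ H, w ∈ P (k + 1) ∧ w⁻¹ * y ∈ D (k + 1) := by
  have hn : H ⊓ P (k + 1) ≤ Subgroup.normalizer (D (k + 1) : Set Γ) :=
    fun x hx => (h.tower.norm (k + 1) (k + 1) le_rfl hk hx.2).2
  have hle : P (k + 1) ≤ (H ⊓ P (k + 1)) ⊔ D (k + 1) := (h.tower.gen_comm k hk).trans (by
    rw [Subgroup.closure_le]
    rintro _ ⟨s, hs, y, hy, rfl⟩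
    obtain ⟨w, hw, hwP, hd⟩ := hg s hs y hy
    rw [show s * y * s⁻¹ * y⁻¹ = w * (w⁻¹ * (s * y * s⁻¹ * y⁻¹)) by group]
    exact mul_mem (Subgroup.mem_sup_left ⟨hw, hwP⟩) (Subgroup.mem_sup_right hd))
  intro y hy
  obtain ⟨w, hw, z, hz, rfl⟩ := mem_sup_norm hn (hle hy)
  exact ⟨w, hw.1, hw.2, by rwa [inv_mul_cancel_left]⟩

theorem mk_eq_of_cover (h : Climb G0 a r n P D q) {k : ℕ} (hk : k ≤ n + 2) (R : Rep (P k) (D k) (q k)) {w y : Γ}
    (hw : w ∈ P k) (hy : y ∈ P k) (hd : w⁻¹ * y ∈ D k) : R.mk w = R.mk y := by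
  have h1 := R.mk_mul _ hw _ (h.tower.D_le k hk hd)
  rw [mul_inv_cancel_left, (R.mk_eq_zero _ (h.tower.D_le k hk hd)).mpr hd, add_zero] at h1
  exact h1.symm

theorem cover_of_mk_eq (_h : Climb G0 a r n P D q) {k : ℕ} (R : Rep (P k) (D k) (q k)) {w y : Γ}
    (hw : w ∈ P k) (hy : y ∈ P k) (e : R.mk w = R.mk y) : w⁻¹ * y ∈ D k := by
  rw [← R.mk_eq_zero _ (mul_mem (inv_mem hw) hy), R.mk_mul _ (inv_mem hw) _ hy, R.mk_inv hw, e, neg_add_cancel]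

theorem pi_eq_of_triv (h : Climb G0 a r n P D q) {i : ℕ} (hi : i + 1 ≤ n + 2) (R : Rep (P (i + 1)) (D (i + 1)) (q (i + 1)))
    {s t : Γ} (hs : s ∈ P i) (ht : t ∈ P i) (htr : Triv (P (i + 1)) (D (i + 1)) (t⁻¹ * s)) :
    R.π ⟨s, h.le_nz (Nat.le_succ i) hi hs⟩ = R.π ⟨t, h.le_nz (Nat.le_succ i) hi ht⟩ := by
  rw [show (⟨s, h.le_nz (Nat.le_succ i) hi hs⟩ : ↥(nz (P (i + 1)) (D (i + 1)))) = ⟨t, h.le_nz (Nat.le_succ i) hi ht⟩ *
    ⟨t⁻¹ * s, h.le_nz (Nat.le_succ i) hi (mul_mem (inv_mem ht) hs)⟩ from Subtype.ext (by simp), map_mul,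
    (R.fix_iff ⟨t⁻¹ * s, _⟩).mpr htr, mul_one]

/-- If covering elements act, commutators are covered by commutators. -/
theorem comm_cover (h : Climb G0 a r n P D q) {i : ℕ} (hi : i + 1 ≤ n + 2) {s t y w : Γ}
    (hs : s ∈ P i) (ht : t ∈ P i) (htr : Triv (P (i + 1)) (D (i + 1)) (t⁻¹ * s))
    (hy : y ∈ P (i + 1)) (hw : w ∈ P (i + 1)) (hd : w⁻¹ * y ∈ D (i + 1)) :
    t * w * t⁻¹ * w⁻¹ ∈ P (i + 1) ∧ (t * w * t⁻¹ * w⁻¹)⁻¹ * (s * y * s⁻¹ * y⁻¹) ∈ D (i + 1) := by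
  obtain ⟨R⟩ := h.exists_rep hi
  have hsn := h.le_nz (Nat.le_succ i) hi hs
  have htn := h.le_nz (Nat.le_succ i) hi ht
  refine ⟨ncomm htn.1 hw, h.cover_of_mk_eq R (ncomm htn.1 hw) (ncomm hsn.1 hy) ?_⟩
  rw [R.mk_comm (x := ⟨t, htn⟩) hw, R.mk_comm (x := ⟨s, hsn⟩) hy, h.pi_eq_of_triv hi R hs ht htr,
    h.mk_eq_of_cover hi R hw hy hd]

/-- While `a` fixes the layers, the residuals of the centralizer cover them. -/
theorem T_cover (h : Climb G0 a r n P D q) : ∀ i ≤ n + 2, (∀ l ≤ i, Fixed a P D l) →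
    ∀ y ∈ P i, ∃ t ∈ P i ⊓ res^[i] (fixG G0 a), t⁻¹ * y ∈ D i := by
  have hfixc : ∀ i ≤ n + 2, Fixed a P D i → ∀ y ∈ P i, ∃ c ∈ fixG G0 a, c ∈ P i ∧ c⁻¹ * y ∈ D i := by
    intro i hi hf y hy
    obtain ⟨R⟩ := h.exists_rep hi
    obtain ⟨c, hc, hcf, e⟩ := h.exists_fixed_lift hi R (v := R.mk y)
      (by rw [(R.fix_iff ⟨a, _⟩).mpr hf, Module.End.one_apply])
    exact ⟨c, hcf, hc, h.cover_of_mk_eq R hc hy e⟩
  intro i
  induction i with
  | zero =>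
    intro hi hf y hy
    obtain ⟨c, hc, hcP, hd⟩ := hfixc 0 hi (hf 0 le_rfl) y hy
    exact ⟨c, ⟨hcP, hc⟩, hd⟩
  | succ i ih =>
    intro hi hf y hy
    have hT := ih (by omega) fun l hl => hf l (by omega)
    have hgen := h.tower.gen i hi (P i ⊓ res^[i] (fixG G0 a)) inf_le_left hT
    have hW : ∀ y ∈ P (i + 1), ∃ w ∈ res^[i] (fixG G0 a), w ∈ P (i + 1) ∧ w⁻¹ * y ∈ D (i + 1) :=
      h.cover_of_gens hi _ fun s hs z hz => by
        obtain ⟨t, ht, htr⟩ := hgen s hs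
        obtain ⟨c, hc, hcP, hd⟩ := hfixc (i + 1) hi (hf _ le_rfl) z hz
        obtain ⟨h1, h2⟩ := h.comm_cover hi hs ht.1 htr hz hcP hd
        exact ⟨_, comm_R ht.2 hc, h1, h2⟩
    obtain ⟨w, hw, hwP, hd⟩ := h.cover_of_gens hi (res^[i + 1] (fixG G0 a)) (fun s hs z hz => by
      obtain ⟨t, ht, htr⟩ := hgen s hs
      obtain ⟨w, hw, hwP, hd⟩ := hW z hz
      obtain ⟨h1, h2⟩ := h.comm_cover hi hs ht.1 htr hz hwP hd
      exact ⟨_, h.comm_succ hi (by omega) (h.tower.ne i hi) ht.2 ht.1 hw hwP, h1, h2⟩) y hy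
    exact ⟨w, ⟨hwP, hw⟩, hd⟩

theorem exists_not_fixed (h : Climb G0 a r n P D q) : ∃ j ≤ n, (∀ l < j, Fixed a P D l) ∧ ¬ Fixed a P D j := by
  classical
  by_cases hall : ∀ l ≤ n, Fixed a P D l
  · refine absurd (fun y hy => ?_) (h.tower.proper n (by omega))
    obtain ⟨t, ht, hd⟩ := h.T_cover n (by omega) hall y hy
    have ht1 : t ∈ res^[n] (fixG G0 a) := ht.2
    rw [h.hC, Subgroup.mem_bot] at ht1
    rwa [ht1, inv_one, one_mul] at hd
  · push Not at hall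
    have hex : ∃ j, j ≤ n ∧ ¬ Fixed a P D j := hall
    obtain ⟨hj, hnf⟩ := Nat.find_spec hex
    exact ⟨Nat.find hex, hj, fun l hl => by_contra fun hc => Nat.find_min hex hl ⟨(hl.le.trans hj), hc⟩, hnf⟩

/-- The pair formed by a layer and the one above it. -/
theorem pair (h : Climb G0 a r n P D q) {k : ℕ} (hk : k + 1 < n + 2) [Fact (q (k + 1)).Prime] [Fact (q (k + 2)).Prime]
    (R₁ : Rep (P (k + 1)) (D (k + 1)) (q (k + 1))) (R₂ : Rep (P (k + 2)) (D (k + 2)) (q (k + 2)))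
    (h1 : dom a P (k + 1) ≤ nz (P (k + 1)) (D (k + 1))) (h2 : dom a P (k + 1) ≤ nz (P (k + 2)) (D (k + 2))) :
    Pair (R₂.π.comp (Subgroup.inclusion h2)) (R₁.π.comp (Subgroup.inclusion h1))
      ((P (k + 1)).subgroupOf (dom a P (k + 1))) ((D (k + 1)).subgroupOf (dom a P (k + 1)))
      ((P k).subgroupOf (dom a P (k + 1))) (fun x => R₁.mk x) := by
  have hP : P (k + 1) ≤ dom a P (k + 1) := le_dom le_rfl
  have hD : D (k + 1) ≤ P (k + 1) := h.tower.D_le _ hk.le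
  have key : ∀ x : dom a P (k + 1), (R₂.π.comp (Subgroup.inclusion h2)) x = 1 ↔ Triv (P (k + 2)) (D (k + 2)) (x : Γ) :=
    fun x => R₂.fix_iff ⟨x, h2 x.2⟩
  have hcomm : ∀ x y : dom a P (k + 1), (R₂.π.comp (Subgroup.inclusion h2)) (x * y)
      = (R₂.π.comp (Subgroup.inclusion h2)) (y * x) ↔
      Triv (P (k + 2)) (D (k + 2)) ((x : Γ) * y * (x : Γ)⁻¹ * (y : Γ)⁻¹) := by
    intro x y
    have e := key (x * y * x⁻¹ * y⁻¹)
    push_cast at e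
    rw [← e]
    constructor
    · intro hxy
      rw [show x * y * x⁻¹ * y⁻¹ = x * y * (y * x)⁻¹ by group, map_mul, hxy, ← map_mul, mul_inv_cancel, map_one]
    · intro hxy
      rw [show x * y = x * y * x⁻¹ * y⁻¹ * (y * x) by group, map_mul, hxy, one_mul]
  exact
  { norm_E := fun x e he => Subgroup.mem_subgroupOf.mpr (nconj (h1 x.2).1 (Subgroup.mem_subgroupOf.mp he))
    norm_D := fun x d hd => Subgroup.mem_subgroupOf.mpr (nconj (h1 x.2).2 (Subgroup.mem_subgroupOf.mp hd))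
    D_le := fun _ hx => hD hx
    mk_mul := fun e he f hf => R₁.mk_mul _ he _ hf
    mk_surj := fun v => by
      obtain ⟨e, he, rfl⟩ := R₁.mk_surj v
      exact ⟨⟨e, hP he⟩, he, rfl⟩
    mk_eq_zero := fun e he => R₁.mk_eq_zero _ he
    mk_conj := fun x e he => R₁.mk_conj ⟨x, h1 x.2⟩ _ he
    ne := (h.tower.ne (k + 1) hk).symm
    isPGroup := (h.tower.pgroup _ hk.le).of_equiv (Subgroup.subgroupOfEquivOfLe hP).symm
    ker_le := fun e he hρ => h.tower.ker_le _ hk e he ((key e).mp hρ)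
    D_central := fun d hd e he => (hcomm d e).mpr (h.tower.D_central _ hk d hd e he)
    S_cent := fun s hs d hd => (hcomm s d).mpr (h.tower.S_cent k hk s hs d hd)
    center_le := by
      rintro ⟨e₀, he₀, f₀, hf₀, hne⟩ e he hec
      refine h.tower.center_le _ hk ⟨e₀, he₀, f₀, hf₀, fun ht => hne ((hcomm e₀ f₀).mpr ht)⟩ e he fun f hf => ?_
      exact (hcomm e ⟨f, hP hf⟩).mp (hec _ hf)
    elem := fun hab d hd => (key d).mpr (h.tower.elem _ hk (fun e he f hf =>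
      (hcomm ⟨e, hP he⟩ ⟨f, hP hf⟩).mp (hab _ he _ hf)) d hd) }

end Climb

end Cfsg.Agent.TurullOne
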