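/-
Fixed vectors climb the tower one residual at a time.
-/
import Mathlib
import Cfsg.Agent.TurullOne.Pairs

set_option autoImplicit false
set_option linter.style.haveILetI false
set_option linter.unusedSectionVars false
set_option maxHeartbeats 800000

namespace Cfsg.Agent.TurullOne

open Module

universe u

variable {Γ : Type u} [Group Γ] [Finite Γ]

/-- A fixed element of layer `k + 1` in a deep residual lies in the part moved by layer `k`. -/
def GoodL (G0 : Subgroup Γ) (a : Γ) (P D : ℕ → Subgroup Γ) (q : ℕ → ℕ) (k : ℕ) : Prop :=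
  ∀ [Fact (q (k + 1)).Prime] (hle : dom a P k ≤ nz (P (k + 1)) (D (k + 1)))
    (R : Rep (P (k + 1)) (D (k + 1)) (q (k + 1))),
    ∃ B : Subgroup (dom a P k), B ≤ (P k).subgroupOf (dom a P k) ∧ ∃ Y : Submodule (ZMod (q (k + 1))) R.V,
      AbFpf (R.π.comp (Subgroup.inclusion hle)) ⟨a, mem_dom_a⟩ B Y ∧
      ∃ t ∈ P (k + 1), t ∈ res^[k - 1] (fixG G0 a) ∧
        R.mk t ∈ mv (R.π.comp (Subgroup.inclusion hle)) B Y ∧ R.mk t ≠ 0

namespace Climb

variable {G0 : Subgroup Γ} {a : Γ} {r n : ℕ} {P D : ℕ → Subgroup Γ} {q : ℕ → ℕ}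

theorem aX_pow (h : Climb G0 a r n P D q) (k : ℕ) : (⟨a, mem_dom_a⟩ : dom a P k) ^ r = 1 :=
  Subtype.ext (by simpa using h.ha)

theorem card_coprime (h : Climb G0 a r n P D q) {i k : ℕ} (hik : i ≤ k) (hi : i ≤ n + 2) :
    (Nat.card ((P i).subgroupOf (dom a P k))).Coprime r := by
  rw [Nat.card_congr (Subgroup.subgroupOfEquivOfLe (le_dom hik)).toEquiv, Nat.coprime_comm]
  exact h.hr.coprime_iff_not_dvd.mpr (h.coprime_card hi)

theorem isPGroup_sub (h : Climb G0 a r n P D q) {i k : ℕ} (hik : i ≤ k) (hi : i ≤ n + 2) :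
    IsPGroup (q i) ((P i).subgroupOf (dom a P k)) :=
  (h.tower.pgroup i hi).of_equiv (Subgroup.subgroupOfEquivOfLe (le_dom hik)).symm

/-- The double commutator with a fixed lift. -/
theorem vec_mem (h : Climb G0 a r n P D q) {l l' i : ℕ} (hl : l ≤ n + 2) (hll : l' < l)
    (hne : q l' ≠ q l) (R : Rep (P l) (D l) (q l)) {x : Γ} (hxP : x ∈ P l') (hxR : x ∈ res^[i] (fixG G0 a))
    {w : R.V} (hw : R.π ⟨a, h.tower.anorm l hl⟩ w = w) :
    ∃ u ∈ P l, u ∈ res^[i + 1] (fixG G0 a) ∧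
      R.mk u = R.π ⟨x, h.le_nz hll.le hl hxP⟩ (R.π ⟨x, h.le_nz hll.le hl hxP⟩ w - w)
        - (R.π ⟨x, h.le_nz hll.le hl hxP⟩ w - w) := by
  obtain ⟨c, hc, hcf, rfl⟩ := h.exists_fixed_lift hl R hw
  have hxn := h.le_nz hll.le hl hxP
  have h1 : x * c * x⁻¹ * c⁻¹ ∈ P l := ncomm hxn.1 hc
  refine ⟨x * (x * c * x⁻¹ * c⁻¹) * x⁻¹ * (x * c * x⁻¹ * c⁻¹)⁻¹, ncomm hxn.1 h1,
    h.comm_succ hl (hll.le.trans hl) hne hxR hxP (comm_R hxR hcf) h1, ?_⟩
  rw [R.mk_comm (x := ⟨x, hxn⟩) h1, R.mk_comm (x := ⟨x, hxn⟩) hc]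

theorem goodL_of_vec (h : Climb G0 a r n P D q) {k l' i : ℕ} (hk : k + 1 ≤ n + 2) (hl' : l' ≤ k)
    (hne : q l' ≠ q (k + 1)) (hi : k - 1 ≤ i + 1) [Fact (q (k + 1)).Prime] (R : Rep (P (k + 1)) (D (k + 1)) (q (k + 1)))
    (hle : dom a P k ≤ nz (P (k + 1)) (D (k + 1)))
    {B : Subgroup (dom a P k)} (hB : B ≤ (P k).subgroupOf (dom a P k)) {Y : Submodule (ZMod (q (k + 1))) R.V}
    (hY : AbFpf (R.π.comp (Subgroup.inclusion hle)) ⟨a, mem_dom_a⟩ B Y) {x : dom a P k} (hxP : (x : Γ) ∈ P l')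
    (hxR : (x : Γ) ∈ res^[i] (fixG G0 a)) {w : R.V}
    (hw : R.π.comp (Subgroup.inclusion hle) ⟨a, mem_dom_a⟩ w = w)
    (hm : R.π.comp (Subgroup.inclusion hle) x (R.π.comp (Subgroup.inclusion hle) x w - w)
        - (R.π.comp (Subgroup.inclusion hle) x w - w) ∈ mv (R.π.comp (Subgroup.inclusion hle)) B Y)
    (h0 : R.π.comp (Subgroup.inclusion hle) x (R.π.comp (Subgroup.inclusion hle) x w - w)
        - (R.π.comp (Subgroup.inclusion hle) x w - w) ≠ 0) :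
    ∃ B : Subgroup (dom a P k), B ≤ (P k).subgroupOf (dom a P k) ∧ ∃ Y : Submodule (ZMod (q (k + 1))) R.V,
      AbFpf (R.π.comp (Subgroup.inclusion hle)) ⟨a, mem_dom_a⟩ B Y ∧
      ∃ t ∈ P (k + 1), t ∈ res^[k - 1] (fixG G0 a) ∧
        R.mk t ∈ mv (R.π.comp (Subgroup.inclusion hle)) B Y ∧ R.mk t ≠ 0 := by
  obtain ⟨u, hu, huR, e⟩ := h.vec_mem hk (Nat.lt_succ_of_le hl') hne R hxP hxR (w := w) hw
  refine ⟨B, hB, Y, hY, u, hu, iterate_res_antitone _ hi huR, ?_, ?_⟩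
  · rw [e]; exact hm
  · rw [e]; exact h0

theorem goodL_succ (h : Climb G0 a r n P D q) {k : ℕ} (hk : k + 1 < n + 2) (hg : GoodL G0 a P D q k) :
    GoodL G0 a P D q (k + 1) := by
  intro hp hle R₂
  haveI : Fact (q (k + 1)).Prime := ⟨h.tower.prime _ hk.le⟩
  haveI : Fact (q (k + 1 + 1)).Prime := hp
  haveI : Fact (q (k + 2)).Prime := hp
  obtain ⟨R₁⟩ := h.exists_rep hk.le
  obtain ⟨B₀, hB₀, Y₀, hY₀, t, ht, htR, htm, ht0⟩ := hg (h.dom_le (Nat.le_succ k) hk.le) R₁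
  have h1 := h.dom_le (le_refl (k + 1)) hk.le
  have Pr := h.pair hk R₁ R₂ h1 hle
  let f := Subgroup.inclusion (dom_mono (a := a) (P := P) (Nat.le_succ k))
  have hf : ∀ x, (R₁.π.comp (Subgroup.inclusion h1)) (f x)
      = (R₁.π.comp (Subgroup.inclusion (h.dom_le (Nat.le_succ k) hk.le))) x := fun x => rfl
  have hY := hY₀.map f hf
  have hfB : B₀.map f ≤ (P k).subgroupOf (dom a P (k + 1)) := by
    rintro _ ⟨b, hb, rfl⟩
    exact hB₀ hb
  have hfp : IsPGroup (q k) (B₀.map f) := (h.isPGroup_sub (Nat.le_succ k) (by omega)).to_le hfB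
  haveI : Fact (q k).Prime := ⟨h.tower.prime _ (by omega)⟩
  set tX : dom a P (k + 1) := ⟨t, le_dom le_rfl ht⟩ with htX
  have hat : (⟨a, mem_dom_a⟩ : dom a P (k + 1)) * tX = tX * ⟨a, mem_dom_a⟩ := Subtype.ext (a_comm htR)
  have hR : Ready (R₂.π.comp (Subgroup.inclusion hle)) ⟨a, mem_dom_a⟩ ((P (k + 1)).subgroupOf (dom a P (k + 1))) tX :=
    Pr.ready_of_good h.hr (h.aX_pow _) (h.card_coprime le_rfl hk.le) hfB
      (natCast_ne_zero_of_isPGroup (q := q k) hfp (h.tower.ne k (by omega)).symm)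
      ((h.card_coprime (Nat.le_succ k) (by omega)).coprime_dvd_left (Subgroup.card_dvd_of_le hfB))
      ht hat hY (by rw [mv_map f hf]; exact htm) ht0
  obtain ⟨e, he⟩ := h.orderOf_pow hk.le ht
  have hN : ((q (k + 1) ^ e : ℕ) : ZMod (q (k + 2))) ≠ 0 := by
    intro h0
    rw [ZMod.natCast_eq_zero_iff] at h0
    exact h.tower.ne (k + 1) hk
      ((Nat.prime_dvd_prime_iff_eq hp.out (h.tower.prime _ hk.le)).mp (hp.out.dvd_of_dvd_pow h0)).symm
  obtain ⟨B, hB, Y, hY', w, haw, -, hm, h0⟩ := next_of_ready h.hr (h.aX_pow _)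
    (fun B hB => Weight.card_ne_zero Pr hB) hat hN
    (by rw [← map_pow, show tX ^ q (k + 1) ^ e = 1 from Subtype.ext (by simpa [htX] using he), map_one]) hR
  exact h.goodL_of_vec hk le_rfl (h.tower.ne (k + 1) hk) (by omega) R₂ hle hB hY' (x := tX) ht htR haw hm h0

theorem not_goodL_top (h : Climb G0 a r n P D q) : ¬ GoodL G0 a P D q (n + 1) := by
  intro hg
  haveI : Fact (q (n + 2)).Prime := ⟨h.tower.prime _ le_rfl⟩
  obtain ⟨R⟩ := h.exists_rep (le_refl (n + 2))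
  obtain ⟨B, -, Y, -, t, -, htR, -, ht0⟩ := hg (h.dom_le (Nat.le_succ _) le_rfl) R
  rw [show n + 1 - 1 = n from rfl, h.hC, Subgroup.mem_bot] at htR
  exact ht0 (by rw [htR]; exact R.mk_one)

theorem no_goodL (h : Climb G0 a r n P D q) {k : ℕ} (hk : k ≤ n + 1) : ¬ GoodL G0 a P D q k := by
  intro hg
  refine h.not_goodL_top ?_
  have : ∀ l, k ≤ l → l ≤ n + 1 → GoodL G0 a P D q l := by
    intro l hl
    induction l, hl using Nat.le_induction with
    | base => exact fun _ => hg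
    | succ l _ ih => exact fun hl' => h.goodL_succ (k := l) (by omega) (ih (by omega))
  intro _
  exact this (n + 1) hk le_rfl

/-- `a` moves the bottom layer. -/
theorem goodL_zero (h : Climb G0 a r n P D q) (hnf : ¬ Fixed a P D 0) : GoodL G0 a P D q 0 := by
  intro hp hle R
  set ρ := R.π.comp (Subgroup.inclusion hle) with hρ
  set E := (P 0).subgroupOf (dom a P 0) with hE
  set aX : dom a P 0 := ⟨a, mem_dom_a⟩ with haX
  have hn : ∀ e ∈ E, aX * e * aX⁻¹ ∈ E := fun e he =>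
    Subgroup.mem_subgroupOf.mpr (nconj (h.tower.anorm 0 (Nat.zero_le _)).1 (Subgroup.mem_subgroupOf.mp he))
  have hkey : ∀ x : dom a P 0, ρ x = 1 ↔ Triv (P 1) (D 1) (x : Γ) := fun x => R.fix_iff ⟨x, hle x.2⟩
  have hab : ∀ e ∈ E, ∀ f ∈ E, ρ (e * f) = ρ (f * e) := fun e he f hf => by
    rw [show e * f = e * f * e⁻¹ * f⁻¹ * (f * e) by group, map_mul, (hkey _).mpr (h.tower.base (by omega) _
      (h.tower.comm 0 (Nat.zero_le _) (e : Γ) (Subgroup.mem_subgroupOf.mp he) (f : Γ) (Subgroup.mem_subgroupOf.mp hf))),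
      one_mul]
  have hco := h.card_coprime (le_refl 0) (Nat.zero_le (n + 2))
  have hB : AbFpf ρ aX (commSub aX E) ⊤ :=
    abFpf_commSub h.hr (h.aX_pow 0) hn hco (fun _ _ _ _ => trivial) (fun _ _ => trivial)
      (fun b hb c hc y _ => by rw [hab b hb c hc])
  haveI : Fact (q 0).Prime := ⟨h.tower.prime _ (by omega)⟩
  have hBF : (Nat.card (commSub aX E) : ZMod (q (0 + 1))) ≠ 0 :=
    natCast_ne_zero_of_isPGroup (q := q 0) ((h.isPGroup_sub le_rfl (Nat.zero_le _)).to_le (commSub_le hn))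
      (h.tower.ne 0 (by omega)).symm
  obtain ⟨v, hvm, hva, hv0⟩ : ∃ v ∈ mv ρ (commSub aX E) ⊤, ρ aX v = v ∧ v ≠ 0 := by
    by_contra! hcon
    have hz := hB.kill_of_fixed h.hr (h.aX_pow 0) hBF LinearMap.id
      (fun b _ w _ _ h0 => by rw [show w = 0 from h0, map_zero, map_zero]) (fun w hw haw => hcon w hw haw)
    refine hnf fun y hy => h.tower.ker_le 0 (by omega) _ (ncomm (h.tower.anorm 0 (Nat.zero_le _)).1 hy) ?_
    set yX : dom a P 0 := ⟨y, le_dom le_rfl hy⟩ with hyX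
    have hb : yX⁻¹⁻¹ * (aX * yX⁻¹ * aX⁻¹) ∈ commSub aX E :=
      mem_commSub (inv_mem (Subgroup.mem_subgroupOf.mpr hy))
    have h1 : ρ (yX⁻¹⁻¹ * (aX * yX⁻¹ * aX⁻¹)) = 1 := LinearMap.ext fun z =>
      sub_eq_zero.mp (hz _ (sub_mem_mv hb (Submodule.mem_top (x := z))))
    have h2 : ρ (yX⁻¹⁻¹ * (aX * yX⁻¹ * aX⁻¹))⁻¹ = 1 := by
      have := map_mul ρ (yX⁻¹⁻¹ * (aX * yX⁻¹ * aX⁻¹)) (yX⁻¹⁻¹ * (aX * yX⁻¹ * aX⁻¹))⁻¹
      rw [mul_inv_cancel, map_one, h1, one_mul] at this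
      exact this.symm
    have h3 := (hkey _).mp h2
    push_cast at h3
    simpa [haX, hyX, mul_assoc] using h3
  obtain ⟨c, hc, hcf, rfl⟩ := h.exists_fixed_lift (k := 1) (by omega) R (v := v) hva
  exact ⟨_, commSub_le hn, ⊤, hB, c, hc, hcf, hvm, hv0⟩

/-- The first moved layer gives a good vector one or two layers up. -/
theorem exists_goodL_succ (h : Climb G0 a r n P D q) {i : ℕ} (hi : i + 1 ≤ n) (hfix : ∀ l ≤ i, Fixed a P D l)
    (hnf : ¬ Fixed a P D (i + 1)) : GoodL G0 a P D q (i + 1) ∨ GoodL G0 a P D q (i + 2) := by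
  classical
  haveI hq1 : Fact (q (i + 1)).Prime := ⟨h.tower.prime _ (by omega)⟩
  haveI hq2 : Fact (q (i + 2)).Prime := ⟨h.tower.prime _ (by omega)⟩
  haveI hq3 : Fact (q (i + 3)).Prime := ⟨h.tower.prime _ (by omega)⟩
  by_contra hcon
  rw [not_or] at hcon
  obtain ⟨hng1, hng2⟩ := hcon
  obtain ⟨R₁⟩ := h.exists_rep (k := i + 1) (by omega)
  apply hng1
  intro hp2 hle2 R₂
  by_contra hno1
  push Not at hno1
  have hle1 := h.dom_le (k := i + 1) (j := i + 1) le_rfl (by omega)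
  have Pr := h.pair (k := i) (by omega) R₁ R₂ hle1 hle2
  set Xd := dom a P (i + 1) with hXd
  set ρ := R₂.π.comp (Subgroup.inclusion hle2) with hρ
  set π := R₁.π.comp (Subgroup.inclusion hle1) with hπ
  set aX : Xd := ⟨a, mem_dom_a⟩ with haX
  set S0 := (P i ⊓ res^[i] (fixG G0 a)).subgroupOf Xd with hS0
  set Cand := R₂.img (res^[i] (fixG G0 a)) with hCand
  have hT := h.T_cover i (by omega) hfix
  have hgenT := h.tower.gen i (by omega) _ inf_le_left hT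
  have hPi : P i ≤ Xd := le_dom (Nat.le_succ i)
  have hPi1 : P (i + 1) ≤ Xd := le_dom le_rfl
  have hmem : ∀ {x : Xd}, x ∈ S0 → (x : Γ) ∈ P i ∧ (x : Γ) ∈ res^[i] (fixG G0 a) :=
    fun hx => Subgroup.mem_subgroupOf.mp hx
  have hcand : ∀ s ∈ S0, ∀ v, ρ aX v = v → ρ s v - v ∈ Cand := by
    intro s hs v hv
    obtain ⟨c, hc, hcf, rfl⟩ := h.exists_fixed_lift (k := i + 2) (by omega) R₂ hv
    have hsn := h.le_nz (k := i) (j := i + 2) (by omega) (by omega) (hmem hs).1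
    show R₂.π ⟨s, hsn⟩ (R₂.mk c) - R₂.mk c ∈ Cand
    rw [← R₂.mk_comm (x := ⟨(s : Γ), hsn⟩) hc]
    exact R₂.mk_mem_img (ncomm hsn.1 hc) (comm_R (hmem hs).2 hcf)
  have hspan : Submodule.span (ZMod (q (i + 1))) {x | ∃ s ∈ S0, ∃ m, π s m - m = x} = ⊤ := by
    refine eq_top_iff.mpr fun m hm => ?_
    clear hm
    obtain ⟨e, he, rfl⟩ := R₁.mk_surj m
    have hec := h.tower.gen_comm i (by omega) he
    suffices e ∈ P (i + 1) ∧ R₁.mk e ∈ Submodule.span (ZMod (q (i + 1))) {x | ∃ s ∈ S0, ∃ m, π s m - m = x} from this.2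
    clear he
    induction hec using Subgroup.closure_induction with
    | mem z hz =>
      obtain ⟨s, hs, y, hy, rfl⟩ := hz
      obtain ⟨t, ht, htr⟩ := hgenT s hs
      have hsn := h.le_nz (k := i) (j := i + 1) (by omega) (by omega) hs
      refine ⟨ncomm hsn.1 hy, Submodule.subset_span ⟨⟨t, hPi ht.1⟩, Subgroup.mem_subgroupOf.mpr ht, R₁.mk y, ?_⟩⟩
      rw [R₁.mk_comm (x := ⟨s, hsn⟩) hy, h.pi_eq_of_triv (by omega) R₁ hs ht.1 htr]
      rfl
    | one => exact ⟨one_mem _, by rw [R₁.mk_one]; exact zero_mem _⟩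
    | mul z w _ _ hz hw => exact ⟨mul_mem hz.1 hw.1, by rw [R₁.mk_mul _ hz.1 _ hw.1]; exact add_mem hz.2 hw.2⟩
    | inv z _ hz => exact ⟨inv_mem hz.1, by rw [R₁.mk_inv hz.1]; exact neg_mem hz.2⟩
  have hgen : ∀ H ≤ (P (i + 1)).subgroupOf Xd, (∀ m, ∃ x ∈ H, R₁.mk (x : Γ) = m) →
      ∀ e ∈ (P (i + 1)).subgroupOf Xd, ∃ x ∈ H, ρ x = ρ e := by
    intro H hH hsurj e he
    obtain ⟨w, hw, htr⟩ := h.tower.gen (i + 1) (by omega) (H.map Xd.subtype)
      (by rintro _ ⟨x, hx, rfl⟩; exact hH hx)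
      (fun y hy => by
        obtain ⟨x, hx, e'⟩ := hsurj (R₁.mk y)
        exact ⟨x, ⟨x, hx, rfl⟩, h.cover_of_mk_eq R₁ (hH hx) hy e'⟩) (e : Γ) he
    obtain ⟨x, hx, rfl⟩ := hw
    refine ⟨x, hx, ?_⟩
    have h1 : ρ (x⁻¹ * e) = 1 := (R₂.fix_iff ⟨_, hle2 (x⁻¹ * e).2⟩).mpr htr
    conv_rhs => rw [show e = x * (x⁻¹ * e) by group]
    rw [map_mul, h1, mul_one]
  have hmove : ∃ m, π aX m ≠ m := by
    by_contra! hall
    exact hnf ((R₁.fix_iff ⟨a, h.tower.anorm (i + 1) (by omega)⟩).mp (LinearMap.ext fun m => hall m))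
  have L : Layer ρ π ((P (i + 1)).subgroupOf Xd) ((D (i + 1)).subgroupOf Xd) ((P i).subgroupOf Xd)
      (fun x => R₁.mk x) aX r (q i) S0 :=
    { pair := Pr
      hr := h.hr
      ho := h.tower.prime i (by omega)
      hro := fun e => h.natCast_r_ne (k := i) (by omega) (by rw [e, ZMod.natCast_self])
      ha := h.aX_pow _
      hrp := h.natCast_r_ne (k := i + 2) (by omega)
      hrq := h.natCast_r_ne (k := i + 1) (by omega)
      hrE := h.card_coprime le_rfl (by omega)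
      hoq := h.tower.ne i (by omega)
      hS0 := (h.isPGroup_sub (Nat.le_succ i) (by omega)).to_le (fun x hx => (hmem hx).1)
      hS0a := fun s hs => Subtype.ext (a_comm (hmem hs).2)
      hS0D := fun s hs d hd => Pr.S_cent s (hmem hs).1 d hd
      hmove := hmove
      hspan := hspan
      hgen := hgen }
  have hgood : ¬ GoodAt ρ ((P (i + 1)).subgroupOf Xd) aX Cand := by
    rintro ⟨B, hB, Y, hY, v, hvC, -, hvm, hv0⟩
    obtain ⟨e, he, heR, rfl⟩ := R₂.mem_img hvC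
    exact hv0 (hno1 B hB Y hY e he (by simpa using heR) hvm)
  by_cases hab : ∀ e ∈ (P (i + 1)).subgroupOf Xd, ∀ f ∈ (P (i + 1)).subgroupOf Xd, ρ (e * f) = ρ (f * e)
  · exact hgood (L.good_of_abelian hcand hab)
  by_cases hD : ∃ d ∈ (D (i + 1)).subgroupOf Xd, ρ (aX * d * aX⁻¹) ≠ ρ d
  · exact hgood (L.good_of_center_moved hcand hD)
  push Not at hab hD
  have hx : (∀ v, ρ aX v = v → v ∈ Cand) ∨ ∃ X2, Below ρ π ((D (i + 1)).subgroupOf Xd) aX S0 X2 Cand := by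
    rcases Nat.eq_zero_or_pos i with hi0 | hipos
    · left
      intro v hv
      obtain ⟨c, hc, hcf, rfl⟩ := h.exists_fixed_lift (k := i + 2) (by omega) R₂ hv
      exact R₂.mk_mem_img hc (by subst hi0; exact hcf)
    right
    obtain ⟨i', rfl⟩ : ∃ i', i = i' + 1 := ⟨i - 1, by omega⟩
    have hT2 := h.T_cover i' (by omega) fun l hl => hfix l (by omega)
    have hgenT2 := h.tower.gen i' (by omega) _ inf_le_left hT2
    set X2 := (P i' ⊓ res^[i'] (fixG G0 a)).subgroupOf Xd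
    refine ⟨X2, ⟨fun x hx => Subtype.ext (a_comm (Subgroup.mem_subgroupOf.mp hx).2), ?_, ?_, ?_⟩⟩
    · intro x hx s hs
      have hx' := Subgroup.mem_subgroupOf.mp hx
      exact Subgroup.mem_subgroupOf.mpr ⟨nconj (h.le_nz (Nat.le_succ i') (by omega) hx'.1).1 (hmem hs).1,
        conj_R (R_le_fix i' hx'.2) (hmem hs).2⟩
    · intro s hs
      let H0 := Subgroup.closure {c | ∃ y ∈ P (i' + 1) ⊓ res^[i' + 1] (fixG G0 a),
        ∃ x ∈ P i' ⊓ res^[i'] (fixG G0 a), y * x * y⁻¹ * x⁻¹ = c}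
      have hH0 : H0 ≤ P (i' + 1) := by
        rw [Subgroup.closure_le]
        rintro _ ⟨y, hy, x, hx, rfl⟩
        rw [show y * x * y⁻¹ * x⁻¹ = y * (x * y⁻¹ * x⁻¹) by group]
        exact mul_mem hy.1 (nconj (h.le_nz (Nat.le_succ i') (by omega) hx.1).1 (inv_mem hy.1))
      have hcov : ∀ y ∈ P (i' + 1), ∃ w ∈ H0, w⁻¹ * y ∈ D (i' + 1) := fun y hy => by
        obtain ⟨w, hw, -, hd⟩ := h.cover_of_gens (k := i') (by omega) H0 (fun s0 hs0 z hz => by
          obtain ⟨t, ht, htr⟩ := hgenT2 s0 hs0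
          obtain ⟨w, hw, hd⟩ := hT z hz
          obtain ⟨h1, h2⟩ := h.comm_cover (by omega) hs0 ht.1 htr hz hw.1 hd
          refine ⟨_, ?_, h1, h2⟩
          rw [show t * w * t⁻¹ * w⁻¹ = (w * t * w⁻¹ * t⁻¹)⁻¹ by group]
          exact inv_mem (Subgroup.subset_closure ⟨w, hw, t, ht, rfl⟩)) y hy
        exact ⟨w, hw, hd⟩
      obtain ⟨c, hc, htr⟩ := h.tower.gen (i' + 1) (by omega) H0 hH0 hcov (s : Γ) (hmem hs).1
      refine ⟨⟨c, hPi (hH0 hc)⟩, ?_, (h.pi_eq_of_triv (by omega) R₁ (hmem hs).1 (hH0 hc) htr).symm⟩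
      suffices ∀ c ∈ H0, ∃ hcX : c ∈ Xd, (⟨c, hcX⟩ : Xd) ∈
          Subgroup.closure {c | ∃ y ∈ S0, ∃ x ∈ X2, y * x * y⁻¹ * x⁻¹ = c} from (this c hc).2
      intro c hc
      induction hc using Subgroup.closure_induction with
      | mem z hz =>
        obtain ⟨y, hy, x, hx, rfl⟩ := hz
        have hxX : x ∈ Xd := le_dom (show i' ≤ i' + 1 + 1 by omega) hx.1
        have hzX : y * x * y⁻¹ * x⁻¹ ∈ Xd :=
          Xd.mul_mem (Xd.mul_mem (Xd.mul_mem (hPi hy.1) hxX) (inv_mem (hPi hy.1))) (inv_mem hxX)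
        exact ⟨hzX, Subgroup.subset_closure ⟨⟨y, hPi hy.1⟩, Subgroup.mem_subgroupOf.mpr hy, ⟨x, hxX⟩,
          Subgroup.mem_subgroupOf.mpr hx, Subtype.ext (by simp)⟩⟩
      | one => exact ⟨one_mem _, one_mem _⟩
      | mul z w _ _ hz hw => exact ⟨mul_mem hz.1 hw.1, mul_mem hz.2 hw.2⟩
      | inv z _ hz => exact ⟨inv_mem hz.1, inv_mem hz.2⟩
    · intro x hx d hd had v hv
      have hx' := Subgroup.mem_subgroupOf.mp hx
      have hd' := Subgroup.mem_subgroupOf.mp hd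
      have hxn := h.le_nz (k := i') (j := i' + 1 + 1) (by omega) (by omega) hx'.1
      have hdf : (d : Γ) ∈ fixG G0 a := mem_fixG.mpr
        ⟨h.tower.le_G0 _ (by omega) (h.tower.D_le _ (by omega) hd'), congrArg Subtype.val had⟩
      have hzP : (x : Γ) * d * (x : Γ)⁻¹ * (d : Γ)⁻¹ ∈ P (i' + 1 + 1) := ncomm hxn.1 (h.tower.D_le _ (by omega) hd')
      obtain ⟨u, hu, huR, e⟩ := h.vec_mem (l := i' + 1 + 2) (l' := i' + 1 + 1) (by omega) (by omega)
        (h.tower.ne (i' + 1 + 1) (by omega)) R₂ hzP (comm_R hx'.2 hdf) (w := v) hv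
      have h2 := R₂.mk_mem_img hu huR
      rw [e] at h2
      exact h2
  rcases L.out hcand hab hD hx with hg | ⟨⟨s, hs, v, hsv⟩, T, hT0, hTC, hTa, hdim, hpure⟩
  · exact hgood hg
  -- the next pair
  refine hng2 fun hle3 R₃ => ?_
  have hle2' := h.dom_le (k := i + 2) (j := i + 2) le_rfl (by omega)
  have Pr2 := h.pair (k := i + 1) (by omega) R₂ R₃ hle2' hle3
  set Xd2 := dom a P (i + 2) with hXd2
  set ρ' := R₃.π.comp (Subgroup.inclusion hle3) with hρ'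
  set π' := R₂.π.comp (Subgroup.inclusion hle2') with hπ'
  set aY : Xd2 := ⟨a, mem_dom_a⟩ with haY
  have hπa : π' aY = ρ aX := rfl
  have hco : (Nat.card ((P (i + 2)).subgroupOf Xd2)).Coprime r := h.card_coprime le_rfl (by omega)
  have hready : ∀ x : Xd2, (x : Γ) ∈ P (i + 2) → (x : Γ) ∈ res^[i] (fixG G0 a) → aY * x = x * aY →
      Ready ρ' aY ((P (i + 2)).subgroupOf Xd2) x → ∃ B : Subgroup Xd2, B ≤ (P (i + 2)).subgroupOf Xd2 ∧
        ∃ Y : Submodule (ZMod (q (i + 2 + 1))) R₃.V, AbFpf ρ' aY B Y ∧ ∃ t ∈ P (i + 2 + 1),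
          t ∈ res^[i + 2 - 1] (fixG G0 a) ∧ R₃.mk t ∈ mv ρ' B Y ∧ R₃.mk t ≠ 0 := by
    intro x hxP hxR hax hR
    obtain ⟨e, he⟩ := h.orderOf_pow (k := i + 2) (by omega) hxP
    have hN : ((q (i + 2) ^ e : ℕ) : ZMod (q (i + 3))) ≠ 0 := by
      intro h0
      rw [ZMod.natCast_eq_zero_iff] at h0
      exact h.tower.ne (i + 2) (by omega)
        ((Nat.prime_dvd_prime_iff_eq hq3.out hq2.out).mp (hq3.out.dvd_of_dvd_pow h0)).symm
    obtain ⟨B, hB, Y, hY', w, haw, -, hm, h0⟩ := next_of_ready h.hr (h.aX_pow _)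
      (fun B hB => Weight.card_ne_zero Pr2 hB) hax hN
      (by rw [← map_pow, show x ^ q (i + 2) ^ e = 1 from Subtype.ext (by simpa using he), map_one]) hR
    exact h.goodL_of_vec (k := i + 2) (l' := i + 2) (i := i) (by omega) le_rfl (h.tower.ne (i + 2) (by omega))
      (by omega) R₃ hle3 hB hY' hxP hxR haw hm h0
  have hlift : ∀ t ∈ T, ∃ x ∈ (P (i + 2)).subgroupOf Xd2, x ∈ {x : Xd2 | (x : Γ) ∈ res^[i] (fixG G0 a)} ∧
      aY * x = x * aY ∧ R₂.mk (x : Γ) = t := by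
    intro t ht
    obtain ⟨e, he, heR, rfl⟩ := R₂.mem_img (hTC ht)
    exact ⟨⟨e, le_dom le_rfl he⟩, he, heR, Subtype.ext (a_comm heR), rfl⟩
  have hup : ∀ b : Xd, (b : Γ) ∈ P (i + 1) → (⟨b, dom_mono (Nat.le_succ _) b.2⟩ : Xd2) ∈ (P (i + 1)).subgroupOf Xd2 :=
    fun b hb => hb
  by_cases hab2 : ∀ e ∈ (P (i + 2)).subgroupOf Xd2, ∀ f ∈ (P (i + 2)).subgroupOf Xd2, ρ' (e * f) = ρ' (f * e)
  · by_cases ho : q i = q (i + 2)
    · -- an element from two layers below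
      obtain ⟨hsP, hsR⟩ := hmem hs
      obtain ⟨e, he⟩ := h.orderOf_pow (k := i) (by omega) hsP
      set sY : Xd2 := ⟨s, dom_mono (Nat.le_succ _) s.2⟩ with hsY
      have hNr : ¬ r ∣ q i ^ e := fun hd =>
        L.hro ((Nat.prime_dvd_prime_iff_eq h.hr L.ho).mp (h.hr.dvd_of_dvd_pow hd))
      have hNp : ((q i ^ e : ℕ) : ZMod (q (i + 3))) ≠ 0 := by
        intro h0
        rw [ZMod.natCast_eq_zero_iff] at h0
        exact h.tower.ne (i + 2) (by omega)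
          (ho ▸ ((Nat.prime_dvd_prime_iff_eq hq3.out (h.tower.prime i (by omega))).mp (hq3.out.dvd_of_dvd_pow h0)).symm)
      obtain ⟨B, hB, Y, hY', w, haw, hm, h0⟩ := Pr2.moved_of_univ hab2 h.hr (h.aX_pow _)
        (h.natCast_r_ne (k := i + 3) (by omega)) hco (s := sY) (Subtype.ext (a_comm hsR)) (N := q i ^ e)
        (Subtype.ext (by simpa [hsY] using he)) hNr hNp (u := v) hsv
      exact h.goodL_of_vec (k := i + 2) (l' := i) (i := i) (by omega) (by omega)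
        (fun e' => h.tower.ne (i + 2) (by omega) (ho.symm.trans e')) (by omega) R₃ hle3 hB hY' (x := sY) hsP hsR haw hm h0
    · have hop : (q i : ZMod (q (i + 2))) ≠ 0 := by
        intro h0
        rw [ZMod.natCast_eq_zero_iff] at h0
        exact ho ((Nat.prime_dvd_prime_iff_eq hq2.out (h.tower.prime i (by omega))).mp h0).symm
      obtain ⟨x, hxE, hxL, hxa, -, hR⟩ := Pr2.ready_of_pure hab2 h.hr (h.aX_pow _) hco hT0
        (fun l hl => hpure hop l fun b hb => hl ⟨b, dom_mono (Nat.le_succ _) b.2⟩ (hup b hb)) hlift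
      exact hready x hxE hxL hxa hR
  · push Not at hab2
    obtain ⟨t, htT, ht0⟩ := Submodule.exists_mem_ne_zero_of_ne_bot hT0
    obtain ⟨x, hxE, hxR, hxa, rfl⟩ := hlift t htT
    obtain ⟨e, he, hne⟩ : ∃ e ∈ (P (i + 2)).subgroupOf Xd2, ρ' (x * e) ≠ ρ' (e * x) := by
      by_contra! hall
      exact ht0 ((R₂.mk_eq_zero _ hxE).mpr (Pr2.center_le hab2 x hxE hall))
    have hR := Pr2.ready_of_dim h.hr (h.aX_pow _) (h.natCast_r_ne (k := i + 2) (by omega)) hco (T := T)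
      (fun Rd hRd hnle => hdim Rd (fun b hb v hv => hRd ⟨b, dom_mono (Nat.le_succ _) b.2⟩ (hup b hb) v hv) hnle)
      hxE hxa htT he hne
    exact hready x hxE hxR hxa hR

theorem absurd (h : Climb G0 a r n P D q) : False := by
  obtain ⟨j, hj, hfix, hnf⟩ := h.exists_not_fixed
  cases j with
  | zero => exact h.no_goodL (k := 0) (by omega) (h.goodL_zero hnf)
  | succ i =>
    rcases h.exists_goodL_succ hj (fun l hl => hfix l (by omega)) hnf with hg | hg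
    · exact h.no_goodL (by omega) hg
    · exact h.no_goodL (by omega) hg

end Climb

/-- The residual series of a group exceeds that of the fixed points of a coprime operator of prime order
by at most two. -/
theorem res_eq_bot {G0 : Subgroup Γ} {a : Γ} {r n : ℕ} (hr : r.Prime) (ha : a ^ r = 1) [Group.IsSolvable G0]
    (hrG : ¬ r ∣ Nat.card G0) (haG : a ∈ Subgroup.normalizer (G0 : Set Γ))
    (hC : res^[n] (fixG G0 a) = ⊥) : res^[n + 2] G0 = ⊥ := by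
  by_contra hne
  obtain ⟨P, D, q, T⟩ := exists_tower hr ha hrG haG hne
  exact Climb.absurd ⟨T, hr, ha, hrG, hC⟩

end Cfsg.Agent.TurullOne
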